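import Cfsg.Agent.Lib.Classical.QutritU.Small.Invol

/-!
# In odd characteristic every member normalises
-/

set_option autoImplicit false
set_option linter.unusedSectionVars false
set_option linter.unusedSimpArgs false
set_option linter.style.haveILetI false

namespace CfsgLib.Classical.QutritU

open Matrix hiding row row_apply
open CfsgLib.Classical.QutritMax
open scoped Kronecker

variable {F : Type*} [Field F] {σ : F →+* F} {ω : F} {p : ℕ} {H : Subgroup (M9 F)ˣ}

namespace Amb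

variable (hH : Amb σ ω p H) [Finite F]
include hH

theorem lift_image {z : (M9 F)ˣ} (hnor : Nor ω (z : M9 F)) (hx : (z : M9 F) * xM ω = xM ω * (z : M9 F)) (v : Pt) :
    ∃ k u i w, (z : M9 F) * Bv ω v = Rm ω k (0, u) (i, w) * (z : M9 F) := by
  have hω := hH.root
  obtain ⟨s, ⟨k, u, t, rfl⟩, e⟩ := hnor (Bv ω v) ⟨_, _, _, rfl⟩
  have e1 : (xM ω : M9 F) = Rm ω 0 0 (1, 0) := by simp [Rm, wp_zero, sh_zero, xM]
  have hxx : (Bv ω v : M9 F) * xM ω = xM ω * Bv ω v := by
    rw [e1, Bv, Rm_mul hω, Rm_mul hω]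
    congr 1 <;> simp [dot, add_comm]
  have hs : (Rm ω k u t : M9 F) * xM ω = xM ω * Rm ω k u t := by
    refine (Units.mul_left_inj z).1 ?_
    rw [mul_assoc, mul_assoc, ← hx, ← mul_assoc, ← e, mul_assoc, hxx, ← mul_assoc, hx, mul_assoc]
  rw [e1, Rm_mul hω, Rm_mul hω] at hs
  have := (Rm_injective hω hs).1
  simp [dot] at this
  obtain ⟨u1, u2⟩ := u
  obtain rfl : u1 = 0 := this
  exact ⟨k, u2, t.1, t.2, e⟩

/-- An involution in the derived group commuting with the central generator cannot occur. -/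
theorem invol_fixing_x (h2 : p ≠ 2) (hS : SM ω H) {z : (M9 F)ˣ} (hz : z ∈ H) (hz1 : z ≠ 1) (hzz : (z : M9 F) * (z : M9 F) = 1)
    (hP : (z : M9 F) * P1 0 = (P1 0 : M9 F) * (z : M9 F)) (hx : (z : M9 F) * xM ω = xM ω * (z : M9 F))
    (htr : (z : M9 F).trace - 2 * ((z : M9 F) * P1 0).trace = 3) : False := by
  have hω := hH.root
  have hnor := hH.nor_cent_P1 h2 hS hz hP
  obtain ⟨k, u, i, w, e1⟩ := hH.lift_image hnor hx (0, 1)
  obtain ⟨k', u', i', w', e2⟩ := hH.lift_image hnor hx (1, 0)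
  have back : ∀ {A B : M9 F}, (z : M9 F) * A = B * (z : M9 F) → (z : M9 F) * B = A * (z : M9 F) := by
    intro A B e
    calc (z : M9 F) * B = (z : M9 F) * (B * (z : M9 F)) * (z : M9 F) := by simp only [mul_assoc, hzz, mul_one]
      _ = A * (z : M9 F) := by rw [← e, ← mul_assoc, hzz, one_mul]
  have pair : ∀ {A B C D : M9 F}, (z : M9 F) * A = B * (z : M9 F) → (z : M9 F) * C = D * (z : M9 F) →
      (z : M9 F) * (A * C) = B * D * (z : M9 F) := fun {A B C D} a c => by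
    rw [← mul_assoc, a, mul_assoc, c, mul_assoc]
  have shift : ∀ (a b : ZMod 3) (U W : Pt), (Rm ω (a + b) U W : M9 F) = wp ω b • Rm ω a U W := fun a b U W => by
    rw [Rm, Rm, smul_smul, ← wp_add hω, add_comm a b]
  have scalar_back : ∀ {a b c : ZMod 3} {U W U' W' : Pt}, (z : M9 F) * Rm ω a U W = Rm ω c U' W' * (z : M9 F) →
      (z : M9 F) * Rm ω (a + b) U W = Rm ω (c + b) U' W' * (z : M9 F) := fun {a b c U W U' W'} e => by
    rw [shift, shift, Matrix.mul_smul, e, Matrix.smul_mul]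
  have unique : ∀ {a c : ZMod 3} {U W U' W' : Pt}, (Rm ω a U W : M9 F) * (z : M9 F) = Rm ω c U' W' * (z : M9 F) → a = c :=
    fun {a c U W U' W'} e => (Rm_injective hω ((Units.mul_left_inj z).1 e)).1
  -- the lift of the phase stays on its line
  have hu : u = 0 := by
    have f1 := pair (back e1) e1
    have f2 := pair e1 (back e1)
    rw [Bv, Rm_mul hω, Rm_mul hω] at f1 f2
    simp only [dot, Prod.mk_add_mk, add_zero, zero_add, mul_zero, zero_mul, one_mul] at f1 f2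
    rw [add_comm ((1 : ZMod 3)) w] at f1
    have g := scalar_back (b := u) f1
    rw [add_comm (1 : ZMod 3) w] at f2
    have := unique (f2.symm.trans g)
    exact shift_two u (by linear_combination -this)
  have hw : w' = 0 := by
    have f1 := pair (back e2) e2
    have f2 := pair e2 (back e2)
    rw [Bv, Rm_mul hω, Rm_mul hω] at f1 f2
    simp only [dot, Prod.mk_add_mk, add_zero, zero_add, mul_zero, zero_mul, mul_one] at f1 f2
    rw [add_comm (1 : ZMod 3) u'] at f1 f2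
    have g := scalar_back (b := w') f2
    have := unique (f1.symm.trans g)
    exact shift_two w' (by linear_combination -this)
  subst hu hw
  -- the form is preserved
  have hdet : k + k' + 1 = k + k' + w * u' := by
    have f1 := pair e1 e2
    have f2 := pair e2 e1
    rw [Bv, Bv, Rm_mul hω, Rm_mul hω] at f1 f2
    simp only [dot, Prod.mk_add_mk, add_zero, zero_add, mul_zero, zero_mul, one_mul] at f1 f2
    have g := scalar_back (b := 1) f2
    rw [zero_add, add_comm k' k, add_comm i' i] at g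
    exact unique (g.symm.trans f1)
  rcases sigma_table u' w (k + k') hdet with ⟨rfl, rfl⟩ | ⟨rfl, rfl⟩
  · -- trivial on classes
    have triv : ∀ {c i : ZMod 3} {v : Pt}, (z : M9 F) * Bv ω v = Rm ω c (0, v.1) (i, v.2) * (z : M9 F) →
        (z : M9 F) * Bv ω v = Bv ω v * (z : M9 F) := by
      intro c i v e
      have e' := step_class hω hx e c i
      rw [back e] at e'
      obtain ⟨a, -, b⟩ := Rm_injective hω (show (Rm ω 0 (0, v.1) (0, v.2) : M9 F) = Rm ω (c + c) (0, v.1) (i + i, v.2) from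
        (Units.mul_left_inj z).1 e')
      rw [e, shift_two c a.symm, shift_two i (Prod.ext_iff.1 b).1.symm, Bv]
    obtain ⟨l, f, -, hl, ez⟩ := hH.scalar_member h2 hS hz hx (triv (v := (0, 1)) e1) (triv (v := (1, 0)) e2)
    exact hz1 (Units.ext (by rw [ez] at hzz; rw [ez, hH.scaled_sq hl hzz, Units.val_one]))
  · -- the negation
    obtain ⟨e, he⟩ := hH.exists_Mv k i k' i'
    obtain ⟨z', hz'⟩ : ∃ z', z' = e⁻¹ * z * e := ⟨_, rfl⟩
    have hei : ∀ {A B : M9 F}, (e : M9 F) * A = B * (e : M9 F) → ((e⁻¹ : (M9 F)ˣ) : M9 F) * B = A * ((e⁻¹ : (M9 F)ˣ) : M9 F) := by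
      intro A B h
      calc ((e⁻¹ : (M9 F)ˣ) : M9 F) * B = ((e⁻¹ : (M9 F)ˣ) : M9 F) * (B * (e : M9 F)) * ((e⁻¹ : (M9 F)ˣ) : M9 F) := by
            simp only [mul_assoc, Units.mul_inv, mul_one]
        _ = A * ((e⁻¹ : (M9 F)ˣ) : M9 F) := by rw [← h, ← mul_assoc, Units.inv_mul, one_mul]
    have hz'x : (z' : M9 F) * xM ω = xM ω * (z' : M9 F) := by
      rw [hz', Units.val_mul, Units.val_mul]
      exact ((Commute.mul_left (Commute.units_inv_left he.cx) hx).mul_left he.cx : _)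
    have a1 : (z' : M9 F) * Bv ω (0, 1) = Rm ω 0 (0, 0) (0, 2) * (z' : M9 F) := by
      have h2 := pair (A := Bv ω (0, 1)) (C := Bv ω (0, 1)) (B := Rm ω k (0, 0) (i, 2)) e1 e1
      have g : (z : M9 F) * Rm ω k (0, 0) (i, 1) = Rm ω (k + k) (0, 0) (i + i, 2) * (z : M9 F) :=
        step_class hω hx (v := (0, 1)) (w := (0, 2)) e1 k i
      have sq : (e : M9 F) * Rm ω 0 (0, 0) (0, 2) = Rm ω (k + k) (0, 0) (i + i, 2) * (e : M9 F) := by
        have hB : (Bv ω (0, 1) * Bv ω (0, 1) : M9 F) = Rm ω 0 (0, 0) (0, 2) := by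
          rw [Bv, Rm_mul hω]
          simp only [dot, Prod.mk_add_mk, add_zero, mul_zero, zero_mul, show (1 : ZMod 3) + 1 = 2 by decide]
        rw [← hB, ← mul_assoc, he.eq1, mul_assoc, he.eq1, ← mul_assoc, Rm_mul hω]
        simp only [dot, Prod.mk_add_mk, add_zero, mul_zero, zero_mul, show (1 : ZMod 3) + 1 = 2 by decide]
      simp only [hz', Units.val_mul, mul_assoc]
      rw [he.eq1, ← mul_assoc (z : M9 F), g, ← mul_assoc, ← mul_assoc, hei sq]
      simp only [mul_assoc]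
    have a2 : (z' : M9 F) * Bv ω (1, 0) = Rm ω 0 (0, 2) (0, 0) * (z' : M9 F) := by
      have g : (z : M9 F) * Rm ω k' (0, 1) (i', 0) = Rm ω (k' + k') (0, 2) (i' + i', 0) * (z : M9 F) :=
        step_class hω hx (v := (1, 0)) (w := (2, 0)) e2 k' i'
      have sq : (e : M9 F) * Rm ω 0 (0, 2) (0, 0) = Rm ω (k' + k') (0, 2) (i' + i', 0) * (e : M9 F) := by
        have hB : (Bv ω (1, 0) * Bv ω (1, 0) : M9 F) = Rm ω 0 (0, 2) (0, 0) := by
          rw [Bv, Rm_mul hω]
          simp only [dot, Prod.mk_add_mk, add_zero, mul_zero, zero_mul, show (1 : ZMod 3) + 1 = 2 by decide]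
        rw [← hB, ← mul_assoc, he.eq2, mul_assoc, he.eq2, ← mul_assoc, Rm_mul hω]
        simp only [dot, Prod.mk_add_mk, add_zero, mul_zero, zero_mul, show (1 : ZMod 3) + 1 = 2 by decide]
      simp only [hz', Units.val_mul, mul_assoc]
      rw [he.eq2, ← mul_assoc (z : M9 F), g, ← mul_assoc, ← mul_assoc, hei sq]
      simp only [mul_assoc]
    obtain ⟨Z, hZ, eZ⟩ := hH.in_Zp
    have hz'H : z' ∈ H := hz' ▸ mul_mem (mul_mem (inv_mem he.mem) hz) he.mem
    have hz'2 : z' * z' = 1 := by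
      rw [hz', show e⁻¹ * z * e * (e⁻¹ * z * e) = e⁻¹ * (z * z) * e by group,
        show z * z = 1 from Units.ext (by rw [Units.val_mul, hzz, Units.val_one])]
      group
    have hZ2 : Z * Z = 1 := Units.ext (by rw [Units.val_mul, eZ, Zp_mul_self, Units.val_one])
    have hZb : ∀ {A B : M9 F}, (Zp : M9 F) * A = B * Zp → (Zp : M9 F) * B = A * Zp := fun {A B} h => by
      calc (Zp : M9 F) * B = Zp * (B * Zp) * Zp := by simp only [mul_assoc, Zp_mul_self, mul_one]
        _ = A * Zp := by rw [← h, ← mul_assoc, Zp_mul_self, one_mul]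
    obtain ⟨l, f, hf, hl, ed⟩ := hH.scalar_member h2 hS (z := Z * z') (mul_mem hZ hz'H)
      (by rw [Units.val_mul, eZ]; exact (Commute.mul_left (show (Zp : M9 F) * xM ω = xM ω * Zp from bd_x _) hz'x : _))
      (by rw [Units.val_mul, eZ, mul_assoc, a1, ← mul_assoc, hZb Zp_Bv01, mul_assoc])
      (by rw [Units.val_mul, eZ, mul_assoc, a2, ← mul_assoc, hZb Zp_Bv10, mul_assoc])
    have hconj := conj_to_basic hZ2 hz'2 rfl (hH.scaled_pow_nine hl ed)
    obtain ⟨c, hc⟩ : ∃ c, c = e * (Z * z') ^ 4 := ⟨_, rfl⟩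
    have hcP : (c : M9 F) * P1 0 = (P1 0 : M9 F) * (c : M9 F) := by
      rw [hc, Units.val_mul, Units.val_pow_eq_pow_val, ed]
      refine (Commute.mul_left he.cp ((show Commute (l • dg ω f) (P1 0 : M9 F) from ?_).pow_left 4) : _)
      show _ = _
      rw [Matrix.smul_mul, Matrix.mul_smul, dg, P1, diagonal_mul_diagonal, diagonal_mul_diagonal]
      congr 2; funext v; ring
    have hcz : c⁻¹ * z * c = Z := by rw [← hconj, hc, hz']; group
    have hz_eq : z = c * Z * c⁻¹ := by rw [← hcz]; group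
    have t1 : (z : M9 F).trace = -3 := by
      rw [hz_eq, Units.val_mul, Units.val_mul, eZ, Matrix.trace_units_conj, trace_Zp.1]
    have t2 : ((z : M9 F) * P1 0).trace = -1 := by
      rw [hz_eq, Units.val_mul, Units.val_mul, eZ, mul_assoc,
        show ((c⁻¹ : (M9 F)ˣ) : M9 F) * P1 0 = P1 0 * ((c⁻¹ : (M9 F)ˣ) : M9 F) from (Commute.units_inv_left hcP : _),
        ← mul_assoc, mul_assoc (c : M9 F), Matrix.trace_units_conj, trace_Zp.2]
    rw [t1, t2] at htr
    exact mul_ne_zero (hH.two_ne_zero' h2) (hH.two_ne_zero' h2) (by linear_combination -htr)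

/-- Away from commuting projections, members normalise. -/
theorem nor_all_aux (h2 : p ≠ 2) (hS : SM ω H) {g : (M9 F)ˣ} (hg : g ∈ H)
    (hne : (P1 0 : M9 F) * ((g : M9 F) * P1 0 * ((g⁻¹ : (M9 F)ˣ) : M9 F)) ≠
      (g : M9 F) * P1 0 * ((g⁻¹ : (M9 F)ˣ) : M9 F) * P1 0) : Nor ω (g : M9 F) := by
  have hω := hH.root
  have hF2 := (hH.two_ne_zero' h2)
  haveI := hH.finite
  
  obtain ⟨T, hT, eT⟩ := hH.exists_T1 0
  obtain ⟨Q, hQ⟩ : ∃ Q, Q = (g : M9 F) * P1 0 * ((g⁻¹ : (M9 F)ˣ) : M9 F) := ⟨_, rfl⟩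
  rw [← hQ] at hne
  have hQQ : Q * Q = Q := by
    rw [hQ]; simp only [mul_assoc]; rw [← mul_assoc ((g⁻¹ : (M9 F)ˣ) : M9 F) (g : M9 F), Units.inv_mul, one_mul,
      ← mul_assoc (P1 0 : M9 F) (P1 0 : M9 F), P1_idem]
  have hTQ : ((g * T * g⁻¹ : (M9 F)ˣ) : M9 F) = tU ω Q := by
    rw [Units.val_mul, Units.val_mul, eT, tU, tU, hQ, mul_add, add_mul, mul_one, Units.mul_inv, mul_smul_comm,
      smul_mul_assoc]
  rcases hH.conj_cases h2 (P1_idem 0) eT hT hg with hc | ⟨z, hz0, hzH, hz1, hzz, hzP, hzQ⟩ | ⟨u, hu0, huH, hu1, hup, huP⟩ |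
    ⟨u, hu0, huH, hu1, b, c, e, hPb, hbP, hPc, hcP, hbc, hcb, hbb, hcc⟩
  · rw [← hQ] at hc; exact absurd hc hne
  · rw [← hQ] at hzQ
    have hznor := hH.nor_cent_P1 h2 hS hzH hzP
    have hfix : ∀ (v : Pt → F) (α β : F), (P1 0 : M9 F) *ᵥ v = α • v → Q *ᵥ v = β • v → (z : M9 F) *ᵥ v = v := by
      intro v α β hα hβ
      refine DGrp.fix (α := 1 + (ω - 1) * α) (β := 1 + (ω - 1) * β) hz0 ?_ ?_
      · rw [eT, tU, add_mulVec, one_mulVec, smul_mulVec, hα, smul_smul, add_smul, one_smul]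
      · rw [hTQ, tU, add_mulVec, one_mulVec, smul_mulVec, hβ, smul_smul, add_smul, one_smul]
    obtain ⟨hb1, hb2⟩ := half_rank hF2 (P1_idem 0) hQQ hzz hzP hzQ hfix
    have htr : (z : M9 F).trace - 2 * ((z : M9 F) * P1 0).trace = 3 := by
      have h' := hb1
      rw [hzP]
      simp only [Matrix.mul_smul, mul_sub, mul_one, trace_smul, trace_sub, trace_P1, smul_eq_mul, trace_one,
        show Fintype.card Pt = 9 by decide] at h'
      refine mul_left_cancel₀ (inv_ne_zero hF2) ?_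
      push_cast at h'
      linear_combination h'
    obtain ⟨i, hi, hconj⟩ := hH.x_conj h2 hS hzH hzP
    rcases half_table i hi with rfl | rfl
    · exact (hH.invol_fixing_x h2 hS hzH hz1 hzz hzP (by
        have := hconj 1; rwa [one_mul] at this) htr).elim
    -- the involution inverts the central generator
    have supp : ∀ s t, (z : M9 F) s t ≠ 0 → t.1 = 2 * s.1 := by
      intro s t h
      have := congrFun (congrFun (hconj 1) s) t
      rw [dg, dg, mul_diagonal, diagonal_mul, mul_comm] at this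
      simpa [dot] using wp_injective hω (mul_right_cancel₀ h this)
    have hd : (z : M9 F).trace = ((z : M9 F) * P1 0).trace := by
      rw [Matrix.trace, Matrix.trace]
      refine Finset.sum_congr rfl fun s _ => ?_
      rw [diag_apply, diag_apply, P1, mul_diagonal]
      by_cases e : s.1 = 0
      · rw [if_pos e, mul_one]
      · rw [if_neg e, mul_zero]
        by_contra q
        exact e ((show ∀ a : ZMod 3, a = 2 * a → a = 0 by decide) _ (supp s s q))
    have t0 : ((z : M9 F) * P1 0).trace = -3 := by rw [hd] at htr; linear_combination -htr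
    have hrow : QutritMax.row (z : M9 F) 0 = -1 := by
      have hR2 : QutritMax.row (z : M9 F) 0 * QutritMax.row (z : M9 F) 0 = 1 := by rw [← row_mul0 _ hzP, hzz, row_one]
      have h0 : (2 : F)⁻¹ • (1 + QutritMax.row (z : M9 F) 0) = 0 := by
        refine hH.trace_ne h2 _ ?_ ?_
        · rw [Matrix.smul_mul, Matrix.mul_smul, smul_smul]
          have : (1 + QutritMax.row (z : M9 F) 0) * (1 + QutritMax.row (z : M9 F) 0) = (2 : F) • (1 + QutritMax.row (z : M9 F) 0) := by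
            simp only [add_mul, mul_add, one_mul, mul_one, hR2]; module
          rw [this, smul_smul, mul_assoc, inv_mul_cancel₀ hF2, mul_one]
        · rw [trace_smul, trace_add, trace_one, ← trace_P1_row, t0, ZMod.card]; simp
      exact eq_neg_of_add_eq_zero_right ((smul_eq_zero.1 h0).resolve_left (inv_ne_zero hF2))
    have hzneg : (z : M9 F) * P1 0 = -P1 0 := by
      refine eq_neg_of_add_eq_zero_left (eq_zero_of_row0 ?_ ?_ ?_)
      · rw [add_mul, mul_assoc, P1_idem]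
      · rw [mul_add, ← mul_assoc, ← hzP, mul_assoc, P1_idem]
      · have e1 : QutritMax.row ((z : M9 F) * P1 0 + P1 0) 0 = QutritMax.row (z : M9 F) 0 * QutritMax.row (P1 0 : M9 F) 0 + QutritMax.row (P1 0 : M9 F) 0 := by
          rw [← row_mul0 _ hzP]; rfl
        rw [e1, hrow, neg_one_mul, neg_add_cancel]
    have hfix0 : ∀ b, ((-z : (M9 F)ˣ) : M9 F) *ᵥ Pi.single ((0 : ZMod 3), b) 1 = Pi.single ((0 : ZMod 3), b) 1 := by
      intro b
      have e : (Pi.single ((0 : ZMod 3), b) 1 : Pt → F) = P1 0 *ᵥ Pi.single ((0 : ZMod 3), b) 1 := by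
        rw [P1_single, if_pos rfl, one_smul]
      rw [e, mulVec_mulVec, Units.val_neg, neg_mul, hzneg, neg_neg]
    have hlift : ∀ v, ∃ i, (z : M9 F) * Bv ω v = Rm ω 0 (0, v.1) (i, v.2) * (z : M9 F) := by
      intro v
      obtain ⟨i, e⟩ := hH.lifts_of_fixed (t := -z) (by
        rw [Units.val_neg, ← neg_one_smul F]; exact hznor.smul _) hfix0 v
      rw [Units.val_neg, neg_mul, mul_neg, neg_inj] at e
      exact ⟨i, by rw [e, Rm_split hω, wp_zero, one_smul]⟩
    obtain ⟨i1, e1⟩ := hlift (0, 1)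
    obtain ⟨i2, e2⟩ := hlift (1, 0)
    obtain ⟨e, he⟩ := hH.exists_Mv 0 (-i1) 0 (-i2)
    obtain ⟨z', hz'⟩ : ∃ z', z' = e⁻¹ * z * e := ⟨_, rfl⟩
    have hei : ∀ {A B : M9 F}, (e : M9 F) * A = B * (e : M9 F) → ((e⁻¹ : (M9 F)ˣ) : M9 F) * B = A * ((e⁻¹ : (M9 F)ˣ) : M9 F) := by
      intro A B h
      calc ((e⁻¹ : (M9 F)ˣ) : M9 F) * B = ((e⁻¹ : (M9 F)ˣ) : M9 F) * (B * (e : M9 F)) * ((e⁻¹ : (M9 F)ˣ) : M9 F) := by
            simp only [mul_assoc, Units.mul_inv, mul_one]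
        _ = A * ((e⁻¹ : (M9 F)ˣ) : M9 F) := by rw [← h, ← mul_assoc, Units.inv_mul, one_mul]
    have lift : ∀ {i : ZMod 3} {v : Pt}, (z : M9 F) * Bv ω v = Rm ω 0 (0, v.1) (i, v.2) * (z : M9 F) →
        (e : M9 F) * Bv ω v = Rm ω 0 (0, v.1) (-i, v.2) * (e : M9 F) →
        (z' : M9 F) * Bv ω v = Bv ω v * (z' : M9 F) := by
      intro i v hzv hev
      have g : (z : M9 F) * Rm ω 0 (0, v.1) (-i, v.2) = Rm ω 0 (0, v.1) (-i, v.2) * (z : M9 F) := by
        rw [Rm_split hω 0 (-i) v, wp_zero, one_smul, ← mul_assoc, hzv, mul_assoc, hconj, ← mul_assoc, Rm_split hω,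
          wp_zero, one_smul, mul_assoc (Bv ω v), dg_mul hω]
        congr 3
        funext w
        simp only [Pi.add_apply, dot]
        linear_combination (-(i * w.1)) * three_zero + (i * w.1) * three_zero
      simp only [hz', Units.val_mul, mul_assoc]
      rw [hev, ← mul_assoc (z : M9 F), g, ← mul_assoc, ← mul_assoc, hei hev]
      simp only [mul_assoc]
    have a1 := lift e1 he.eq1
    have a2 := lift e2 he.eq2
    have hz'x : (z' : M9 F) * dg ω (dot (1, 0)) = dg ω (dot (2, 0)) * (z' : M9 F) := by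
      have c2 : ((e⁻¹ : (M9 F)ˣ) : M9 F) * dg ω (dot (2, 0)) = dg ω (dot (2, 0)) * ((e⁻¹ : (M9 F)ˣ) : M9 F) :=
        dgi_comm hω (Commute.units_inv_left he.cx : _) 2
      simp only [hz', Units.val_mul, mul_assoc]
      rw [show (e : M9 F) * dg ω (dot (1, 0)) = dg ω (dot (1, 0)) * (e : M9 F) from he.cx, ← mul_assoc (z : M9 F), hconj,
        mul_one, ← mul_assoc, ← mul_assoc, c2]
      simp only [mul_assoc]
    obtain ⟨Z, hZ, eZ⟩ := hH.in_Za
    have hz'H : z' ∈ H := hz' ▸ mul_mem (mul_mem (inv_mem he.mem) hzH) he.mem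
    have hz'2 : z' * z' = 1 := by
      rw [hz', show e⁻¹ * z * e * (e⁻¹ * z * e) = e⁻¹ * (z * z) * e by group,
        show z * z = 1 from Units.ext (by rw [Units.val_mul, hzz, Units.val_one])]
      group
    have hZ2 : Z * Z = 1 := Units.ext (by rw [Units.val_mul, eZ, Za_mul_self, Units.val_one])
    have hblk : ∀ v : Pt, v = (0, 1) ∨ v = (1, 0) → (Za : M9 F) * Bv ω v = Bv ω v * Za := by
      rintro v (rfl | rfl)
      · rw [Bv01, dg01, Za_blk]
      · rw [Bv10, sh01, Za_blk]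
    obtain ⟨l, f, hf, hl, ed⟩ := hH.scalar_member h2 hS (z := Z * z') (mul_mem hZ hz'H)
      (by
        rw [Units.val_mul, eZ, xM, mul_assoc, hz'x, ← mul_assoc, Za_dg hω, show (2 : ZMod 3) + 2 = 1 by decide,
          mul_assoc])
      (by rw [Units.val_mul, eZ, mul_assoc, a1, ← mul_assoc, hblk _ (Or.inl rfl), mul_assoc])
      (by rw [Units.val_mul, eZ, mul_assoc, a2, ← mul_assoc, hblk _ (Or.inr rfl), mul_assoc])
    have hcv := conj_to_basic hZ2 hz'2 rfl (hH.scaled_pow_nine hl ed)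
    obtain ⟨c, hc⟩ : ∃ c, c = e * (Z * z') ^ 4 := ⟨_, rfl⟩
    have hcH : c ∈ H := hc ▸ mul_mem he.mem (pow_mem (mul_mem hZ hz'H) 4)
    have hcN : c ∈ hH.norG := by
      rw [hc]
      refine mul_mem (hH.mem_norG.2 he.nor) (pow_mem (hH.mem_norG.2 ?_) 4)
      rw [ed]; exact (nor_dg hω hf).smul l
    have hcP : (c : M9 F) * P1 0 = (P1 0 : M9 F) * (c : M9 F) := by
      rw [hc, Units.val_mul, Units.val_pow_eq_pow_val, ed]
      refine (Commute.mul_left he.cp ((show Commute (l • dg ω f) (P1 0 : M9 F) from ?_).pow_left 4) : _)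
      show _ = _
      rw [Matrix.smul_mul, Matrix.mul_smul, dg, P1, diagonal_mul_diagonal, diagonal_mul_diagonal]
      congr 2; funext v; ring
    have hcz : c⁻¹ * z * c = Z := by rw [← hcv, hc, hz']; group
    -- the conjugate projection vanishes on the plus space
    have hplus : Q * (1 + (z : M9 F)) = 0 := by
      have hPe : (P1 0 : M9 F) * ((2 : F)⁻¹ • (1 - (z : M9 F))) = P1 0 := by
        rw [Matrix.mul_smul, mul_sub, mul_one, ← hzP, hzneg, sub_neg_eq_add, ← two_smul F, smul_smul,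
          inv_mul_cancel₀ hF2, one_smul]
      rw [hPe, trace_P1] at hb2
      obtain ⟨E, hE⟩ : ∃ E, E = ((g⁻¹ : (M9 F)ˣ) : M9 F) * (Q * (1 + (z : M9 F))) * (g : M9 F) := ⟨_, rfl⟩
      have hgQ : ((g⁻¹ : (M9 F)ˣ) : M9 F) * Q = P1 0 * ((g⁻¹ : (M9 F)ˣ) : M9 F) := by
        rw [hQ, ← mul_assoc, ← mul_assoc, Units.inv_mul, one_mul]
      have hQg : Q * (g : M9 F) = (g : M9 F) * P1 0 := by rw [hQ, mul_assoc, Units.inv_mul, mul_one]
      have hc1 : (1 + (z : M9 F)) * Q = Q * (1 + (z : M9 F)) := by rw [add_mul, mul_add, one_mul, mul_one, hzQ]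
      have hEl : P1 0 * E = E := by
        rw [hE, ← mul_assoc, ← mul_assoc, ← hgQ, mul_assoc ((g⁻¹ : (M9 F)ˣ) : M9 F) Q, ← mul_assoc Q Q, hQQ]
      have hEr : E * P1 0 = E := by
        rw [hE, mul_assoc _ (g : M9 F), ← hQg]
        simp only [mul_assoc]
        rw [← mul_assoc (1 + (z : M9 F)) Q, hc1, mul_assoc Q, ← mul_assoc Q Q, hQQ]
      have hEE : E * E = (2 : F) • E := by
        have e3 : (1 + (z : M9 F)) * (1 + (z : M9 F)) = (2 : F) • (1 + (z : M9 F)) := by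
          simp only [add_mul, mul_add, one_mul, mul_one, hzz]; module
        have e4 : (Q * (1 + (z : M9 F))) * (Q * (1 + (z : M9 F))) = (2 : F) • (Q * (1 + (z : M9 F))) := by
          rw [mul_assoc Q (1 + (z : M9 F)), ← mul_assoc (1 + (z : M9 F)) Q, hc1, mul_assoc Q (1 + (z : M9 F)), e3,
            ← mul_assoc Q Q, hQQ, Matrix.mul_smul]
        rw [hE]
        calc ((g⁻¹ : (M9 F)ˣ) : M9 F) * (Q * (1 + (z : M9 F))) * (g : M9 F) * (((g⁻¹ : (M9 F)ˣ) : M9 F) * (Q * (1 + (z : M9 F))) * (g : M9 F))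
            = ((g⁻¹ : (M9 F)ˣ) : M9 F) * ((Q * (1 + (z : M9 F))) * (Q * (1 + (z : M9 F)))) * (g : M9 F) := by
              simp only [mul_assoc, Units.mul_inv_cancel_left]
          _ = _ := by rw [e4, Matrix.mul_smul, Matrix.smul_mul]
      have hEP : E * P1 0 = (P1 0 : M9 F) * E := hEr.trans hEl.symm
      have htE : E.trace = 0 := by
        have hQt : Q.trace = 3 := by rw [hQ, Matrix.trace_units_conj, trace_P1]
        rw [hE, Matrix.trace_units_conj', mul_add, mul_one, trace_add]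
        simp only [Matrix.mul_smul, mul_sub, mul_one, trace_smul, trace_sub, smul_eq_mul, hQt] at hb2
        rw [hQt]
        have := congrArg (fun x => (2 : F) * x) hb2
        field_simp at this
        linear_combination -this
      have hrowE : (2 : F)⁻¹ • QutritMax.row E 0 = 0 := by
        refine hH.trace_ne h2 _ ?_ ?_
        · rw [Matrix.smul_mul, Matrix.mul_smul, smul_smul, ← row_mul0 _ hEP, hEE,
            show QutritMax.row ((2 : F) • E) 0 = (2 : F) • QutritMax.row E 0 from rfl, smul_smul, mul_assoc, inv_mul_cancel₀ hF2, mul_one]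
        · rw [trace_smul, ← trace_P1_row, hEr, htE, smul_zero]
      have hE0 : E = 0 := eq_zero_of_row0 hEr hEl ((smul_eq_zero.1 hrowE).resolve_left (inv_ne_zero hF2))
      have := congrArg (fun A => (g : M9 F) * A * ((g⁻¹ : (M9 F)ˣ) : M9 F)) hE
      simp only [hE0, mul_zero, zero_mul, mul_assoc, Units.mul_inv_cancel_left, Units.mul_inv, mul_one] at this
      exact this.symm
    -- exchange the coordinates
    obtain ⟨S, hSH, eS, hSi, hSN⟩ := hH.exists_Sw
    have hSS : S * S = 1 := inv_eq_iff_mul_eq_one.1 hSi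
    obtain ⟨g₁, hg₁⟩ : ∃ g₁, g₁ = c⁻¹ * g := ⟨_, rfl⟩
    obtain ⟨g₂, hg₂⟩ : ∃ g₂, g₂ = S * g₁ * S := ⟨_, rfl⟩
    have hg₂H : g₂ ∈ H := hg₂ ▸ mul_mem (mul_mem hSH (hg₁ ▸ mul_mem (inv_mem hcH) hg)) hSH
    obtain ⟨T₂, hT₂, eT₂, eT₂'⟩ := hH.K2_T
    have eTS : T₂ = S * T * S := Units.ext (by
      rw [Units.val_mul, Units.val_mul, eS, eT, eT₂, tU, tU, mul_add, add_mul, mul_one, Sw_mul_self, Matrix.mul_smul,
        Matrix.smul_mul, Sw_P1, mul_assoc, Sw_mul_self, mul_one])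
    have hTc : c * T = T * c := Units.ext (by
      rw [Units.val_mul, Units.val_mul, eT]
      exact ((tU_comm hω.cube).2 (show Commute (c : M9 F) (P1 0) from hcP)).eq)
    obtain ⟨D, hD⟩ : ∃ D, D = S * c⁻¹ := ⟨_, rfl⟩
    have hconjT : g₂ * T₂ * g₂⁻¹ = D * (g * T * g⁻¹) * D⁻¹ := by
      rw [hg₂, hg₁, eTS, hD]
      rw [show S * (c⁻¹ * g) * S * (S * T * S) * (S * (c⁻¹ * g) * S)⁻¹ =
        S * (c⁻¹ * g) * (S * S) * T * (S * S) * (S * S)⁻¹ * (c⁻¹ * g)⁻¹ * S⁻¹ by group, hSS]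
      group
    obtain ⟨Z2, hZ2', eZ2'⟩ := hH.K2_Z
    have eD : Units.val D * (z : M9 F) = Zp * (D : M9 F) := by
      have h1 : D * z = (S * Z * S) * D := by
        rw [hD, ← hcz, show S * (c⁻¹ * z * c) * S * (S * c⁻¹) = S * c⁻¹ * z * c * (S * S) * c⁻¹ by group, hSS]
        group
      have h2' : ((S * Z * S : (M9 F)ˣ) : M9 F) = Zp := by
        rw [Units.val_mul, Units.val_mul, eS, eZ, Sw_Za, mul_assoc, Sw_mul_self, mul_one]
      have := congrArg Units.val h1
      rwa [Units.val_mul, Units.val_mul, h2'] at this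
    have hDi : ((D⁻¹ : (M9 F)ˣ) : M9 F) * Zp = (z : M9 F) * ((D⁻¹ : (M9 F)ˣ) : M9 F) := by
      calc ((D⁻¹ : (M9 F)ˣ) : M9 F) * Zp = ((D⁻¹ : (M9 F)ˣ) : M9 F) * (Zp * (D : M9 F)) * ((D⁻¹ : (M9 F)ˣ) : M9 F) := by
            simp only [mul_assoc, Units.mul_inv, mul_one]
        _ = (z : M9 F) * ((D⁻¹ : (M9 F)ˣ) : M9 F) := by rw [← eD, ← mul_assoc, Units.inv_mul, one_mul]
    have hK : g₂ * T₂ * g₂⁻¹ ∈ K2 H := by
      refine ⟨mul_mem (mul_mem hg₂H hT₂.1) (inv_mem hg₂H), ?_, ?_⟩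
      · rw [hconjT, Units.val_mul, Units.val_mul, hTQ]
        have cz : tU ω Q * (z : M9 F) = (z : M9 F) * tU ω Q := by
          exact ((tU_comm hω.cube).2 (show Commute (z : M9 F) Q from hzQ)).symm.eq
        calc (D : M9 F) * tU ω Q * ((D⁻¹ : (M9 F)ˣ) : M9 F) * Zp
            = (D : M9 F) * (tU ω Q * (z : M9 F)) * ((D⁻¹ : (M9 F)ˣ) : M9 F) := by simp only [mul_assoc, hDi]
          _ = Zp * ((D : M9 F) * tU ω Q * ((D⁻¹ : (M9 F)ˣ) : M9 F)) := by
            rw [cz, ← mul_assoc (D : M9 F), eD]; simp only [mul_assoc]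
      · rw [hconjT, Units.val_mul, Units.val_mul, hTQ, mul_assoc, mul_add, mul_one, hDi]
        have h1 : ((D⁻¹ : (M9 F)ˣ) : M9 F) + (z : M9 F) * ((D⁻¹ : (M9 F)ˣ) : M9 F) = (1 + (z : M9 F)) * ((D⁻¹ : (M9 F)ˣ) : M9 F) := by
          rw [add_mul, one_mul]
        rw [h1, ← mul_assoc, mul_assoc (D : M9 F), tU, add_mul, one_mul, smul_mul_assoc, hplus, smul_zero, add_zero,
          mul_add, mul_one, eD, add_mul, Units.mul_inv, mul_assoc, Units.mul_inv, mul_one]
    obtain ⟨k, hk, hkc⟩ := hH.K2_conj h2 hS hT₂ eT₂ eT₂' hK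
    have hv : Nor ω ((k⁻¹ * g₂ : (M9 F)ˣ) : M9 F) := by
      refine hH.nor_cent_P2 h2 hS (mul_mem (inv_mem hk.1) hg₂H) ?_
      refine ((tU_comm hω.cube).1 (show Commute ((k⁻¹ * g₂ : (M9 F)ˣ) : M9 F) (tU ω (P2 0)) from ?_)).eq
      rw [← eT₂]
      exact congrArg Units.val hkc
    have hg₂N : g₂ ∈ hH.norG := by
      have := mul_mem (hH.K2_le_norG h2 hS hk) (hH.mem_norG.2 hv)
      rwa [mul_inv_cancel_left] at this
    have := mul_mem hcN (mul_mem (mul_mem (hH.mem_norG.2 hSN) hg₂N) (hH.mem_norG.2 hSN))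
    rwa [hg₂, show S * (S * g₁ * S) * S = (S * S) * g₁ * (S * S) by group, hSS, one_mul, mul_one, hg₁,
      mul_inv_cancel_left] at this
  · exfalso
    obtain ⟨i, hi, hconj⟩ := hH.x_conj h2 hS huH huP
    have hpow : ∀ n : ℕ, ((u : M9 F) ^ n) * dg ω (dot (1, 0)) = dg ω (dot (i ^ n, 0)) * (u : M9 F) ^ n := by
      intro n
      induction n with
      | zero => rw [pow_zero, pow_zero, one_mul, mul_one]
      | succ n ih => rw [pow_succ', mul_assoc, ih, ← mul_assoc, hconj, mul_assoc, ← pow_succ' i]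
    have e := hpow p
    rw [hup, one_mul, mul_one] at e
    have e2 : (Rm ω 0 0 (1, 0) : M9 F) = Rm ω 0 0 (i ^ p, 0) := by
      rw [Rm, Rm, sh_zero, one_mul, one_mul, ← e]
    have hip : i ^ p = 1 := (Prod.ext_iff.1 (Rm_injective hω e2).2.2).1.symm
    have hi1 : i = 1 := by
      rcases half_table i hi with rfl | rfl
      · rfl
      · exfalso
        have hodd : Odd p := hH.prime.odd_of_ne_two (by have := hH.five_le h2; omega)
        rw [two_mul_two, hodd.neg_one_pow] at hip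
        exact absurd hip (by decide)
    subst hi1
    have hx := hconj 1
    rw [one_mul] at hx
    exact hu1 (hH.cent_x_pow_p h2 hS huH hx hup)
  · exfalso
    exact hu1 (hH.one_sided_trivial h2 hS huH e hPb hbP hPc hcP hbc hcb hbb hcc)

/-- Every member normalises. -/
theorem nor_all (h2 : p ≠ 2) (hS : SM ω H) {g : (M9 F)ˣ} (hg : g ∈ H) : Nor ω (g : M9 F) := by
  have hω := hH.root
  haveI := hH.finite
  
  obtain ⟨Q, hQ⟩ : ∃ Q, Q = (g : M9 F) * P1 0 * ((g⁻¹ : (M9 F)ˣ) : M9 F) := ⟨_, rfl⟩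
  have key : ∀ (A : M9 F), (∃ n : (M9 F)ˣ, n ∈ H ∧ Nor ω (n : M9 F) ∧ (n : M9 F) * P1 0 = A * (n : M9 F)) →
      A * Q ≠ Q * A → Nor ω (g : M9 F) := by
    rintro A ⟨n, hn, hnN, hnA⟩ hne
    have h1 : Nor ω ((n⁻¹ * g : (M9 F)ˣ) : M9 F) := by
      refine hH.nor_all_aux h2 hS (mul_mem (inv_mem hn) hg) fun h => hne ?_
      have eQ : ((n⁻¹ * g : (M9 F)ˣ) : M9 F) * P1 0 * (((n⁻¹ * g)⁻¹ : (M9 F)ˣ) : M9 F) =
          ((n⁻¹ : (M9 F)ˣ) : M9 F) * Q * (n : M9 F) := by
        rw [hQ, _root_.mul_inv_rev, inv_inv, Units.val_mul, Units.val_mul]; simp only [mul_assoc]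
      rw [eQ] at h
      have eA : (P1 0 : M9 F) = ((n⁻¹ : (M9 F)ˣ) : M9 F) * A * (n : M9 F) := by
        rw [mul_assoc, ← hnA, ← mul_assoc, Units.inv_mul, one_mul]
      rw [eA] at h
      have h' := congrArg (fun M => (n : M9 F) * M * ((n⁻¹ : (M9 F)ˣ) : M9 F)) h
      simpa [mul_assoc, Units.mul_inv_cancel_left] using h'
    have := mul_mem (hH.mem_norG.2 hnN) (hH.mem_norG.2 h1)
    rwa [mul_inv_cancel_left] at this
  obtain ⟨S, hSH, eS, hSi, hSN⟩ := hH.exists_Sw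
  obtain ⟨X, hX, eX⟩ := hH.in_sh ((1, 0) : Pt)
  obtain ⟨Y, hY, eY⟩ := hH.in_sh ((0, 1) : Pt)
  obtain ⟨N, hN', eN⟩ := hH.in_n3
  have hsw : (S : M9 F) * P1 0 = P2 0 * (S : M9 F) := by rw [eS, Sw_P1]
  have hNJ : (N : M9 F) * (S : M9 F) * P1 0 = blk J3 * ((N : M9 F) * (S : M9 F)) := by
    rw [mul_assoc, hsw, ← mul_assoc, eN, n3_P2 hω, mul_assoc]
  by_cases h0 : (P1 0 : M9 F) * Q = Q * P1 0
  swap
  · exact hH.nor_all_aux h2 hS hg (hQ ▸ h0)
  by_cases h1 : (P1 1 : M9 F) * Q = Q * P1 1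
  swap
  · refine key _ ⟨X, hX, eX ▸ nor_sh hω _, ?_⟩ h1
    rw [eX, P1, P1, sh, pm_mul_diagonal]
    congr 2
    funext v
    rw [Function.comp_apply]
    refine if_congr ?_ rfl rfl
    simp [Equiv.addRight_symm, ← sub_eq_add_neg, sub_eq_zero]
  by_cases h20 : (P2 0 : M9 F) * Q = Q * P2 0
  swap
  · exact key _ ⟨S, hSH, hSN, hsw⟩ h20
  by_cases h21 : (P2 1 : M9 F) * Q = Q * P2 1
  swap
  · refine key _ ⟨Y * S, mul_mem hY hSH, by rw [Units.val_mul, eY]; exact (nor_sh hω _).mul hSN, ?_⟩ h21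
    rw [Units.val_mul, mul_assoc, hsw, ← mul_assoc, eY, sh01_P2, zero_add, mul_assoc]
  by_cases hJ : blk (J3 : Matrix (ZMod 3) (ZMod 3) F) * Q = Q * blk J3
  swap
  · exact key _ ⟨N * S, mul_mem hN' hSH, by rw [Units.val_mul, eN]; exact (nor_blk_n3 hω).mul hSN,
      by rw [Units.val_mul]; exact hNJ⟩ hJ
  by_cases hJ' : ((J3 : Matrix (ZMod 3) (ZMod 3) F) ⊗ₖ (1 : Matrix (ZMod 3) (ZMod 3) F)) * Q =
      Q * ((J3 : Matrix (ZMod 3) (ZMod 3) F) ⊗ₖ (1 : Matrix (ZMod 3) (ZMod 3) F))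
  swap
  · refine key _ ⟨S * (N * S), mul_mem hSH (mul_mem hN' hSH), ?_, ?_⟩ hJ'
    · rw [Units.val_mul, Units.val_mul, eN]; exact hSN.mul ((nor_blk_n3 hω).mul hSN)
    · rw [Units.val_mul, Units.val_mul, mul_assoc, hNJ, ← mul_assoc, eS, Sw_blk]; simp only [mul_assoc]
  exfalso
  have hQQ : Q * Q = Q := by
    rw [hQ]; simp only [mul_assoc]; rw [← mul_assoc ((g⁻¹ : (M9 F)ˣ) : M9 F) (g : M9 F), Units.inv_mul, one_mul,
      ← mul_assoc (P1 0 : M9 F) (P1 0 : M9 F), P1_idem]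
  have hQx := comm_x_of_P1 hω (show (0 : ZMod 3) ≠ 1 by decide) h0.symm h1.symm
  have hd := eq_diagonal_of_comm hω hQx (show (0 : ZMod 3) ≠ 1 by decide) h20.symm h21.symm
  generalize hq : (fun v => Q v v) = q at hd
  have h3 : (3 : F) ≠ 0 := hω.three
  have hb : ∀ a b d, q (a, b) = q (a, d) := by
    intro a b d
    have := congrFun (congrFun hJ (a, b)) (a, d)
    rw [hd, mul_diagonal, diagonal_mul, blk_apply] at this
    simp only [J3, of_apply, if_true] at this
    exact mul_left_cancel₀ (inv_ne_zero h3) (by linear_combination -this)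
  have ha : ∀ a c b, q (a, b) = q (c, b) := by
    intro a c b
    have := congrFun (congrFun hJ' (a, b)) (c, b)
    rw [hd, mul_diagonal, diagonal_mul, kroneckerMap_apply] at this
    simp only [J3, of_apply, Matrix.one_apply_eq, mul_one] at this
    exact mul_left_cancel₀ (inv_ne_zero h3) (by linear_combination -this)
  have hconst : ∀ v, q v = q (0, 0) := fun v => (hb v.1 v.2 0).trans (ha v.1 0 0)
  have htr : (9 : F) * q (0, 0) = 3 := by
    have h := Matrix.trace_units_conj g (P1 0 : M9 F)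
    rw [← hQ, trace_P1, hd, trace_diagonal, Finset.sum_congr rfl fun v _ => hconst v, Finset.sum_const] at h
    simpa [nsmul_eq_mul] using h
  have hqq := congrFun (congrFun hQQ (0, 0)) (0, 0)
  rw [hd, diagonal_mul_diagonal, diagonal_apply_eq, diagonal_apply_eq] at hqq
  have : (3 : F) * 2 * (3 : F) = 0 := by linear_combination -81 * hqq + (9 * q (0, 0) - 6) * htr
  exact mul_ne_zero (mul_ne_zero h3 (hH.two_ne_zero' h2)) h3 this

end Amb

end CfsgLib.Classical.QutritU
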