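import Cfsg.Agent.Lib.Classical.QutritU.Small.TwoCentZ

/-!
# Over the field with four elements every member normalises
-/

set_option autoImplicit false
set_option linter.unusedSectionVars false
set_option linter.style.haveILetI false

namespace CfsgLib.Classical.QutritU

open Matrix CfsgLib.Classical.QutritMax

/-- Two involutions are conjugate or commute with a third one. -/
theorem invol_pair {G : Type*} [Group G] [Finite G] {H : Subgroup G} {a z : G} (haH : a ∈ H) (hzH : z ∈ H)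
    (ha : a * a = 1) (hz : z * z = 1) :
    (∃ c, c * z * c⁻¹ = a) ∨ ∃ w ∈ H, w * w = 1 ∧ w ≠ 1 ∧ w * a = a * w ∧ w * z = z * w := by
  have hai := inv_eq_of_mul_eq_one_right ha
  have hzi := inv_eq_of_mul_eq_one_right hz
  have hflip : ∀ n : ℕ, z * (a * z) ^ n * z⁻¹ = ((a * z) ^ n)⁻¹ ∧ a * (a * z) ^ n * a⁻¹ = ((a * z) ^ n)⁻¹ := fun n => by
    have a2 : ∀ x, a * (a * x) = x := fun x => by rw [← mul_assoc, ha, one_mul]
    have z2 : ∀ x, z * (z * x) = x := fun x => by rw [← mul_assoc, hz, one_mul]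
    rw [← conj_pow, ← conj_pow, ← inv_pow]
    constructor <;> congr 1 <;> simp only [_root_.mul_inv_rev, hai, hzi, mul_assoc, a2, z2, ha, hz, mul_one]
  have hm := orderOf_pos (a * z)
  rcases Nat.even_or_odd (orderOf (a * z)) with ⟨k, hk⟩ | ⟨k, hk⟩
  · refine Or.inr ⟨(a * z) ^ k, pow_mem (mul_mem haH hzH) k, ?_, fun e => ?_, ?_, ?_⟩
    · rw [← pow_add, ← hk, pow_orderOf_eq_one]
    · have := Nat.le_of_dvd (by omega) (orderOf_dvd_of_pow_eq_one e)
      omega
    all_goals
      have e : ((a * z) ^ k)⁻¹ = (a * z) ^ k :=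
        inv_eq_of_mul_eq_one_right (by rw [← pow_add, ← hk, pow_orderOf_eq_one])
    · have := (hflip k).2
      rw [e, mul_inv_eq_iff_eq_mul] at this
      exact this.symm
    · have := (hflip k).1
      rw [e, mul_inv_eq_iff_eq_mul] at this
      exact this.symm
  · refine Or.inl ⟨(a * z) ^ (k + 1), ?_⟩
    have h1 : (a * z) ^ (k + 1) * (a * z) ^ (k + 1) = a * z := by
      rw [← pow_add, show k + 1 + (k + 1) = orderOf (a * z) + 1 by omega, pow_succ, pow_orderOf_eq_one, one_mul]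
    have h2 := (hflip (k + 1)).1
    generalize (a * z) ^ (k + 1) = c at h1 h2 ⊢
    rw [← h2, hzi, show c * z * (z * c * z) = c * (z * z) * c * z by simp only [mul_assoc], hz, mul_one, h1,
      mul_assoc, hz, mul_one]

namespace Amb

variable {K : Type*} [Field K] {σ : K →+* K} {ω : K} {p : ℕ} {H : Subgroup (M9 K)ˣ} (hH : Amb σ ω p H) [Finite K]
include hH

/-- Over the field with four elements every member normalises. -/
theorem nor_all_two (hp : p = 2) (hS : SM ω H) {g : (M9 K)ˣ} (hg : g ∈ H) : Nor ω (g : M9 K) := by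
  haveI := hH.finite
  obtain ⟨s, hs, z, hz, hss, es, hzz, ez, -, -⟩ := hH.exists_pair hp
  obtain ⟨a, ha⟩ : ∃ a, a = g * s * g⁻¹ := ⟨_, rfl⟩
  have haH : a ∈ H := ha ▸ mul_mem (mul_mem hg hs.1) (inv_mem hg)
  suffices a ∈ hH.norH from (hH.conj_s hp hS hs hss es hg (ha ▸ this)).2
  rcases invol_pair haH hz.1 (show a * a = 1 by rw [ha, conj_mul, hss]; group) hzz with
    ⟨c, hc⟩ | ⟨w, hwH, hww, hw1, hwa, hwz⟩
  · refine absurd ?_ (hH.not_conj hp (g := c⁻¹ * g) es ez)
    calc c⁻¹ * g * s * (c⁻¹ * g)⁻¹ = c⁻¹ * (g * s * g⁻¹) * c := by group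
      _ = z := by rw [← ha, ← hc]; group
  have hwN : w ∈ hH.norH := hH.cent_z hp hS hwH (by
    rw [Commute, SemiconjBy, ← ez, ← Units.val_mul, hwz, Units.val_mul])
  obtain ⟨n, hn, e⟩ := hH.invol_cases hp hwN hww hw1 hs hss es hz hzz ez
  obtain ⟨b, hb⟩ : ∃ b, b = n⁻¹ * a * n := ⟨_, rfl⟩
  have hbH : b ∈ H := hb ▸ mul_mem (mul_mem (inv_mem hn.1) haH) hn.1
  have key : ∀ t : (M9 K)ˣ, n * t * n⁻¹ = w → Commute (b : M9 K) (t : M9 K) := fun t ht => by
    have : b * t = t * b := by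
      calc b * t = n⁻¹ * (a * (n * t * n⁻¹)) * n := by rw [hb]; group
        _ = n⁻¹ * ((n * t * n⁻¹) * a) * n := by rw [ht, hwa]
        _ = t * b := by rw [hb]; group
    rw [Commute, SemiconjBy, ← Units.val_mul, this, Units.val_mul]
  have hbN : b ∈ hH.norH := by
    rcases e with e | e
    · exact hH.cent_s hp hS hbH (es ▸ key s e)
    · exact hH.cent_z hp hS hbH (ez ▸ key z e)
  have := mul_mem (mul_mem hn hbN) (inv_mem hn)
  rwa [hb, show n * (n⁻¹ * a * n) * n⁻¹ = a by group] at this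

end Amb

end CfsgLib.Classical.QutritU
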