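import Cfsg.Agent.Lib.Classical.QutritMax.Pair

/-!
# Two conjugates of a quadratic element when the cube roots of unity avoid the prime field

The last case of the four possibilities becomes a product of two one-sided parts of opposite sides.
-/

set_option autoImplicit false
set_option linter.unusedSectionVars false
set_option linter.unusedSimpArgs false

namespace CfsgLib.Classical.QutritMax

open Polynomial Subgroup
open scoped commutatorElement

variable {F : Type*} [Field F] {A : Type*} [Ring A] [Algebra F A] {ω : F}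

/-- The side of an eigenvector. -/
theorem sided_eigen (hω : Cube ω) {P Y : A} (hP : P * P = P) :
    (tU ω P * Y = ω • (Y * tU ω P) → P * Y = Y ∧ Y * P = 0) ∧
      (tU ω P * Y = (ω * ω) • (Y * tU ω P) → P * Y = 0 ∧ Y * P = Y) := by
  have hsq : ω * ω ≠ ω := fun e => hω.ne_one (mul_right_cancel₀ hω.ne_zero (by rw [e, one_mul]))
  have hne : ω * ω ≠ 1 := fun e => hω.sq_sub_one_ne (by rw [e, sub_self])
  constructor <;> intro e
  · rcases (sided hω hP (Or.inl rfl) e).2 with h | ⟨h1, h2⟩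
    · exact h
    · simp only [tU, add_mul, mul_add, one_mul, mul_one, smul_mul_assoc, mul_smul_comm, h1, h2, smul_zero, add_zero]
        at e
      have : (ω * ω - 1) • Y = 0 := by linear_combination (norm := module) -e
      rw [(smul_eq_zero.1 this).resolve_left (sub_ne_zero.2 hne)] at h1 h2 ⊢
      simp
  · rcases (sided hω hP (Or.inr rfl) e).2 with ⟨h1, h2⟩ | h
    · simp only [tU, add_mul, mul_add, one_mul, mul_one, smul_mul_assoc, mul_smul_comm, h1, h2, smul_zero, add_zero]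
        at e
      have : (ω * ω - ω) • Y = 0 := by linear_combination (norm := module) -e
      rw [(smul_eq_zero.1 this).resolve_left (sub_ne_zero.2 hsq)] at h1 h2 ⊢
      simp
    · exact h

/-- Three commuting unipotents permuted by a quadratic element, with product one. -/
theorem orbit_decomp [Nontrivial A] {p : ℕ} [Fact p.Prime] [CharP F p] (hω : Cube ω) {P : A} (hP : P * P = P)
    {T u u₁ u₂ : Aˣ} (hT : (T : A) = tU ω P) (h₁ : u₁ = T * u * T⁻¹) (h₂ : u₂ = T * u₁ * T⁻¹)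
    (h₃ : u = T * u₂ * T⁻¹) (c01 : Commute u u₁) (c02 : Commute u u₂) (c12 : Commute u₁ u₂)
    (hprod : u * u₁ * u₂ = 1) (hu : u ^ p = 1) (hu₁ : u₁ ^ p = 1) (hu₂ : u₂ ^ p = 1) :
    ∃ b c : A, (u : A) = 1 + (b + c) ∧ P * b = b ∧ b * P = 0 ∧ P * c = 0 ∧
        c * P = c ∧ b * c = 0 ∧ c * b = 0 ∧ b * b = 0 ∧ c * c = 0 := by
  haveI : CharP A p := charP_of_injective_algebraMap (algebraMap F A).injective p
  obtain ⟨X, hX⟩ : ∃ X, X = (u : A) - 1 := ⟨_, rfl⟩
  obtain ⟨X₁, hX₁⟩ : ∃ X, X = (u₁ : A) - 1 := ⟨_, rfl⟩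
  obtain ⟨X₂, hX₂⟩ : ∃ X, X = (u₂ : A) - 1 := ⟨_, rfl⟩
  have nil : ∀ v : Aˣ, v ^ p = 1 → IsNilpotent ((v : A) - 1) := fun v hv =>
    ⟨p, by rw [sub_pow_char_of_commute p (Commute.one_right (v : A)), one_pow, ← Units.val_pow_eq_pow_val, hv,
      Units.val_one, sub_self]⟩
  have cm : ∀ {v w : Aˣ}, Commute v w → Commute ((v : A) - 1) ((w : A) - 1) := fun hvw =>
    ((hvw.units_val).sub_right (Commute.one_right _)).sub_left (Commute.one_left _)
  have sh : ∀ {v w : Aˣ}, w = T * v * T⁻¹ → (T : A) * ((v : A) - 1) = ((w : A) - 1) * (T : A) := fun e => by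
    rw [e, Units.val_mul, Units.val_mul, mul_sub, sub_mul, mul_one, one_mul, Units.inv_mul_cancel_right]
  have t0 : (T : A) * X = X₁ * (T : A) := by rw [hX, hX₁]; exact sh h₁
  have t1 : (T : A) * X₁ = X₂ * (T : A) := by rw [hX₁, hX₂]; exact sh h₂
  have t2 : (T : A) * X₂ = X * (T : A) := by rw [hX₂, hX]; exact sh h₃
  have C01 : Commute X X₁ := by rw [hX, hX₁]; exact cm c01
  have C02 : Commute X X₂ := by rw [hX, hX₂]; exact cm c02
  have C12 : Commute X₁ X₂ := by rw [hX₁, hX₂]; exact cm c12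
  obtain ⟨b, hb⟩ : ∃ b, b = X + (ω * ω) • X₁ + ω • X₂ := ⟨_, rfl⟩
  obtain ⟨c, hc⟩ : ∃ c, c = X + ω • X₁ + (ω * ω) • X₂ := ⟨_, rfl⟩
  obtain ⟨d, hd⟩ : ∃ d, d = X + X₁ + X₂ := ⟨_, rfl⟩
  have h3' : ω * (ω * ω) = 1 := by linear_combination hω.pow_three
  have eb : tU ω P * b = ω • (b * tU ω P) := by
    rw [← hT, hb]
    simp only [mul_add, mul_smul_comm, t0, t1, t2, add_mul, smul_mul_assoc, smul_add, smul_smul, h3', one_smul]
    abel
  have ec : tU ω P * c = (ω * ω) • (c * tU ω P) := by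
    rw [← hT, hc]
    simp only [mul_add, mul_smul_comm, t0, t1, t2, add_mul, smul_mul_assoc, smul_add, smul_smul,
      show ω * ω * ω = 1 by linear_combination h3', show ω * ω * (ω * ω) = ω by linear_combination ω * h3', one_smul]
    abel
  obtain ⟨Pb, bP⟩ := (sided_eigen hω hP).1 eb
  obtain ⟨Pc, cP⟩ := (sided_eigen hω hP).2 ec
  have hbb := (sided hω hP (Or.inl rfl) eb).1
  have hcc := (sided hω hP (Or.inr rfl) ec).1
  have cc : ∀ Z, Commute X Z → Commute X₁ Z → Commute X₂ Z → Commute b Z ∧ Commute c Z := fun Z a a1 a2 => by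
    rw [hb, hc]
    exact ⟨(a.add_left (a1.smul_left _)).add_left (a2.smul_left _),
      (a.add_left (a1.smul_left _)).add_left (a2.smul_left _)⟩
  obtain ⟨bX, cX⟩ := cc X (Commute.refl X) C01.symm C02.symm
  obtain ⟨bX₁, cX₁⟩ := cc X₁ C01 (Commute.refl X₁) C12.symm
  obtain ⟨bX₂, cX₂⟩ := cc X₂ C02 C12 (Commute.refl X₂)
  have cbc : Commute b c := by rw [hc]; exact (bX.add_right (bX₁.smul_right _)).add_right (bX₂.smul_right _)
  have cbd : Commute b d := by rw [hd]; exact (bX.add_right bX₁).add_right bX₂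
  have ccd : Commute c d := by rw [hd]; exact (cX.add_right cX₁).add_right cX₂
  have hbc : b * c = 0 := by
    calc b * c = P * (b * c) := by rw [← mul_assoc, Pb]
      _ = 0 := by rw [cbc.eq, ← mul_assoc, Pc, zero_mul]
  have hcb : c * b = 0 := cbc.eq ▸ hbc
  have s3 : (3 : F)⁻¹ * 3 = 1 := inv_mul_cancel₀ hω.three
  have eX : X = (3 : F)⁻¹ • (d + b + c) := by
    rw [hd, hb, hc]
    linear_combination (norm := (match_scalars <;> first | ring1 | linear_combination -s3 | linear_combination s3 | linear_combination (3 : F)⁻¹ * hω.eq | linear_combination -(3 : F)⁻¹ * hω.eq)) (0 : F) • X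
  have eX₁ : X₁ = (3 : F)⁻¹ • (d + ω • b + (ω * ω) • c) := by
    rw [hd, hb, hc]
    linear_combination (norm := (match_scalars <;> first | ring1 | linear_combination -s3 - 2 * (3 : F)⁻¹ * h3' | linear_combination (-(3 : F)⁻¹) * hω.eq - (3 : F)⁻¹ * ω * h3' | linear_combination (-(3 : F)⁻¹) * hω.eq)) (0 : F) • X
  have eX₂ : X₂ = (3 : F)⁻¹ • (d + (ω * ω) • b + ω • c) := by
    rw [hd, hb, hc]
    linear_combination (norm := (match_scalars <;> first | ring1 | linear_combination -s3 - 2 * (3 : F)⁻¹ * h3' | linear_combination (-(3 : F)⁻¹) * hω.eq - (3 : F)⁻¹ * ω * h3' | linear_combination (-(3 : F)⁻¹) * hω.eq)) (0 : F) • X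
  obtain ⟨a, ha⟩ : ∃ a, a = (3 : F)⁻¹ • d := ⟨_, rfl⟩
  have hnil : IsNilpotent a := by
    rw [ha, hd]
    exact ((C02.add_left C12).isNilpotent_add (C01.isNilpotent_add (hX ▸ nil u hu) (hX₁ ▸ nil u₁ hu₁))
      (hX₂ ▸ nil u₂ hu₂)).smul _
  have e3 : (1 + X) * (1 + X₁) * (1 + X₂) = 1 := by
    rw [hX, hX₁, hX₂, add_sub_cancel, add_sub_cancel, add_sub_cancel, ← Units.val_mul, ← Units.val_mul, hprod,
      Units.val_one]
  rw [eX, eX₁, eX₂] at e3
  have bz : ∀ r : A, b * (b * r) = 0 ∧ b * (c * r) = 0 ∧ c * (b * r) = 0 ∧ c * (c * r) = 0 := fun r => by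
    simp only [← mul_assoc, hbb, hbc, hcb, hcc, zero_mul, and_self]
  have db : ∀ r : A, b * (d * r) = d * (b * r) ∧ c * (d * r) = d * (c * r) := fun r => by
    simp only [← mul_assoc, cbd.eq, ccd.eq, and_self]
  simp only [mul_add, add_mul, mul_one, one_mul, smul_mul_assoc, mul_smul_comm, smul_add, smul_smul, mul_assoc,
    cbd.eq, ccd.eq, (db _).1, (db _).2, hbb, hbc, hcb, hcc, (bz _).1, (bz _).2.1, (bz _).2.2.1, (bz _).2.2.2,
    mul_zero, smul_zero, add_zero] at e3
  have e4 : a * ((3 : F) • (1 : A) + (a * a + (3 : F) • a)) = 0 := by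
    rw [ha]
    simp only [mul_add, mul_smul_comm, smul_mul_assoc, smul_smul, mul_one, smul_add, mul_assoc]
    linear_combination (norm := (match_scalars <;> first | ring1 | linear_combination -(3 : F)⁻¹ * hω.eq | linear_combination (-2 * (3 : F)⁻¹ * (3 : F)⁻¹) * hω.eq | linear_combination (-(3 : F)⁻¹ * (3 : F)⁻¹ * (3 : F)⁻¹) * hω.eq | linear_combination (-(3 : F)⁻¹ * (3 : F)⁻¹) * hω.eq)) e3
  have ha0 : a = 0 := by
    have ca : Commute a ((3 : F) • (1 : A) + (a * a + (3 : F) • a)) :=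
      ((Commute.one_right a).smul_right _).add_right (((Commute.refl a).mul_right (Commute.refl a)).add_right
        ((Commute.refl a).smul_right _))
    have hu' : IsUnit ((3 : F) • (1 : A) + (a * a + (3 : F) • a)) := by
      refine IsNilpotent.isUnit_add_left_of_commute ?_ ?_ ((Commute.one_right _).smul_right _)
      · exact (((Commute.refl a).mul_left (Commute.refl a)).smul_right _).isNilpotent_add
          ((Commute.refl a).isNilpotent_mul_left hnil) (hnil.smul _)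
      · rw [← Algebra.algebraMap_eq_smul_one]; exact (Ne.isUnit hω.three).map _
    exact hu'.mul_left_eq_zero.1 e4
  have hd0 : d = 0 := (smul_eq_zero.1 (ha.symm.trans ha0)).resolve_left (inv_ne_zero hω.three)
  refine ⟨(3 : F)⁻¹ • b, (3 : F)⁻¹ • c, ?_, ?_⟩
  · rw [← smul_add, show (3 : F)⁻¹ • (b + c) = X by rw [eX, hd0, zero_add], hX, add_sub_cancel]
  · simp only [mul_smul_comm, smul_mul_assoc, Pb, bP, Pc, cP, hbc, hcb, hbb, hcc, smul_zero, and_self]

namespace Pr

variable {P Q : A} {TP TQ : Aˣ} (h : Pr ω P Q TP TQ)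
include h

/-- The four possibilities, without a natural number equal to the root. -/
theorem cases_orbit [Finite Aˣ] {p : ℕ} [Fact p.Prime] [CharP F p] (hp : 5 ≤ p) :
    P * Q = Q * P ∨
      (∃ z ∈ ⁅h.grp, h.grp⁆, z ≠ 1 ∧ z * z = 1 ∧ Commute (z : A) P ∧ Commute (z : A) Q) ∨
      (∃ u ∈ ⁅h.grp, h.grp⁆, u ≠ 1 ∧ u ^ p = 1 ∧ Commute (u : A) P) ∨
      ∃ u ∈ ⁅h.grp, h.grp⁆, u ≠ 1 ∧ ∃ b c : A, (u : A) = 1 + (b + c) ∧ P * b = b ∧ b * P = 0 ∧ P * c = 0 ∧
        c * P = c ∧ b * c = 0 ∧ c * b = 0 ∧ b * b = 0 ∧ c * c = 0 := by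
  rcases subsingleton_or_nontrivial A with hA | hA
  · exact Or.inl (Subsingleton.elim _ _)
  haveI : CharP A p := charP_of_injective_algebraMap (algebraMap F A).injective p
  let G := ↥h.grp
  let ι : G →* Aˣ := h.grp.subtype
  have hmap : (commutator G).map ι = ⁅h.grp, h.grp⁆ := by
    show Subgroup.map ι (⁅(⊤ : Subgroup G), ⊤⁆ : Subgroup G) = _
    rw [Subgroup.map_commutator, ← MonoidHom.range_eq_map, Subgroup.range_subtype]
  have hC : Ctr p ι :=
    { inj := h.grp.subtype_injective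
      central := fun g hg y => by
        obtain ⟨e1, e2⟩ := (h.rep_commutator (hmap ▸ Subgroup.mem_map_of_mem ι hg)).central h.idP h.idQ
        exact h.comm_grp e1 e2 y.2
      prime := Fact.out
      char := inferInstance
      five := hp }
  by_cases hz : ∃ z ∈ commutator G, z ≠ 1 ∧ z * z = 1
  · obtain ⟨z, hzD, hz1, hz2⟩ := hz
    refine Or.inr (Or.inl ⟨ι z, hmap ▸ Subgroup.mem_map_of_mem ι hzD,
      fun e => hz1 (hC.inj (e.trans (map_one ι).symm)), by rw [← map_mul, hz2, map_one], ?_⟩)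
    obtain ⟨e1, e2⟩ := (h.rep_commutator (hmap ▸ Subgroup.mem_map_of_mem ι hzD)).central h.idP h.idQ
    have hinv : (ι z)⁻¹ = ι z := by rw [← map_inv, inv_eq_of_mul_eq_one_right hz2]
    rw [hinv, ← two_mul] at e1 e2
    obtain ⟨w, hw⟩ := hC.two_ne
    have hcancel : ∀ r : A, Commute (2 * (ι z : A)) r → Commute (ι z : A) r := fun r hr => by
      have := (Commute.units_inv_left (show Commute (w : A) r by rw [hw]; exact Nat.cast_commute 2 r)).mul_left hr
      rwa [← hw, ← mul_assoc, Units.inv_mul, one_mul] at this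
    exact ⟨hcancel P e1, hcancel Q e2⟩
  let a : G := ⟨TP, Subgroup.subset_closure (Or.inl rfl)⟩
  let b : G := ⟨TQ, Subgroup.subset_closure (Or.inr rfl)⟩
  have ha : a ^ 3 = 1 := Subtype.ext h.pow_three'.1
  have hb : b ^ 3 = 1 := Subtype.ext h.pow_three'.2
  have hgen : Subgroup.closure ({a, b} : Set G) = ⊤ := by
    refine Eq.trans (congrArg Subgroup.closure ?_) (Subgroup.closure_closure_coe_preimage (k := {TP, TQ}))
    ext x
    show x ∈ ({a, b} : Set G) ↔ (x : Aˣ) ∈ ({TP, TQ} : Set Aˣ)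
    simp only [Set.mem_insert_iff, Set.mem_singleton_iff]
    exact or_congr Subtype.ext_iff Subtype.ext_iff
  have hodd : Odd (Nat.card G) := by
    rw [Nat.odd_iff, ← Nat.two_dvd_ne_zero]
    intro h2
    obtain ⟨z, hz2⟩ := exists_prime_orderOf_dvd_card' (G := G) 2 h2
    have e2 : z * z = 1 := by rw [← pow_two, ← hz2, pow_orderOf_eq_one]
    refine hz ⟨z, ?_, fun e => by simp [e] at hz2, e2⟩
    have := hC.cube_mem ha hb hgen z
    rwa [pow_succ, pow_two, e2, one_mul] at this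
  have hquad : ∀ {X : A}, X * X = X → QuadRoot ω (tU ω X) := fun {X} hX => by
    show _ = _
    rw [show tU ω X * tU ω X = 1 + (ω * ω - 1) • X from tU_mul hX ω ω, tU]
    match_scalars <;> ring
  have hpg := hC.isPGroup hodd h.cube.eq ha hb hgen
    (show QuadRoot ω (TP : A) by rw [h.valP]; exact hquad h.idP)
    (show QuadRoot ω (TQ : A) by rw [h.valQ]; exact hquad h.idQ)
  rcases subsingleton_or_nontrivial (commutator G) with hs | hnt
  · left
    have hab : a * b = b * a := by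
      rw [← commutatorElement_eq_one_iff_mul_comm]
      exact congrArg Subtype.val (Subsingleton.elim
        (⟨⁅a, b⁆, Subgroup.commutator_mem_commutator (Subgroup.mem_top a) (Subgroup.mem_top b)⟩ : commutator G) 1)
    have h1 : Commute (tU ω P) (tU ω Q) := by
      rw [← h.valP, ← h.valQ]
      exact congrArg (fun g : G => (((g : Aˣ) : A))) hab
    exact ((tU_comm h.cube).1 ((tU_comm h.cube).1 h1).symm).symm.eq
  haveI := hpg.center_nontrivial
  have hdvd : p ∣ Nat.card (Subgroup.center (commutator G)) :=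
    ((hpg.to_subgroup _).card_eq_or_dvd).resolve_left Finite.one_lt_card.ne'
  obtain ⟨v, hv⟩ := exists_prime_orderOf_dvd_card' p hdvd
  have hv' : orderOf ((v : commutator G) : G) = p := by rw [Subgroup.orderOf_coe, Subgroup.orderOf_coe, hv]
  have mk : ∀ x ∈ commutator G, x ≠ 1 → x ^ p = 1 → Commute a x → ∃ u ∈ ⁅h.grp, h.grp⁆, u ≠ 1 ∧ u ^ p = 1 ∧
      Commute (u : A) P := fun x hxD hx1 hxp hx => by
    refine ⟨ι x, hmap ▸ Subgroup.mem_map_of_mem ι hxD, fun e => hx1 (hC.inj (e.trans (map_one ι).symm)),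
      by rw [← map_pow, hxp, map_one], ?_⟩
    refine (tU_comm h.cube).1 ?_
    rw [← h.valP]
    exact ((hx.map ι).units_val).symm
  obtain ⟨x, hx⟩ : ∃ x : G, x = ((v : commutator G) : G) := ⟨_, rfl⟩
  have hxD : x ∈ commutator G := hx ▸ (v : commutator G).2
  have hx1 : x ≠ 1 := fun e => by
    rw [← hx, e, orderOf_one] at hv'; exact (Fact.out : p.Prime).one_lt.ne hv'
  have hxp : x ^ p = 1 := by rw [← hv', hx, pow_orderOf_eq_one]
  have hxc : ∀ y ∈ commutator G, Commute x y := fun y hy =>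
    hx ▸ (congrArg Subtype.val (Subgroup.mem_center_iff.1 v.2 ⟨y, hy⟩)).symm
  have hxD' : ∀ g : G, g * x * g⁻¹ ∈ commutator G := fun g =>
    (inferInstance : (commutator G).Normal).conj_mem x hxD g
  obtain ⟨x₁, hx₁⟩ : ∃ x₁, x₁ = a * x * a⁻¹ := ⟨_, rfl⟩
  obtain ⟨x₂, hx₂⟩ : ∃ x₂, x₂ = a * x₁ * a⁻¹ := ⟨_, rfl⟩
  have hx₁D : x₁ ∈ commutator G := hx₁ ▸ hxD' a
  have hx₂D : x₂ ∈ commutator G := hx₂ ▸ (inferInstance : (commutator G).Normal).conj_mem x₁ hx₁D a
  have hx₁c : ∀ y ∈ commutator G, Commute x₁ y := fun y hy => by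
    have hy' := (inferInstance : (commutator G).Normal).conj_mem y hy a⁻¹
    rw [inv_inv] at hy'
    have := (hxc _ hy').map (MulAut.conj a).toMonoidHom
    simp only [MulEquiv.coe_toMonoidHom, MulAut.conj_apply, ← hx₁] at this
    rwa [← mul_assoc a, ← mul_assoc a, mul_inv_cancel, one_mul, mul_assoc, mul_inv_cancel, mul_one] at this
  have hx₁p : x₁ ^ p = 1 := by rw [hx₁, conj_pow, hxp]; group
  have hx₂p : x₂ ^ p = 1 := by rw [hx₂, conj_pow, hx₁p]; group
  have hx₃ : a * x₂ * a⁻¹ = x := by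
    rw [hx₂, hx₁, show a * (a * (a * x * a⁻¹) * a⁻¹) * a⁻¹ = (a * a * a) * x * (a * a * a)⁻¹ by
      simp only [mul_inv_rev, mul_assoc], show a * a * a = a ^ 3 by rw [pow_succ, pow_two], ha, inv_one, mul_one,
      one_mul]
  -- the product of the orbit is fixed
  have hprod : x * x₁ * x₂ = 1 ∨ ∃ u ∈ ⁅h.grp, h.grp⁆, u ≠ 1 ∧ u ^ p = 1 ∧ Commute (u : A) P := by
    by_cases e : x * x₁ * x₂ = 1
    · exact Or.inl e
    refine Or.inr (mk _ (mul_mem (mul_mem hxD hx₁D) hx₂D) e ?_ ?_)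
    · rw [((hxc _ hx₂D).mul_left (hx₁c _ hx₂D)).mul_pow, (hxc _ hx₁D).mul_pow, hxp, hx₁p, hx₂p, one_mul, one_mul]
    · show a * (x * x₁ * x₂) = x * x₁ * x₂ * a
      refine mul_inv_eq_iff_eq_mul.1 ?_
      rw [show a * (x * x₁ * x₂) * a⁻¹ = (a * x * a⁻¹) * (a * x₁ * a⁻¹) * (a * x₂ * a⁻¹) by
        rw [conj_mul, conj_mul],
        ← hx₁, ← hx₂, hx₃]
      exact ((hxc _ hx₁D).mul_right (hxc _ hx₂D)).symm.eq.trans (mul_assoc _ _ _).symm
  rcases hprod with hprod | hP'
  swap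
  · exact Or.inr (Or.inr (Or.inl hP'))
  refine Or.inr (Or.inr (Or.inr ⟨ι x, hmap ▸ Subgroup.mem_map_of_mem ι hxD,
    fun e => hx1 (hC.inj (e.trans (map_one ι).symm)), ?_⟩))
  refine orbit_decomp h.cube h.idP (T := TP) h.valP (u₁ := ι x₁) (u₂ := ι x₂) ?_ ?_ ?_ ((hxc _ hx₁D).map ι)
    ((hxc _ hx₂D).map ι) ((hx₁c _ hx₂D).map ι) (by rw [← map_mul, ← map_mul, hprod, map_one])
    (by rw [← map_pow, hxp, map_one]) (by rw [← map_pow, hx₁p, map_one]) (by rw [← map_pow, hx₂p, map_one])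
  · rw [hx₁, map_mul, map_mul, map_inv]; rfl
  · rw [hx₂, map_mul, map_mul, map_inv]; rfl
  · rw [← hx₃, map_mul, map_mul, map_inv]; rfl

end Pr

end CfsgLib.Classical.QutritMax
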