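import Cfsg.Agent.Lib.Classical.QutritMax.Global
import Cfsg.Agent.Lib.Classical.QutritU.Big
import Cfsg.Agent.Lib.Classical.QutritU.Small.Orbit

/-!
# When the centraliser of the central generator normalises: standard facts for odd characteristic
-/

set_option autoImplicit false
set_option linter.unusedSectionVars false
set_option linter.unusedSimpArgs false
set_option linter.style.haveILetI false

namespace CfsgLib.Classical.QutritU

open Matrix CfsgLib.Classical.QutritMax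

theorem fixed_table : ∀ s : Finset Pt, (0 : Pt) ∈ s → (∀ v ∈ s, -v ∈ s) → s.card ≠ 2 ∧ s.card ≠ 4 := by
  decide +kernel

theorem perm_fix5 {p : ℕ} [hp : Fact p.Prime] (h5 : 5 ≤ p) {σ : Equiv.Perm Pt} (h0 : σ 0 = 0)
    (hn : ∀ v, σ (-v) = -σ v) (hσ : σ ^ p = 1) : σ = 1 := by
  classical
  have hm := Equiv.Perm.card_compl_support_modEq (σ := σ) (p := p) (n := 1) (by rw [pow_one]; exact hσ)
  have hle : σ.supportᶜ.card ≤ 9 := (Finset.card_le_univ _).trans (by decide)
  rw [show Fintype.card Pt = 9 by decide] at hm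
  have hall : σ.supportᶜ.card = 9 := by
    by_contra hne
    have hdvd : (p : ℕ) ∣ 9 - σ.supportᶜ.card := (Nat.modEq_iff_dvd' hle).1 hm
    have hle' := Nat.le_of_dvd (by omega) hdvd
    have hmem : ∀ v, v ∈ σ.supportᶜ ↔ σ v = v := fun v => by simp
    obtain ⟨t2, t4⟩ := fixed_table σ.supportᶜ ((hmem 0).2 h0) fun w hw =>
      (hmem _).2 (by rw [hn, (hmem w).1 hw])
    have hpos : 1 ≤ σ.supportᶜ.card := Finset.card_pos.2 ⟨0, (hmem 0).2 h0⟩
    have hp8 : p ≤ 8 := by omega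
    interval_cases p
    · omega
    · exact absurd hp.out (by decide)
    · omega
    · exact absurd hp.out (by decide)
  have : σ.supportᶜ = Finset.univ := Finset.eq_univ_of_card _ (by rw [hall]; decide)
  exact Equiv.ext fun v => by
    have hv : v ∈ σ.supportᶜ := this ▸ Finset.mem_univ v
    simpa using hv

variable {F : Type*} [Field F] {σ : F →+* F} {ω : F} {p : ℕ} {H : Subgroup (M9 F)ˣ}

namespace Amb

variable (hH : Amb σ ω p H) [Finite F]
include hH

theorem natCast_ne {n : ℕ} (h0 : 0 < n) (hn : n < p) : (n : F) ≠ 0 := fun e => by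
  haveI := hH.char
  exact Nat.not_dvd_of_pos_of_lt h0 hn ((CharP.cast_eq_zero_iff F p n).1 e)

theorem pow_p_eq {c : F} (h : c ^ p = 1) : c = 1 := by
  haveI := hH.char
  haveI : Fact p.Prime := ⟨hH.prime⟩
  haveI : ExpChar F p := ExpChar.prime hH.prime
  refine frobenius_inj F p ?_
  simp only [frobenius_def, h, one_pow]

theorem scaled_sq {l : F} {f : Pt → ZMod 3} (hl : l ^ 9 = 1) (h : (l • dg ω f) * (l • dg ω f) = (1 : M9 F)) :
    l • dg ω f = (1 : M9 F) := by
  rw [dg, ← diagonal_smul, diagonal_mul_diagonal, ← diagonal_one] at h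
  rw [dg, ← diagonal_smul, ← diagonal_one]
  congr 1
  funext v
  have e := congrFun (diagonal_injective h) v
  have e9 : ((l • fun v => wp ω (f v)) v) ^ 9 = 1 := by
    rw [Pi.smul_apply, smul_eq_mul, mul_pow, hl, one_mul,
      show wp ω (f v) ^ 9 = (wp ω (f v) ^ 3) ^ 3 by rw [← pow_mul], wp_pow_three hH.root, one_pow]
  rw [show (9 : ℕ) = 2 * 4 + 1 from rfl, pow_succ, pow_mul, pow_two, e, one_pow, one_mul] at e9
  exact e9

theorem in_Zp : In H (Zp : M9 F) := signed_negB (F := F) ▸ hH.in_signed negB_add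

theorem in_Za : In H (Za : M9 F) := hH.in_signed negA_add

theorem exists_T1 (k : ZMod 3) : ∃ T ∈ H, ((T : (M9 F)ˣ) : M9 F) = tU ω (P1 k) := by
  rw [tU_P1]; exact hH.in_dg (quadr_P1 k)

theorem exists_T20 : ∃ T ∈ H, ((T : (M9 F)ˣ) : M9 F) = tU ω (P2 0) ∧ ((T : (M9 F)ˣ) : M9 F) = dg ω (ez 1) := by
  obtain ⟨T, hT, eT⟩ := hH.in_dg quadr_Z
  refine ⟨T, hT, by rw [eT, tU_P2_zero, blk_Z3], ?_⟩
  rw [eT]; congr 1; funext w; simp [ez]

theorem exists_Sw : ∃ S ∈ H, ((S : (M9 F)ˣ) : M9 F) = Sw ∧ S⁻¹ = S ∧ Nor ω ((S : (M9 F)ˣ) : M9 F) := by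
  obtain ⟨S, hS, eS⟩ := hH.in_signed prodComm_add
  have e : (S : M9 F) = Sw := eS
  exact ⟨S, hS, e, inv_eq_of_mul_eq_one_right (Units.ext (by rw [Units.val_mul, e, Sw_mul_self, Units.val_one])),
    e ▸ nor_Sw hH.root⟩

/-- The normalising units, as a subgroup. -/
def norG : Subgroup (M9 F)ˣ where
  carrier := {g | Nor ω (g : M9 F)}
  one_mem' := by simpa using nor_one (ω := ω) (F := F)
  mul_mem' := fun {g k} hg hk => by simpa using Nor.mul hg hk
  inv_mem' := fun {g} hg => by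
    haveI := hH.finite
    have hpow : ∀ n : ℕ, Nor ω ((g ^ n : (M9 F)ˣ) : M9 F) := by
      intro n
      induction n with
      | zero => simpa using nor_one (ω := ω) (F := F)
      | succ n ih => rw [pow_succ, Units.val_mul]; exact ih.mul hg
    have h1 : g ^ (orderOf g - 1) = g⁻¹ := by
      rw [eq_inv_iff_mul_eq_one, ← pow_succ, Nat.sub_add_cancel (orderOf_pos g), pow_orderOf_eq_one]
    show Nor ω ((g⁻¹ : (M9 F)ˣ) : M9 F)
    rw [← h1]; exact hpow _

theorem mem_norG {g : (M9 F)ˣ} : g ∈ hH.norG ↔ Nor ω (g : M9 F) := Iff.rfl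

theorem T_cube {T : (M9 F)ˣ} (eT : (T : M9 F) = dg ω (ez 1)) : T ^ 3 = 1 := by
  refine Units.ext ?_
  rw [Units.val_pow_eq_pow_val, eT, dg_pow hH.root, Units.val_one, ← dg_zero (ω := ω)]
  congr 1
  funext w
  rw [show ((3 : ℕ) : ZMod 3) = 0 from ZMod.natCast_self 3, zero_mul]

theorem trace_eq_one {T : (M9 F)ˣ} (eT : (T : M9 F) = dg ω (ez 1)) {g : (M9 F)ˣ} {j : ZMod 3}
    (e : ((g * T * g⁻¹ : (M9 F)ˣ) : M9 F) = dg ω (ez j)) : j = 1 := by
  have h := congrArg Matrix.trace e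
  rw [Units.val_mul, Units.val_mul, Matrix.trace_units_conj, eT, trace_dg_ez, trace_dg_ez] at h
  exact wp_injective hH.root (mul_left_cancel₀ hH.root.three (by linear_combination -h))

theorem trace_ne (h2 : p ≠ 2) (E : Matrix (ZMod 3) (ZMod 3) F) (hE : E * E = E) (h0 : E.trace = 0) : E = 0 :=
  eq_zero_of_trace_zero hE h0 fun n h1 h2' => hH.natCast_ne h1 (by
    rw [ZMod.card] at h2'; have := hH.five_le h2; omega)

/-- A normalising member fixing the first block moves the two lifts by powers of the central generator. -/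
theorem lifts_of_fixed {t : (M9 F)ˣ} (ht : Nor ω (t : M9 F))
    (hfix : ∀ b, (t : M9 F) *ᵥ Pi.single ((0 : ZMod 3), b) 1 = Pi.single ((0 : ZMod 3), b) 1) (v : Pt) :
    ∃ i, (t : M9 F) * Bv ω v = (Bv ω v * dg ω (dot (i, 0))) * t := by
  have hω := hH.root
  obtain ⟨s, ⟨k, u, w, rfl⟩, e⟩ := ht (Bv ω v) ⟨_, _, _, rfl⟩
  obtain ⟨u1, u2⟩ := u
  have hb : ∀ (k : ZMod 3) (u w : Pt) (c : ZMod 3), (Rm ω k u w : M9 F) *ᵥ Pi.single ((0 : ZMod 3), c) 1 =
      (wp ω k * wp ω (w.2 * c)) • (Pi.single (((0 : ZMod 3), c) + u) 1 : Pt → F) := by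
    intro k u w c
    funext i
    rw [mulVec_single_one, Rm]
    show (wp ω k • (sh u * dg ω (dot w)) : M9 F) i (0, c) = _
    rw [Matrix.smul_apply, dg, mul_diagonal, sh_apply, Pi.smul_apply, Pi.single_apply, smul_eq_mul, smul_eq_mul]
    split_ifs <;> simp [dot]
  have key : ∀ c : ZMod 3, (Bv ω v : M9 F) *ᵥ Pi.single ((0 : ZMod 3), c) 1 =
      (Rm ω k (u1, u2) w : M9 F) *ᵥ Pi.single ((0 : ZMod 3), c) 1 := by
    intro c
    have h1 := congrArg (fun A : M9 F => A *ᵥ Pi.single ((0 : ZMod 3), c) 1) e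
    simp only [← mulVec_mulVec, hfix] at h1
    rw [← h1, Bv, hb, mulVec_smul]
    congr 1
    rw [Prod.mk_add_mk, add_zero, hfix]
  have k2 : ∀ c, wp ω (v.2 * c) • (Pi.single ((0, c + v.1) : Pt) (1 : F) : Pt → F) =
      (wp ω k * wp ω (w.2 * c)) • Pi.single ((u1, c + u2) : Pt) 1 := fun c => by
    have := key c
    rw [Bv, hb, hb, wp_zero, one_mul, Prod.mk_add_mk, Prod.mk_add_mk, add_zero, zero_add] at this
    exact this
  have hu : ((0, 0 + v.1) : Pt) = (u1, 0 + u2) := by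
    by_contra hne
    have := congrFun (k2 0) (0, 0 + v.1)
    rw [Pi.smul_apply, Pi.smul_apply, Pi.single_eq_same, Pi.single_eq_of_ne hne, smul_eq_mul, mul_one, smul_zero] at this
    exact wp_ne_zero hω _ this
  simp only [zero_add, Prod.mk.injEq] at hu
  obtain ⟨rfl, rfl⟩ := hu
  have k3 : ∀ c, v.2 * c = k + w.2 * c := fun c => by
    have := congrFun (k2 c) (0, c + v.1)
    simp only [Pi.smul_apply, Pi.single_eq_same, smul_eq_mul, mul_one, ← wp_add hω] at this
    exact wp_injective hω this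
  have hk : k = 0 := by simpa using (k3 0).symm
  subst hk
  have hw : w.2 = v.2 := by simpa using (k3 1).symm
  refine ⟨w.1, ?_⟩
  obtain ⟨w1, w2⟩ := w
  obtain rfl : w2 = v.2 := hw
  rw [e, Rm_split hω 0 w1 v, wp_zero, one_smul]

theorem diag_step {α : Pt → F} (hn : Nor ω (diagonal α : M9 F)) (hα : ∀ v, α v ≠ 0) (e0 : Pt) :
    ∃ (k : ZMod 3) (w : Pt), ∀ v, α (v + e0) = wp ω (k + dot w v) * α v := by
  obtain ⟨s, ⟨k, u, w, rfl⟩, e⟩ := hn (sh e0) (inR_sh e0)
  have key : ∀ v, α (v + e0) = if v + e0 = v + u then wp ω k * wp ω (dot w v) * α v else 0 := fun v => by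
    have := congrFun (congrFun e (v + e0)) v
    rw [diagonal_mul, mul_diagonal, sh_apply, if_pos rfl, mul_one, Rm, Matrix.smul_apply, dg, mul_diagonal, sh_apply,
      smul_eq_mul] at this
    rw [this]
    split_ifs <;> simp
  have hu : e0 = u := by
    by_contra hne
    have := key 0
    rw [if_neg (fun q => hne (add_left_cancel q))] at this
    exact hα _ this
  exact ⟨k, w, fun v => by rw [key v, if_pos (by rw [hu]), wp_add hH.root]⟩

theorem diag_quadr (hS : SM ω H) {α : Pt → F} (h : In H (diagonal α)) :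
    ∃ (l : F) (f : Pt → ZMod 3), Quadr f ∧ l ^ 9 = 1 ∧ diagonal α = l • dg ω f := by
  have hω := hH.root
  obtain ⟨z, hz, ez'⟩ := h
  have hn : Nor ω (diagonal α : M9 F) := ez' ▸ hS z hz (by rw [ez']; exact diag_x α)
  have hdet : ∏ v, α v = 1 := by rw [← det_diagonal, ← ez']; exact hH.det_eq z hz
  have hne : ∀ v, α v ≠ 0 := fun v e => by
    rw [Finset.prod_eq_zero (Finset.mem_univ v) e] at hdet
    exact zero_ne_one hdet
  obtain ⟨k, w, hk⟩ := hH.diag_step hn hne (1, 0)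
  obtain ⟨k', w', hk'⟩ := hH.diag_step hn hne (0, 1)
  obtain ⟨f, hf⟩ : ∃ f : Pt → ZMod 3, f = fun v => (k - 2 * w.1) * v.1 + (k' - 2 * w'.2) * v.2 +
      2 * w.1 * (v.1 * v.1) + w.2 * (v.1 * v.2) + 2 * w'.2 * (v.2 * v.2) := ⟨_, rfl⟩
  have hq : Quadr f := ⟨0, k - 2 * w.1, k' - 2 * w'.2, 2 * w.1, w.2, 2 * w'.2, hf ▸ funext fun v => by ring⟩
  have st : ∀ v, f (v + (1, 0)) = k + dot w v + f v := fun v => by
    simp only [hf, dot, Prod.fst_add, Prod.snd_add]
    have h3 : (3 : ZMod 3) = 0 := by decide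
    linear_combination (w.1 * v.1) * h3
  have st' : ∀ b : ZMod 3, f (((0 : ZMod 3), b) + (0, 1)) = k' + dot w' (0, b) + f (0, b) := fun b => by
    simp only [hf, dot, Prod.mk_add_mk, add_zero]
    have h3 : (3 : ZMod 3) = 0 := by decide
    linear_combination (w'.2 * b) * h3
  have col : ∀ b : ZMod 3, α (0, b) = α 0 * wp ω (f (0, b)) := by
    have h0 : α (0, 0) = α 0 * wp ω (f (0, 0)) := by simp [hf, wp_zero]; rfl
    have h' : ∀ b : ZMod 3, α (0, b) = α 0 * wp ω (f (0, b)) → α (0, b + 1) = α 0 * wp ω (f (0, b + 1)) := fun b e => by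
      have a1 := hk' (0, b)
      have a2 := st' b
      simp only [Prod.mk_add_mk, add_zero] at a1 a2
      rw [a1, e, a2, wp_add hω (_ + _)]; ring
    intro b
    rcases zmod3_cases b with rfl | rfl | rfl
    · exact h0
    · simpa using h' 0 h0
    · have := h' 1 (by simpa using h' 0 h0)
      simpa [show (1 : ZMod 3) + 1 = 2 by decide] using this
  have all : ∀ v, α v = α 0 * wp ω (f v) := by
    have h' : ∀ v : Pt, α v = α 0 * wp ω (f v) → α (v + (1, 0)) = α 0 * wp ω (f (v + (1, 0))) := fun v e => by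
      rw [hk v, e, st, wp_add hω (_ + _)]; ring
    rintro ⟨a, b⟩
    rcases zmod3_cases a with rfl | rfl | rfl
    · exact col b
    · simpa using h' (0, b) (col b)
    · have := h' (1, b) (by simpa using h' (0, b) (col b))
      simpa [show (1 : ZMod 3) + 1 = 2 by decide] using this
  refine ⟨α 0, f, hq, ?_, ?_⟩
  · have h1 : (dg ω f).det = 1 := det_dg_quadr hω hq
    have h2 : (diagonal α : M9 F) = α 0 • dg ω f := by
      rw [dg, ← diagonal_smul]; congr 1; funext v; rw [Pi.smul_apply, smul_eq_mul]; exact all v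
    have h3 := congrArg Matrix.det h2
    rw [det_diagonal, hdet, det_smul, h1, mul_one, show Fintype.card Pt = 9 by decide] at h3
    exact h3.symm
  · rw [dg, ← diagonal_smul]; congr 1; funext v; rw [Pi.smul_apply, smul_eq_mul]; exact all v

/-- A normalising element of order `p` commuting with the central generator is trivial. -/
theorem nor_x_pow_p (h2 : p ≠ 2) {g : (M9 F)ˣ} (hg : g ∈ H) (hnor : Nor ω (g : M9 F))
    (hx : (g : M9 F) * xM ω = xM ω * g) (hp : (g : M9 F) ^ p = 1) : g = 1 := by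
  classical
  have hω := hH.root
  haveI : Fact p.Prime := ⟨hH.prime⟩
  have himg : ∀ v : Pt, ∃ w : Pt, ∃ k i, (g : M9 F) * Bv ω v = Rm ω k (0, w.1) (i, w.2) * g := by
    intro v
    obtain ⟨s, ⟨k, u, t, rfl⟩, e⟩ := hnor (Bv ω v) ⟨_, _, _, rfl⟩
    have hxx : (Bv ω v : M9 F) * xM ω = xM ω * Bv ω v := by
      have e1 : (xM ω : M9 F) = Rm ω 0 0 (1, 0) := by simp [Rm, wp_zero, sh_zero, xM]
      rw [e1, Bv, Rm_mul hω, Rm_mul hω]
      congr 1 <;> simp [dot, add_comm]
    have hs : (Rm ω k u t : M9 F) * xM ω = xM ω * Rm ω k u t := by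
      have e' : ((Rm ω k u t : M9 F) * xM ω) * g = (xM ω * Rm ω k u t) * g := by
        rw [mul_assoc, mul_assoc, ← hx, ← mul_assoc, ← e, mul_assoc, hxx, ← mul_assoc, hx, mul_assoc]
      exact (Units.mul_left_inj g).1 e'
    have hu : u.1 = 0 := by
      have e1 : (xM ω : M9 F) = Rm ω 0 0 (1, 0) := by simp [Rm, wp_zero, sh_zero, xM]
      rw [e1, Rm_mul hω, Rm_mul hω] at hs
      have := (Rm_injective hω hs).1
      simp [dot] at this
      exact this
    obtain ⟨u1, u2⟩ := u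
    obtain rfl : u1 = 0 := hu
    exact ⟨(u2, t.2), k, t.1, e⟩
  choose σ kk ii hσ using himg
  have hiter : ∀ (n : ℕ) (v : Pt), ∃ k i, ((g : M9 F) ^ n) * Bv ω v =
      Rm ω k (0, (σ^[n] v).1) (i, (σ^[n] v).2) * (g : M9 F) ^ n := by
    intro n
    induction n with
    | zero => exact fun v => ⟨0, 0, by rw [pow_zero, one_mul, mul_one]; rfl⟩
    | succ n ih =>
      intro v
      obtain ⟨k, i, e⟩ := ih v
      refine ⟨k + kk (σ^[n] v), ii (σ^[n] v) + i, ?_⟩
      rw [pow_succ', mul_assoc, e, ← mul_assoc, step_class hω hx (hσ _) k i, Function.iterate_succ_apply',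
        mul_assoc]
  have hper : ∀ v, σ^[p] v = v := by
    intro v
    obtain ⟨k, i, e⟩ := hiter p v
    rw [hp, one_mul, mul_one, Bv] at e
    obtain ⟨-, h1, h2⟩ := Rm_injective hω e
    exact (Prod.ext (Prod.ext_iff.1 h1).2.symm (Prod.ext_iff.1 h2).2.symm)
  have hbij : Function.Bijective σ := by
    have h1 : p = (p - 1) + 1 := by have := hH.five_le h2; omega
    refine Finite.injective_iff_bijective.1 fun a b e => ?_
    have := congrArg (σ^[p - 1]) e
    rwa [← Function.iterate_succ_apply, ← Function.iterate_succ_apply, Nat.succ_eq_add_one, ← h1, hper, hper] at this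
  obtain ⟨π, hπ⟩ : ∃ π : Equiv.Perm Pt, ⇑π = σ := ⟨Equiv.ofBijective σ hbij, rfl⟩
  have hπp : π ^ p = 1 := Equiv.ext fun v => by
    rw [Equiv.Perm.coe_pow, hπ, hper]; rfl
  have h0 : π 0 = 0 := by
    rw [hπ]
    have e := hσ 0
    have e0 : (Bv ω (0 : Pt) : M9 F) = 1 := by rw [Bv]; exact Rm_zero
    rw [e0, mul_one] at e
    have e1 : (Rm ω (kk 0) (0, (σ 0).1) (ii 0, (σ 0).2) : M9 F) = Rm ω 0 0 0 := by
      rw [Rm_zero]
      exact (Units.mul_left_inj g).1 (by rw [one_mul]; exact e.symm)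
    obtain ⟨-, a, b⟩ := Rm_injective hω e1
    exact Prod.ext (Prod.ext_iff.1 a).2 (Prod.ext_iff.1 b).2
  have hneg : ∀ v, π (-v) = -π v := by
    intro v
    rw [hπ]
    have e : (g : M9 F) * (Bv ω v * Bv ω (-v)) =
        (Rm ω (kk v) (0, (σ v).1) (ii v, (σ v).2) * Rm ω (kk (-v)) (0, (σ (-v)).1) (ii (-v), (σ (-v)).2)) * g := by
      rw [← mul_assoc, hσ, mul_assoc, hσ, ← mul_assoc]
    rw [Bv, Bv, Rm_mul hω, Rm_mul hω] at e
    simp only [Prod.fst_neg, Prod.snd_neg, Prod.mk_add_mk, add_neg_cancel, add_zero, Prod.mk_zero_zero] at e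
    rw [Rm, sh_zero, one_mul, show dot (0 : Pt) = fun _ => (0 : ZMod 3) from funext zero_dot, dg_zero] at e
    rw [Matrix.mul_smul, mul_one] at e
    have e1 := (Units.mul_left_inj g).1 (show _ * (g : M9 F) = (wp ω _ • (1 : M9 F)) * g from by
      rw [← e, Matrix.smul_mul, one_mul])
    rw [← inR_scalar_eq] at e1
    obtain ⟨-, a, b⟩ := Rm_injective hω e1
    have a2 := (Prod.ext_iff.1 a).2
    have b2 := (Prod.ext_iff.1 b).2
    refine Prod.ext ?_ ?_
    · exact eq_neg_of_add_eq_zero_right a2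
    · exact eq_neg_of_add_eq_zero_right b2
  have hid := perm_fix5 (hH.five_le h2) h0 hneg hπp
  have hZ := hσ (0, 1)
  rw [show σ (0, 1) = ((0, 1) : Pt) by rw [← hπ, hid]; rfl] at hZ
  obtain ⟨k, hk⟩ : ∃ k, k = kk (0, 1) := ⟨_, rfl⟩
  obtain ⟨i, hi⟩ : ∃ i, i = ii (0, 1) := ⟨_, rfl⟩
  rw [← hk, ← hi] at hZ
  have hn : ∀ n : ℕ, (g : M9 F) ^ n * Bv ω (0, 1) =
      Rm ω ((n : ZMod 3) * k) (0, 0) ((n : ZMod 3) * i, 1) * (g : M9 F) ^ n := by
    intro n
    induction n with
    | zero => simp [Bv]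
    | succ n ih =>
      rw [pow_succ', mul_assoc, ih, ← mul_assoc, show ((0 : ZMod 3), (0 : ZMod 3)) = (0, ((0, 1) : Pt).1) from rfl,
        step_class hω hx (v := (0, 1)) (w := (0, 1)) hZ ((n : ZMod 3) * k) ((n : ZMod 3) * i), mul_assoc]
      congr 2 <;> push_cast <;> ring_nf
  have e := hn p
  rw [hp, one_mul, mul_one, Bv] at e
  obtain ⟨a, -, b⟩ := Rm_injective hω e
  have hp3 : (p : ZMod 3) ≠ 0 := fun h => by
    have := (ZMod.natCast_eq_zero_iff _ _).1 h
    have := (Nat.prime_dvd_prime_iff_eq Nat.prime_three hH.prime).1 this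
    have := hH.five_le h2
    omega
  have hk0 : k = 0 := (mul_eq_zero.1 a.symm).resolve_left hp3
  have hi0 : i = 0 := (mul_eq_zero.1 (Prod.ext_iff.1 b).1.symm).resolve_left hp3
  rw [hk0, hi0] at hZ
  have hB : (Bv ω (0, 1) : M9 F) = dg ω (dot (0, 1)) := by
    rw [Bv, Rm, wp_zero, one_smul, Prod.mk_zero_zero, sh_zero, one_mul]
  have hcomm : (g : M9 F) * dg ω (dot (0, 1)) = dg ω (dot (0, 1)) * g := by
    rw [← hB]; exact hZ
  have supp : ∀ s t, (g : M9 F) s t ≠ 0 → s = t := by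
    intro s t h0
    have a1 := congrFun (congrFun hx s) t
    rw [xM, dg, mul_diagonal, diagonal_mul, mul_comm] at a1
    have a2 := congrFun (congrFun hcomm s) t
    rw [dg, mul_diagonal, diagonal_mul, mul_comm] at a2
    have b1 := wp_injective hω (mul_right_cancel₀ h0 a1)
    have b2 := wp_injective hω (mul_right_cancel₀ h0 a2)
    simp [dot] at b1 b2
    exact Prod.ext b1.symm b2.symm
  have hd : (g : M9 F) = diagonal fun v => (g : M9 F) v v := by
    ext s t
    by_cases e : s = t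
    · rw [e, diagonal_apply_eq]
    · rw [diagonal_apply_ne _ e]; by_contra q; exact e (supp s t q)
  refine Units.ext ?_
  rw [hd, diagonal_pow, ← diagonal_one] at hp
  rw [hd, Units.val_one, ← diagonal_one]
  congr 1
  funext v
  exact hH.pow_p_eq (congrFun (diagonal_injective hp) v)

/-- An element of order `p` commuting with the central generator is trivial. -/
theorem cent_x_pow_p (h2 : p ≠ 2) (hS : SM ω H) {g : (M9 F)ˣ} (hg : g ∈ H)
    (hx : (g : M9 F) * xM ω = xM ω * g) (hp : (g : M9 F) ^ p = 1) : g = 1 :=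
  hH.nor_x_pow_p h2 hg (hS g hg hx) hx hp

end Amb

end CfsgLib.Classical.QutritU
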