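import Cfsg.Agent.Lib.Classical.QutritU.Small.Tri

/-!
# The centraliser of a projection on the first coordinate lies in the normaliser
-/

set_option autoImplicit false
set_option linter.unusedSectionVars false
set_option linter.unusedSimpArgs false
set_option linter.style.haveILetI false

namespace CfsgLib.Classical.QutritU

open Matrix hiding row row_apply
open CfsgLib.Classical.QutritMax
open scoped Kronecker

variable {F : Type*} [Field F] {σ : F →+* F} {ω : F} {p : ℕ} {H : Subgroup (M9 F)ˣ}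

namespace Amb

variable (hH : Amb σ ω p H) [Finite F]
include hH

/-- Members commuting with the central generator normalise. -/
theorem nor_cent_x (_h2 : p ≠ 2) (hS : SM ω H) {g : (M9 F)ˣ} (hg : g ∈ H)
    (hx : (g : M9 F) * xM ω = xM ω * (g : M9 F)) : Nor ω (g : M9 F) :=
  hS g hg hx

/-- Members commuting with the two lifts and the central generator, trivial on the first block, of square or
cube one and diagonal. -/
theorem scalar_rows_sq (h2 : p ≠ 2) (hS : SM ω H) {z : (M9 F)ˣ} (hz : z ∈ H) (hx : (z : M9 F) * xM ω = xM ω * z)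
    (hfix : ∀ b, (z : M9 F) *ᵥ Pi.single ((0 : ZMod 3), b) 1 = Pi.single ((0 : ZMod 3), b) 1)
    (hzz : (z : M9 F) * z = 1) : z = 1 := by
  have hω := hH.root
  have hnor := hH.nor_cent_x h2 hS hz hx
  have hcomm : ∀ v, (z : M9 F) * Bv ω v = Bv ω v * z := by
    intro v
    obtain ⟨i, e⟩ := hH.lifts_of_fixed hnor hfix v
    have e2 : (Bv ω v : M9 F) = Bv ω v * dg ω (dot (i + i, 0)) := by
      have hD : dg ω (dot (i + i, 0)) = (dg ω (dot (i, 0)) * dg ω (dot (i, 0)) : M9 F) := by
        rw [dg_mul hω]; congr 1; funext w; simp [dot]; ring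
      calc (Bv ω v : M9 F) = (z : M9 F) * ((z : M9 F) * Bv ω v) := by rw [← mul_assoc, hzz, one_mul]
        _ = ((z : M9 F) * Bv ω v) * (dg ω (dot (i, 0)) * (z : M9 F)) := by rw [e]; simp only [mul_assoc]; rw [← mul_assoc (z : M9 F) (Bv ω v), e]; simp only [mul_assoc]
        _ = Bv ω v * (dg ω (dot (i, 0)) * ((z : M9 F) * dg ω (dot (i, 0)) * (z : M9 F))) := by rw [e]; simp only [mul_assoc]
        _ = _ := by rw [dgi_comm hω hx, mul_assoc, hzz, mul_one, hD]
    have hi : i + i = 0 := by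
      have e3 : Rm ω 0 (0, v.1) (0, v.2) = (Rm ω 0 (0, v.1) (i + i, v.2) : M9 F) := by
        rw [Rm_split hω, Rm_split hω, wp_zero, one_smul, one_smul, ← e2, show dot ((0 : ZMod 3), (0 : ZMod 3)) =
          fun _ => (0 : ZMod 3) from funext fun w => by simp [dot], dg_zero, mul_one]
      exact (Prod.ext_iff.1 (Rm_injective hω e3).2.2).1.symm
    rw [e, sq_table i hi, show dot ((0 : ZMod 3), (0 : ZMod 3)) =
      fun _ => (0 : ZMod 3) from funext fun w => by simp [dot], dg_zero, mul_one]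
  obtain ⟨c, hc⟩ := comm_bd_of_gens hω hx (hcomm (0, 1)) (hcomm (1, 0))
  have hd : (z : M9 F) = diagonal fun v : Pt => c v.1 := by
    rw [hc]; ext s t; rw [bd_apply, diagonal_apply]
    by_cases e : s = t
    · subst e; simp
    · rw [if_neg e]; split_ifs with e1
      · rw [Matrix.smul_apply, Matrix.one_apply_ne (fun q => e (Prod.ext e1 q)), smul_zero]
      · rfl
  obtain ⟨l, f, -, hl, e⟩ := hH.diag_quadr hS ⟨z, hz, hd⟩
  refine Units.ext ?_
  rw [hd, e] at hzz
  rw [hd, e, Units.val_one]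
  exact hH.scaled_sq hl hzz

/-- The members commuting with a projection on the first coordinate normalise. -/
theorem nor_cent_P1 (h2 : p ≠ 2) (hS : SM ω H) {g : (M9 F)ˣ} (hg : g ∈ H) (h0 : (g : M9 F) * P1 0 = (P1 0 : M9 F) * (g : M9 F)) :
    Nor ω (g : M9 F) := by
  have hω := hH.root
  obtain ⟨T, hT, eT⟩ := hH.exists_T1 2
  have hTP : ∀ k, (T : M9 F) * P1 k = (P1 k : M9 F) * (T : M9 F) := fun k => by
    rw [eT, tU_P1, dg, P1, diagonal_mul_diagonal, diagonal_mul_diagonal]; congr 1; funext v; ring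
  have hT0 : ∀ b, (T : M9 F) *ᵥ Pi.single ((0 : ZMod 3), b) 1 = (1 : F) • Pi.single ((0 : ZMod 3), b) 1 := by
    intro b
    rw [eT, tU, add_mulVec, one_mulVec, smul_mulVec, P1_single, if_neg (by decide), zero_smul, smul_zero, add_zero,
      one_smul]
  obtain ⟨Q, hQ⟩ : ∃ Q, Q = (g : M9 F) * P1 2 * ((g⁻¹ : (M9 F)ˣ) : M9 F) := ⟨_, rfl⟩
  have gi0 : ((g⁻¹ : (M9 F)ˣ) : M9 F) * P1 0 = P1 0 * ((g⁻¹ : (M9 F)ˣ) : M9 F) := (Commute.units_inv_left h0 : _)
  have hQQ : Q * Q = Q := by
    rw [hQ]; simp only [mul_assoc]; rw [← mul_assoc ((g⁻¹ : (M9 F)ˣ) : M9 F) (g : M9 F), Units.inv_mul, one_mul,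
      ← mul_assoc (P1 2 : M9 F) (P1 2 : M9 F), P1_idem]
  have hQ0 : Q * P1 0 = 0 := by
    rw [hQ, mul_assoc, gi0, ← mul_assoc, mul_assoc (g : M9 F), P1_mul_of_ne (by decide), mul_zero, zero_mul]
  have h0Q : P1 0 * Q = 0 := by
    rw [hQ, ← mul_assoc, ← mul_assoc, ← h0, mul_assoc (g : M9 F), P1_mul_of_ne (by decide), mul_zero, zero_mul]
  have hTQ : ((g * T * g⁻¹ : (M9 F)ˣ) : M9 F) = tU ω Q := by
    rw [Units.val_mul, Units.val_mul, eT, tU, tU, hQ, mul_add, add_mul, mul_one, Units.mul_inv, mul_smul_comm,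
      smul_mul_assoc]
  have hQfix : ∀ b, ((g * T * g⁻¹ : (M9 F)ˣ) : M9 F) *ᵥ Pi.single ((0 : ZMod 3), b) 1 =
      (1 : F) • Pi.single ((0 : ZMod 3), b) 1 := by
    intro b
    have e : (Pi.single ((0 : ZMod 3), b) 1 : Pt → F) = P1 0 *ᵥ Pi.single ((0 : ZMod 3), b) 1 := by
      rw [P1_single, if_pos rfl, one_smul]
    rw [hTQ, tU, add_mulVec, one_mulVec, smul_mulVec, e, mulVec_mulVec, hQ0, zero_mulVec, smul_zero, add_zero,
      one_smul]
  have hQP0 : ((g * T * g⁻¹ : (M9 F)ˣ) : M9 F) * P1 0 = P1 0 * ((g * T * g⁻¹ : (M9 F)ˣ) : M9 F) := by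
    rw [hTQ, tU, add_mul, mul_add, one_mul, mul_one, smul_mul_assoc, mul_smul_comm, hQ0, h0Q]
  have two0 : (2 : ZMod 3) ≠ 0 := by decide
  rcases hH.conj_cases h2 (P1_idem 2) eT hT hg with hc | ⟨z, hz0, hzH, hz1, hzz, hzP, -⟩ | ⟨u, hu0, huH, hu1, hup, huP⟩ |
    ⟨u, hu0, huH, hu1, b, c, e, hPb, hbP, hPc, hcP, hbc, hcb, hbb, hcc⟩
  · rw [← hQ] at hc
    have hQx : Q * xM ω = xM ω * Q := comm_x_of_P1 hω two0 hc.symm (by rw [hQ0, h0Q])
    obtain ⟨t, ht⟩ : ∃ t, t = g * T * g⁻¹ := ⟨_, rfl⟩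
    have etx : (t : M9 F) * xM ω = xM ω * t := by
      rw [ht, hTQ, tU, add_mul, mul_add, one_mul, mul_one, smul_mul_assoc, mul_smul_comm, hQx]
    have htH : t ∈ H := ht ▸ mul_mem (mul_mem hg hT) (inv_mem hg)
    have hfix : ∀ b, (t : M9 F) *ᵥ Pi.single ((0 : ZMod 3), b) 1 = Pi.single ((0 : ZMod 3), b) 1 := fun b => by
      rw [ht, hQfix, one_smul]
    have hnor := hH.nor_cent_x h2 hS htH etx
    have hcomm : ∀ v, Q * Bv ω v = Bv ω v * Q := by
      intro v
      obtain ⟨i, e⟩ := hH.lifts_of_fixed hnor hfix v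
      have hrx : (Bv ω v : M9 F) * xM ω = xM ω * Bv ω v := by
        have e1 : (xM ω : M9 F) = Rm ω 0 0 (1, 0) := by simp [Rm, wp_zero, sh_zero, xM]
        rw [e1, Bv, Rm_mul hω, Rm_mul hω]
        congr 1 <;> simp [dot, add_comm]
      have hdx : (dg ω (dot (i, 0)) : M9 F) * xM ω = xM ω * dg ω (dot (i, 0)) := by rw [dg, diag_x]
      have hi : i = 0 := by
        by_contra hi
        have er := congrArg (fun A => QutritMax.row A 1) e
        rw [row_mul hω etx hrx, row_mul hω (Commute.mul_left hrx hdx : _) etx, dgi_row i 1 _ hω hrx, mul_one,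
          Matrix.smul_mul] at er
        have et : QutritMax.row (t : M9 F) 1 = 1 + (ω - 1) • QutritMax.row Q 1 := by
          rw [ht, hTQ]
          ext b d
          simp [row_apply, tU, Matrix.one_apply]
        rw [et] at er
        refine no_twist hω (hH.two_ne_zero' h2) ?_ (fun q => hi (wp_injective hω (q.trans wp_zero.symm))) ?_ er
        · rw [← row_mul hω hQx hQx, hQQ]
        · intro q
          have : QutritMax.row (Bv ω v : M9 F) 1 * QutritMax.row ((Bv ω (-v) : M9 F)) 1 = QutritMax.row ((Bv ω v : M9 F) * Bv ω (-v)) 1 := by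
            refine (row_mul hω hrx ?_ 1).symm
            have e1 : (xM ω : M9 F) = Rm ω 0 0 (1, 0) := by simp [Rm, wp_zero, sh_zero, xM]
            rw [e1, Bv, Rm_mul hω, Rm_mul hω]
            congr 1 <;> simp [dot, add_comm]
          rw [Bv, Bv, Rm_mul hω] at this
          simp only [Prod.fst_neg, Prod.snd_neg, Prod.mk_add_mk, add_neg_cancel, add_zero, Prod.mk_zero_zero] at this
          rw [inR_scalar_eq, ← Bv] at this
          have hd := congrArg Matrix.det this
          rw [det_mul, q, zero_mul] at hd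
          have : ∀ c : F, QutritMax.row (c • (1 : M9 F)) 1 = c • (1 : Matrix (ZMod 3) (ZMod 3) F) := fun c => by
            ext b d; simp [row_apply, Matrix.one_apply]
          rw [this, det_smul, det_one, mul_one] at hd
          exact pow_ne_zero _ (wp_ne_zero hω _) hd.symm
      rw [hi, show dot ((0 : ZMod 3), (0 : ZMod 3)) = fun _ => (0 : ZMod 3) from funext fun w => by simp [dot],
        dg_zero, mul_one, ht, hTQ] at e
      exact ((tU_comm hω.cube).1 (show Commute (Bv ω v : M9 F) (tU ω Q) from e.symm)).symm.eq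
    obtain ⟨c, hc'⟩ := comm_bd_of_gens hω hQx (hcomm (0, 1)) (hcomm (1, 0))
    have hd : Q = diagonal fun v : Pt => c v.1 := by
      rw [hc']; ext s q; rw [bd_apply, diagonal_apply]
      by_cases e : s = q
      · subst e; simp
      · rw [if_neg e]; split_ifs with e1
        · rw [Matrix.smul_apply, Matrix.one_apply_ne (fun r => e (Prod.ext e1 r)), smul_zero]
        · rfl
    have c01 : ∀ a, c a = 0 ∨ c a = 1 := fun a => by
      have := congrFun (congrFun hQQ (a, 0)) (a, 0)
      rw [hd, diagonal_mul_diagonal, diagonal_apply_eq, diagonal_apply_eq] at this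
      rcases eq_or_ne (c a) 0 with e | e
      · exact Or.inl e
      · exact Or.inr (mul_right_cancel₀ e (by rw [one_mul]; exact this))
    have c0 : c 0 = 0 := by
      have := congrFun (congrFun hQ0 (0, 0)) (0, 0)
      rw [hd, P1, diagonal_mul_diagonal, diagonal_apply_eq] at this
      simpa using this
    have ctr : c 1 + c 2 = 1 := by
      have htr : Q.trace = (P1 2 : M9 F).trace := by rw [hQ, Matrix.trace_units_conj]
      rw [hd, P1, trace_diagonal, trace_diagonal, Fintype.sum_prod_type, Fintype.sum_prod_type] at htr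
      simp only [sum3, c0, if_neg (show (0 : ZMod 3) ≠ 2 by decide), if_neg (show (1 : ZMod 3) ≠ 2 by decide), if_pos] at htr
      exact mul_left_cancel₀ hω.three (by linear_combination htr)
    rcases c01 1 with e1 | e1
    · have hQ2 : Q = P1 2 := by
        rw [e1, zero_add] at ctr
        rw [hd, P1]; congr 1; funext v
        rcases zmod3_cases v.1 with e | e | e <;> simp [e, c0, e1, ctr, two0.symm, show (1 : ZMod 3) ≠ 2 by decide]
      refine hH.nor_cent_x h2 hS hg (comm_x_of_P1 hω two0 ?_ h0)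
      conv_rhs => rw [← hQ2, hQ, mul_assoc, Units.inv_mul, mul_one]
    · have hQ1 : Q = P1 1 := by
        rw [e1, add_eq_left] at ctr
        rw [hd, P1]; congr 1; funext v
        rcases zmod3_cases v.1 with e | e | e <;>
          simp [e, c0, e1, ctr, show (0 : ZMod 3) ≠ 1 by decide, show (2 : ZMod 3) ≠ 1 by decide]
      obtain ⟨N, hN', eN⟩ := hH.in_Za
      have h1 : Nor ω ((N * g : (M9 F)ˣ) : M9 F) := by
        refine hH.nor_cent_x h2 hS (mul_mem hN' hg) (comm_x_of_P1 hω two0 ?_ ?_)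
        · have e2 : (g : M9 F) * P1 2 = (P1 1 : M9 F) * (g : M9 F) := by rw [← hQ1, hQ, mul_assoc, Units.inv_mul, mul_one]
          rw [Units.val_mul, eN, mul_assoc, e2, ← mul_assoc, Za_P1, show -(1 : ZMod 3) = 2 by decide, mul_assoc]
        · rw [Units.val_mul, eN, mul_assoc, h0, ← mul_assoc, Za_P1, neg_zero, mul_assoc]
      have := (nor_Za (F := F) hω).mul h1
      rwa [Units.val_mul, eN, ← mul_assoc, Za_mul_self, one_mul] at this
  · exfalso
    have hzx := comm_x_of_P1 hω two0 hzP (DGrp.comm hz0 (hTP 0) hQP0)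
    exact hz1 (hH.scalar_rows_sq h2 hS hzH hzx (fun b => DGrp.fix hz0 (hT0 b) (hQfix b)) hzz)
  · exfalso
    exact hu1 (hH.cent_x_pow_p h2 hS huH (comm_x_of_P1 hω two0 huP (DGrp.comm hu0 (hTP 0) hQP0)) hup)
  · exfalso
    exact hu1 (hH.one_sided_trivial h2 hS huH e hPb hbP hPc hcP hbc hcb hbb hcc)

end Amb

end CfsgLib.Classical.QutritU
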