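import Cfsg.Agent.Lib.Classical.QutritU.Small.PlusNor

/-!
# Involutions at a pair of projections
-/

set_option autoImplicit false
set_option linter.unusedSectionVars false
set_option linter.unusedSimpArgs false
set_option linter.style.haveILetI false

namespace CfsgLib.Classical.QutritU

open Matrix hiding row row_apply
open CfsgLib.Classical.QutritMax
open scoped Kronecker

variable {F : Type*} [Field F] {σ : F →+* F} {ω : F} {p : ℕ} {H : Subgroup (M9 F)ˣ}

namespace Amb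

variable (hH : Amb σ ω p H) [Finite F]
include hH

theorem exists_Mv (k₁ i₁ k₂ i₂ : ZMod 3) : ∃ e, Mv ω H e k₁ i₁ k₂ i₂ := by
  have hω := hH.root
  have A1 : ∃ e, Mv ω H e k₁ 0 0 0 := by
    obtain ⟨S, hSH, eS⟩ := hH.in_sh ((0, -k₁) : Pt)
    refine ⟨S, hSH, eS ▸ nor_sh hω _, ?_, ?_, ?_, ?_⟩
    · rw [eS, xM, dg_mul_sh]; congr 2; funext w; simp [dot]
    · rw [eS, P1, sh, pm_mul_diagonal]; congr 2; funext w; simp [Equiv.addRight_symm]
    · rw [eS, Bv01, Rm, Prod.mk_zero_zero, sh_zero, one_mul, Matrix.smul_mul, dg_mul_sh, ← Matrix.mul_smul]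
      congr 1
      rw [dg, dg, ← diagonal_smul]
      congr 1; funext w
      rw [Pi.smul_apply, smul_eq_mul, ← wp_add hω]
      congr 1; simp [dot]
    · rw [eS, Bv10, Rm, wp_zero, one_smul, Prod.mk_zero_zero, show dot (0 : Pt) = fun _ => (0 : ZMod 3) from funext zero_dot,
        dg_zero, mul_one, sh_mul, sh_mul, add_comm]
  have A2 : ∃ e, Mv ω H e 0 0 k₂ 0 := by
    obtain ⟨D, hD, eD⟩ := hH.in_dg (f := dot (0, k₂)) ⟨0, 0, k₂, 0, 0, 0, funext fun w => by simp [dot]⟩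
    refine ⟨D, hD, eD ▸ nor_dg hω ⟨0, 0, k₂, 0, 0, 0, funext fun w => by simp [dot]⟩, ?_, ?_, ?_, ?_⟩
    · rw [eD, dg, diag_x]
    · rw [eD, dg, P1, diagonal_mul_diagonal, diagonal_mul_diagonal]; congr 1; funext v; ring
    · rw [eD, Bv01, Rm, wp_zero, one_smul, Prod.mk_zero_zero, sh_zero, one_mul, dg_mul hω, dg_mul hω, add_comm]
    · rw [eD, Bv10, dg_mul_sh, Rm, Prod.mk_zero_zero, show dot (0 : Pt) = fun _ => (0 : ZMod 3) from funext zero_dot,
        dg_zero, mul_one, Matrix.smul_mul, ← Matrix.mul_smul]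
      congr 1
      rw [dg, dg, ← diagonal_smul]
      congr 1; funext w
      rw [Pi.smul_apply, smul_eq_mul, ← wp_add hω]
      congr 1; simp [dot]; ring
  have A3 : ∃ e, Mv ω H e 0 0 0 i₂ := by
    have hq : Quadr (fun w : Pt => i₂ * (w.1 * w.2)) := ⟨0, 0, 0, 0, i₂, 0, funext fun w => by ring⟩
    obtain ⟨D, hD, eD⟩ := hH.in_dg hq
    refine ⟨D, hD, eD ▸ nor_dg hω hq, ?_, ?_, ?_, ?_⟩
    · rw [eD, dg, diag_x]
    · rw [eD, dg, P1, diagonal_mul_diagonal, diagonal_mul_diagonal]; congr 1; funext v; ring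
    · rw [eD, Bv01, Rm, wp_zero, one_smul, Prod.mk_zero_zero, sh_zero, one_mul, dg_mul hω, dg_mul hω, add_comm]
    · rw [eD, Bv10, dg_mul_sh, Rm, wp_zero, one_smul, mul_assoc (sh (0, 1)) _ (dg ω _), dg_mul hω]
      congr 2
      funext w
      simp [dot]; ring
  have A4 : ∃ e, Mv ω H e 0 i₁ 0 0 := by
    obtain ⟨S, hSH, eS⟩ := hH.in_signed (shearBy_add (-i₁))
    refine ⟨S, hSH, eS ▸ (nor_pm hω (shearBy_add _)).smul _, ?_, ?_, ?_, ?_⟩
    · rw [eS, Matrix.smul_mul, Matrix.mul_smul, xM, pm_mul_dg]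
      congr 3; funext w; simp [dot, shearBy]
    · rw [eS, Matrix.smul_mul, Matrix.mul_smul, P1, pm_mul_diagonal]
      congr 2
    · rw [eS, Bv01, Rm, wp_zero, one_smul, Prod.mk_zero_zero, sh_zero, one_mul, Matrix.smul_mul, Matrix.mul_smul,
        pm_mul_dg]
      congr 3; funext w; simp [dot, shearBy]; ring
    · rw [eS, Bv10, Rm, wp_zero, one_smul, Prod.mk_zero_zero, show dot (0 : Pt) = fun _ => (0 : ZMod 3) from funext zero_dot,
        dg_zero, mul_one, Matrix.smul_mul, Matrix.mul_smul, pm_sh (shearBy_add _)]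
      congr 3
      try simp [shearBy]
  obtain ⟨e1, h1⟩ := A1
  obtain ⟨e2, h2⟩ := A2
  obtain ⟨e3, h3⟩ := A3
  obtain ⟨e4, h4⟩ := A4
  exact ⟨_, by simpa using ((h1.mul hω h2).mul hω h3).mul hω h4⟩

/-- Members commuting with the central generator and both lifts are scaled quadratic diagonals. -/
theorem scalar_member (h2 : p ≠ 2) (hS : SM ω H) {z : (M9 F)ˣ} (hz : z ∈ H) (hx : (z : M9 F) * xM ω = xM ω * (z : M9 F))
    (h1 : (z : M9 F) * Bv ω (0, 1) = Bv ω (0, 1) * (z : M9 F))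
    (h2 : (z : M9 F) * Bv ω (1, 0) = Bv ω (1, 0) * (z : M9 F)) :
    ∃ (l : F) (f : Pt → ZMod 3), Quadr f ∧ l ^ 9 = 1 ∧ (z : M9 F) = l • dg ω f := by
  obtain ⟨c, hc⟩ := comm_bd_of_gens hH.root hx h1 h2
  have hd : (z : M9 F) = diagonal fun v : Pt => c v.1 := by
    rw [hc]; ext s t; rw [bd_apply, diagonal_apply]
    by_cases e : s = t
    · subst e; simp
    · rw [if_neg e]; split_ifs with e1
      · rw [Matrix.smul_apply, Matrix.one_apply_ne (fun q => e (Prod.ext e1 q)), smul_zero]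
      · rfl
  obtain ⟨l, f, hf, hl, e⟩ := hH.diag_quadr hS ⟨z, hz, hd⟩
  exact ⟨l, f, hf, hl, hd.trans e⟩

theorem scaled_pow_nine {d : (M9 F)ˣ} {l : F} {f : Pt → ZMod 3} (hl : l ^ 9 = 1) (ed : (d : M9 F) = l • dg ω f) :
    d ^ 9 = 1 := Units.ext (by
  rw [Units.val_pow_eq_pow_val, ed, Units.val_one, dg, ← diagonal_smul, diagonal_pow, ← diagonal_one]
  congr 1
  funext v
  rw [Pi.pow_apply, Pi.smul_apply, smul_eq_mul, mul_pow, hl, one_mul,
    show wp ω (f v) ^ 9 = (wp ω (f v) ^ 3) ^ 3 by rw [← pow_mul], wp_pow_three hH.root, one_pow])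

end Amb

end CfsgLib.Classical.QutritU
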