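import Cfsg.Agent.Lib.Classical.QutritU.Small.RLine

/-!
# Members fixing the fixed space of the reflection
-/

set_option autoImplicit false
set_option linter.unusedSectionVars false
set_option linter.unusedSimpArgs false
set_option linter.style.haveILetI false

namespace CfsgLib.Classical.QutritU

open Matrix hiding row row_apply
open CfsgLib.Classical.QutritMax
open scoped Kronecker

variable {F : Type*} [Field F] {σ : F →+* F} {ω : F} {p : ℕ} {H : Subgroup (M9 F)ˣ}

namespace Amb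

variable (hH : Amb σ ω p H) [Finite F]
include hH

theorem K2_T : ∃ T ∈ K2 H, ((T : (M9 F)ˣ) : M9 F) = tU ω (P2 0) ∧ ((T : (M9 F)ˣ) : M9 F) = dg ω (ez 1) := by
  obtain ⟨T, hT, eT, eT'⟩ := hH.exists_T20
  refine ⟨T, ⟨hT, ?_, ?_⟩, eT, eT'⟩
  · have e : (Zp : M9 F) * P2 0 = P2 0 * Zp := by
      have := Zp_P2 (F := F) 0; rwa [neg_zero] at this
    rw [eT, tU, add_mul, mul_add, one_mul, mul_one, smul_mul_assoc, mul_smul_comm, e]
  · rw [eT, tU, add_mul, one_mul, smul_mul_assoc, P2_plus, smul_zero, add_zero]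

theorem K2_Z : ∃ Z ∈ K2 H, ((Z : (M9 F)ˣ) : M9 F) = Zp := by
  obtain ⟨Z, hZ, eZ⟩ := hH.in_Zp
  exact ⟨Z, ⟨hZ, by rw [eZ], by rw [eZ, mul_add, mul_one, Zp_mul_self, add_comm]⟩, eZ⟩

theorem K2_aux (h2 : p ≠ 2) (hS : SM ω H) {k : (M9 F)ˣ} (hk : k ∈ K2 H) (h0 : (k : M9 F) * P2 0 = (P2 0 : M9 F) * (k : M9 F))
    (hZ : (k : M9 F) * dg ω (dot (0, 1)) = dg ω (dot (0, 1)) * (k : M9 F)) : ∃ j, (k : M9 F) = dg ω (ez j) := by
  have hω := hH.root
  have supp : ∀ s t, (k : M9 F) s t ≠ 0 → s.2 = t.2 := by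
    intro s t h
    have := congrFun (congrFun hZ s) t
    rw [dg, mul_diagonal, diagonal_mul, mul_comm] at this
    simpa [dot] using (wp_injective hω (mul_right_cancel₀ h this)).symm
  have hcol : ∀ (s : Pt) (a b : ZMod 3), b ≠ 0 → (k : M9 F) s (a, b) = if s = (a, b) then 1 else 0 := by
    intro s a b hb
    by_cases hs : s.2 = b
    · have e := congrFun (congrFun hk.2.2 s) (a, b)
      rw [mul_add, mul_one, Matrix.add_apply, Matrix.add_apply, Zp_apply,
        Matrix.mul_apply, Finset.sum_eq_single ((a, -b) : Pt)] at e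
      · have hne : ∀ b : ZMod 3, b ≠ 0 → -b ≠ b := by decide
        have h1 : ¬ s = (a, -b) := fun q => hne b hb (by rw [q] at hs; exact hs)
        have h2 : (k : M9 F) s (a, -b) = 0 := by
          by_contra q; exact hne b hb ((supp _ _ q).symm.trans hs)
        rw [h2, zero_mul, add_zero, if_neg h1, add_zero, Matrix.one_apply] at e
        exact e
      · intro c _ hc
        rw [Zp_apply, if_neg hc, mul_zero]
      · simp
    · rw [if_neg fun q => hs (by rw [q])]
      by_contra q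
      exact hs (supp _ _ q)
  have hrow : ∀ (a b : ZMod 3) (t : Pt), b ≠ 0 → (k : M9 F) (a, b) t = if (a, b) = t then 1 else 0 := by
    intro a b t hb
    by_cases ht : t.2 = b
    · obtain ⟨c, d⟩ := t
      simp only at ht; subst ht
      rw [hcol _ c d hb]
    · rw [if_neg fun q => ht (by rw [← q])]
      by_contra q
      exact ht (supp _ _ q).symm
  have hnor := hH.nor_cent_P2 h2 hS hk.1 h0
  -- generators of the first line are fixed
  have gen : ∀ u0 v0 : Pt, u0.2 = 0 → (k : M9 F) * Rm ω 0 u0 v0 = Rm ω 0 u0 v0 * (k : M9 F) := by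
    intro u0 v0 hu0
    obtain ⟨r, ⟨c, u, v, rfl⟩, e⟩ := hnor (Rm ω 0 u0 v0) ⟨_, _, _, rfl⟩
    have ap : ∀ (k : ZMod 3) (u v i j : Pt), (Rm ω k u v : M9 F) i j =
        if i = j + u then wp ω k * wp ω (dot v j) else 0 := by
      intro k u v i j
      rw [Rm, Matrix.smul_apply, dg, mul_diagonal, sh_apply, smul_eq_mul]
      split_ifs <;> simp
    have hcols : ∀ (i t : Pt), t.2 ≠ 0 → (Rm ω c u v : M9 F) i t = (Rm ω 0 u0 v0 : M9 F) i t := by
      intro i t ht
      obtain ⟨a, b⟩ := t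
      have h1 := congrFun (congrFun e i) (a, b)
      rw [Matrix.mul_apply, Matrix.mul_apply, Finset.sum_eq_single ((a, b) + u0 : Pt),
        Finset.sum_eq_single ((a, b) : Pt)] at h1
      · rw [hcol (a, b) a b ht, if_pos rfl, mul_one] at h1
        rw [← h1, ap, if_pos rfl]
        have hb : ((a, b) + u0 : Pt).2 ≠ 0 := by simp [hu0]; exact ht
        rw [show ((a, b) + u0 : Pt) = (((a, b) + u0 : Pt).1, ((a, b) + u0 : Pt).2) from rfl, hcol _ _ _ hb, ap]
        by_cases q : i = (a, b) + u0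
        · rw [if_pos q, if_pos q, one_mul]
        · rw [if_neg q, if_neg q, zero_mul]
      · intro w _ hw; rw [hcol _ a b ht, if_neg hw, mul_zero]
      · simp
      · intro w _ hw; rw [ap, if_neg hw, mul_zero]
      · simp
    have hu : u = u0 := by
      have := hcols (((0, 1) : Pt) + u) (0, 1) (show (1 : ZMod 3) ≠ 0 by decide)
      rw [ap, ap, if_pos rfl] at this
      by_contra hne
      rw [if_neg (fun q => hne (add_left_cancel q))] at this
      exact mul_ne_zero (wp_ne_zero hω _) (wp_ne_zero hω _) this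
    subst hu
    obtain ⟨rfl, rfl⟩ := col_table c 0 v v0 fun t ht => by
      have := hcols (t + u) t ht
      rw [ap, ap, if_pos rfl, if_pos rfl, ← wp_add hω, ← wp_add hω] at this
      exact wp_injective hω this
    exact e
  have hx : (k : M9 F) * dg ω (dot (1, 0)) = dg ω (dot (1, 0)) * (k : M9 F) := by
    have := gen 0 (1, 0) rfl
    rwa [Rm, wp_zero, one_smul, sh_zero, one_mul] at this
  have hX : (k : M9 F) * sh (1, 0) = (sh (1, 0) : M9 F) * (k : M9 F) := by
    have := gen (1, 0) 0 rfl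
    rwa [Rm, wp_zero, one_smul, show dot (0 : Pt) = fun _ => (0 : ZMod 3) from funext zero_dot, dg_zero, mul_one] at this
  have supp1 : ∀ s t, (k : M9 F) s t ≠ 0 → s.1 = t.1 := by
    intro s t h
    have := congrFun (congrFun hx s) t
    rw [dg, mul_diagonal, diagonal_mul, mul_comm] at this
    simpa [dot] using (wp_injective hω (mul_right_cancel₀ h this)).symm
  have hdiag : (k : M9 F) = diagonal fun v => (k : M9 F) v v := by
    ext s t
    by_cases e : s = t
    · rw [e, diagonal_apply_eq]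
    · rw [diagonal_apply_ne _ e]
      by_contra q
      exact e (Prod.ext (supp1 _ _ q) (supp _ _ q))
  have hconst : ∀ a b, (k : M9 F) (a + 1, b) (a + 1, b) = (k : M9 F) (a, b) (a, b) := by
    intro a b
    have := congrFun (congrFun hX (a + 1, b)) (a, b)
    rw [hdiag, diagonal_mul, mul_diagonal, sh_apply, if_pos (by simp), mul_one, one_mul] at this
    rw [hdiag, diagonal_apply_eq, diagonal_apply_eq]
    exact this
  have h0a : ∀ a, (k : M9 F) (a, 0) (a, 0) = (k : M9 F) (0, 0) (0, 0) := by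
    intro a
    rcases zmod3_cases a with rfl | rfl | rfl
    · rfl
    · simpa using hconst 0 0
    · rw [show (2 : ZMod 3) = 1 + 1 by decide, hconst 1 0]; simpa using hconst 0 0
  obtain ⟨c, hc⟩ : ∃ c, c = (k : M9 F) (0, 0) (0, 0) := ⟨_, rfl⟩
  have hd : (k : M9 F) = diagonal fun v : Pt => if v.2 = 0 then c else 1 := by
    rw [hdiag]; congr 1; funext v
    obtain ⟨a, b⟩ := v
    by_cases hb : b = 0
    · subst hb; rw [if_pos rfl, h0a, hc]
    · rw [if_neg hb, hcol _ a b hb, if_pos rfl]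
  have hdet := hH.det_eq k hk.1
  rw [hd, det_diagonal, Fintype.prod_prod_type] at hdet
  have p3 : ∀ f : ZMod 3 → F, ∏ i, f i = f 0 * f 1 * f 2 := Fin.prod_univ_three
  simp only [p3, if_pos, if_neg (show (1 : ZMod 3) ≠ 0 by decide), if_neg (show (2 : ZMod 3) ≠ 0 by decide), mul_one] at hdet
  obtain ⟨j, hj⟩ := hω.cube_cases (x := c) (by rw [pow_succ, pow_two]; exact hdet)
  refine ⟨j, ?_⟩
  rw [hd, dg]
  congr 1
  funext v
  by_cases hv : v.2 = 0
  · rw [if_pos hv, hj]; simp [ez, hv]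
  · have key : ∀ b : ZMod 3, b ≠ 0 → 1 - b * b = 0 := by decide
    rw [if_neg hv]; simp only [ez, key _ hv, mul_zero, wp_zero]

/-- The members of the fixing group commuting with the projection. -/
theorem K2_cent (h2 : p ≠ 2) (hS : SM ω H) {k : (M9 F)ˣ} (hk : k ∈ K2 H) (h0 : (k : M9 F) * P2 0 = (P2 0 : M9 F) * (k : M9 F)) :
    ∃ j, (k : M9 F) = dg ω (ez j) ∨ (k : M9 F) = (Zp : M9 F) * dg ω (ez j) := by
  obtain ⟨i, hi, hc⟩ := hH.Z_conj h2 hS hk.1 h0
  have : i = 1 ∨ i = 2 := by rcases zmod3_cases i with h | h | h <;> simp [h] at hi ⊢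
  rcases this with rfl | rfl
  · obtain ⟨j, hj⟩ := hH.K2_aux h2 hS hk h0 hc
    exact ⟨j, Or.inl hj⟩
  · obtain ⟨Z, hZ, eZ⟩ := hH.K2_Z
    have hZP : (Zp : M9 F) * P2 0 = P2 0 * Zp := by
      have := Zp_P2 (F := F) 0; rwa [neg_zero] at this
    obtain ⟨j, hj⟩ := hH.K2_aux h2 hS (k := Z * k) (mul_mem hZ hk)
      (by rw [Units.val_mul, eZ, mul_assoc, h0, ← mul_assoc, hZP, mul_assoc])
      (by rw [Units.val_mul, eZ, mul_assoc, hc, ← mul_assoc, dg01_Zp, mul_assoc])
    refine ⟨j, Or.inr ?_⟩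
    rw [← hj, Units.val_mul, eZ, ← mul_assoc, Zp_mul_self, one_mul]

/-- The `3`-elements of the fixing group commuting with the first generator are its powers. -/
theorem K2_cent_three (h2 : p ≠ 2) (hS : SM ω H) {T : (M9 F)ˣ} (eT : (T : M9 F) = dg ω (ez 1)) {k : (M9 F)ˣ} (hk : k ∈ K2 H)
    (h0 : (k : M9 F) * P2 0 = (P2 0 : M9 F) * (k : M9 F)) {i : ℕ} (hi : k ^ (3 ^ i) = 1) :
    ∃ n : ℕ, k = T ^ n := by
  have hT : ∀ n : ℕ, ((T ^ n : (M9 F)ˣ) : M9 F) = dg ω (ez (n : ZMod 3)) := fun n => by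
    rw [Units.val_pow_eq_pow_val, eT, dg_pow hH.root]; congr 1; funext w; simp [ez]
  obtain ⟨j, e | e⟩ := hH.K2_cent h2 hS hk h0
  · exact ⟨j.val, Units.ext (by rw [hT, ZMod.natCast_zmod_val, e])⟩
  · exfalso
    have hv : (k : M9 F) *ᵥ Pi.single ((0 : ZMod 3), (0 : ZMod 3)) 1 =
        (wp ω j * -1) • (Pi.single ((0 : ZMod 3), (0 : ZMod 3)) 1 : Pt → F) := by
      rw [e, ← mulVec_mulVec, dg_ez_single, mulVec_smul, Zp_single, smul_smul]
    have hp := pow_mulVec hv (3 ^ i)
    rw [← Units.val_pow_eq_pow_val, hi, Units.val_one, one_mulVec] at hp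
    have h1 : (1 : F) = (wp ω j * -1) ^ (3 ^ i) := by simpa using congrFun hp (0, 0)
    have hsq := congrArg (· ^ 3) h1
    simp only [one_pow, ← pow_mul] at hsq
    rw [mul_comm (3 ^ i) 3, pow_mul, mul_pow, wp_pow_three hH.root, one_mul, show (-1 : F) ^ 3 = -1 by ring,
      (Odd.pow (by decide : Odd 3)).neg_one_pow] at hsq
    exact (hH.two_ne_zero' h2) (by linear_combination hsq)

end Amb

end CfsgLib.Classical.QutritU
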