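import Cfsg.Agent.Lib.Classical.QutritU.Small.PlusFix

/-!
# The plus-fixing group lies in the normaliser
-/

set_option autoImplicit false
set_option linter.unusedSectionVars false
set_option linter.unusedSimpArgs false
set_option linter.style.haveILetI false

namespace CfsgLib.Classical.QutritU

open Matrix hiding row row_apply
open CfsgLib.Classical.QutritMax
open scoped Kronecker

variable {F : Type*} [Field F] {σ : F →+* F} {ω : F} {p : ℕ} {H : Subgroup (M9 F)ˣ}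

namespace Amb

variable (hH : Amb σ ω p H) [Finite F]
include hH

theorem K2_le_norG (h2 : p ≠ 2) (hS : SM ω H) : K2 H ≤ hH.norG := by
  classical
  intro g hg
  have hω := hH.root
  haveI := hH.finite
  
  haveI : Fact (Nat.Prime 3) := ⟨Nat.prime_three⟩
  obtain ⟨T, hT, eT, eT'⟩ := hH.K2_T
  obtain ⟨t, htdef⟩ : ∃ t : K2 H, t = ⟨T, hT⟩ := ⟨_, rfl⟩
  have ht3 : t ^ 3 = 1 := Subtype.ext (by simp [htdef, hH.T_cube eT'])
  have ht1 : t ≠ 1 := fun h => by
    have h' := congrArg (fun y : K2 H => (((y : (M9 F)ˣ) : M9 F) *ᵥ Pi.single ((0 : ZMod 3), (0 : ZMod 3)) 1) (0, 0)) h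
    rw [htdef] at h'
    simp only [OneMemClass.coe_one, Units.val_one, one_mulVec] at h'
    rw [eT, tU_P2_single, Pi.smul_apply, Pi.single_eq_same, smul_eq_mul, mul_one] at h'
    exact hω.ne_one h'
  have comm0 : ∀ k : K2 H, k * t = t * k → ((k : (M9 F)ˣ) : M9 F) * P2 0 = (P2 0 : M9 F) * ((k : (M9 F)ˣ) : M9 F) := by
    intro k hk
    have hk0 : Commute ((k : (M9 F)ˣ) : M9 F) (T : M9 F) := by
      have := congrArg (fun y : K2 H => ((y : (M9 F)ˣ) : M9 F)) hk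
      simpa [htdef, Commute, SemiconjBy] using this
    rw [eT] at hk0
    exact ((tU_comm hω.cube).1 hk0).eq
  have hC : ∀ k : K2 H, k * t = t * k → (∃ i : ℕ, k ^ (3 ^ i) = 1) → k ∈ Subgroup.zpowers t := by
    rintro k hk ⟨i, hi⟩
    obtain ⟨n, hn⟩ := hH.K2_cent_three h2 hS eT' k.2 (comm0 k hk) (i := i)
      (by rw [← Subgroup.coe_pow, hi, Subgroup.coe_one])
    exact Subgroup.mem_zpowers_iff.2 ⟨n, Subtype.ext (by simp [htdef, hn])⟩
  obtain ⟨S, htS, hSle⟩ := exists_sylow_le_zpowers ht3 ht1 hC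
  have hP : Subgroup.normalizer (S : Set (K2 H)) ≤ Subgroup.centralizer (S : Set (K2 H)) := by
    intro k hk
    have h1 : k * t * k⁻¹ ∈ (S : Subgroup (K2 H)) := (Subgroup.mem_normalizer_iff.1 hk t).1 htS
    obtain ⟨m, hm⟩ := Subgroup.mem_zpowers_iff.1 (hSle _ h1)
    obtain ⟨n, hn⟩ : ∃ n : ℕ, k * t * k⁻¹ = t ^ n := by
      refine ⟨(m % 3).toNat, ?_⟩
      rw [← hm, ← zpow_natCast, Int.toNat_of_nonneg (Int.emod_nonneg _ (by norm_num))]
      conv_lhs => rw [show m = m % 3 + 3 * (m / 3) from (Int.emod_add_mul_ediv m 3).symm, _root_.zpow_add,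
        _root_.zpow_mul, show t ^ (3 : ℤ) = 1 from ht3, _root_.one_zpow, mul_one]
    have hTn : (((k : (M9 F)ˣ) * T * (k : (M9 F)ˣ)⁻¹ : (M9 F)ˣ) : M9 F) = dg ω (ez (n : ZMod 3)) := by
      have h2 := congrArg (fun y : K2 H => (y : (M9 F)ˣ)) hn
      simp only [htdef, Subgroup.coe_mul, Subgroup.coe_inv, SubgroupClass.coe_pow] at h2
      rw [h2, Units.val_pow_eq_pow_val, eT', dg_pow hω]; congr 1; funext w; simp [ez]
    rw [hH.trace_eq_one eT' hTn, ← eT'] at hTn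
    have hkt : k * t * k⁻¹ = t := Subtype.ext (Units.ext (by simpa [htdef] using hTn))
    refine Subgroup.mem_centralizer_iff.2 fun y hy => ?_
    obtain ⟨l, rfl⟩ := Subgroup.mem_zpowers_iff.1 (hSle y hy)
    exact ((show Commute k t from mul_inv_eq_iff_eq_mul.1 hkt).zpow_right l).symm.eq
  have hcompl := MonoidHom.ker_transferSylow_isComplement' S hP
  have hndvd := MonoidHom.not_dvd_card_ker_transferSylow S hP
  obtain ⟨K0, hK0⟩ : ∃ K0 : Subgroup (M9 F)ˣ, K0 = (MonoidHom.transferSylow S hP).ker.map (K2 H).subtype := ⟨_, rfl⟩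
  have hmemK0 : ∀ k, k ∈ K0 ↔ k ∈ K2 H ∧ ¬ 3 ∣ orderOf k := by
    intro k
    constructor
    · intro hk
      rw [hK0] at hk
      obtain ⟨y, hy, rfl⟩ := hk
      refine ⟨y.2, fun h3 => hndvd (h3.trans ?_)⟩
      rw [Subgroup.subtype_apply, Subgroup.orderOf_coe]
      exact Subgroup.orderOf_dvd_natCard _ hy
    · rintro ⟨hk, h3⟩
      rw [hK0]
      refine ⟨⟨k, hk⟩, MonoidHom.mem_ker.2 ?_, rfl⟩
      obtain ⟨y, hy⟩ : ∃ y, y = MonoidHom.transferSylow S hP ⟨k, hk⟩ := ⟨_, rfl⟩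
      rw [← hy]
      obtain ⟨i, hi⟩ := S.2 y
      have h1 : orderOf y ∣ 3 ^ i := orderOf_dvd_of_pow_eq_one hi
      have h2 : orderOf y ∣ orderOf k := by
        rw [hy]
        refine (orderOf_map_dvd _ _).trans ?_
        rw [← Subgroup.orderOf_coe]
      exact orderOf_eq_one_iff.1 (Nat.eq_one_of_dvd_coprimes
        ((Nat.prime_three.coprime_iff_not_dvd.2 h3).pow_left i) h1 h2)
  -- the quotient by scalars
  let π := QuotientGroup.mk' (Subgroup.center (M9 F)ˣ)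
  have hπ : ∀ {a b : (M9 F)ˣ}, π a = π b → a⁻¹ * b ∈ Subgroup.center (M9 F)ˣ := fun h => QuotientGroup.eq.1 h
  haveI : IsMulCommutative ((lineG hω).map π) := by
    constructor; constructor
    rintro ⟨_, a, ⟨k, i, j, ha⟩, rfl⟩ ⟨_, b, ⟨k', i', j', hb⟩, rfl⟩
    refine Subtype.ext ?_
    show π a * π b = π b * π a
    rw [← map_mul, ← map_mul]
    refine QuotientGroup.eq.2 (Subgroup.mem_center_iff.2 fun u => Units.ext ?_)
    have e : ((b * a : (M9 F)ˣ) : M9 F) = wp ω (j' * i - j * i') • ((a * b : (M9 F)ˣ) : M9 F) := by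
      rw [Units.val_mul, Units.val_mul, ha, hb, Rm_line_mul hω, Rm_line_mul hω, Rm_line, Rm_line, smul_smul, ← wp_add hω]
      rw [add_comm i' i, add_comm j' j]
      congr 2; ring
    have e1 : (((a * b)⁻¹ * (b * a) : (M9 F)ˣ) : M9 F) = wp ω (j' * i - j * i') • (1 : M9 F) := by
      rw [Units.val_mul _ (b * a), e, Matrix.mul_smul, Units.inv_mul]
    rw [Units.val_mul u, Units.val_mul _ u, e1, Matrix.mul_smul, Matrix.smul_mul, mul_one, one_mul]
  have hA3 : ∀ a : (lineG hω).map π, a ^ 3 = 1 := by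
    rintro ⟨_, a, ⟨k, i, j, ha⟩, rfl⟩
    refine Subtype.ext ?_
    show π a ^ 3 = 1
    rw [← map_pow, show a ^ 3 = 1 from Units.ext ?_, map_one]
    rw [Units.val_pow_eq_pow_val, ha, pow_succ, pow_two, Rm_line_mul hω, Rm_line_mul hω, Units.val_one]
    have key := line_cube_table
    rw [(key k i j).1, (key k i j).2, (key k j i).2, Prod.mk_zero_zero, Rm_zero]
  obtain ⟨x, hxH, ex⟩ := hH.in_dg (f := dot (1, 0)) ⟨0, 1, 0, 0, 0, 0, funext fun w => by simp [dot]⟩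
  obtain ⟨X, hXH, eX⟩ := hH.in_sh ((1, 0) : Pt)
  have hxl : x ∈ lineG hω := ⟨0, 0, 1, by rw [ex, Rm_line, wp_zero, one_smul, Prod.mk_zero_zero, sh_zero, one_mul]⟩
  have hXl : X ∈ lineG hω := ⟨0, 1, 0, by
    rw [eX, Rm_line, wp_zero, one_smul, Prod.mk_zero_zero, show dot (0 : Pt) = fun _ => (0 : ZMod 3) from funext zero_dot,
      dg_zero, mul_one]⟩
  have hxX : ¬ X * x = x * X := by
    intro h
    have h' := congrArg (fun u : (M9 F)ˣ => (u : M9 F) (1, 0) (0, 0)) h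
    simp only [Units.val_mul, ex, eX, dg, mul_diagonal, diagonal_mul, sh_apply] at h'
    rw [if_pos (by simp)] at h'
    simp [dot, wp_zero, wp_one] at h'
    exact hω.ne_one h'.symm
  have hnc : ¬ IsCyclic ((lineG hω).map π) := by
    intro hcy
    obtain ⟨c, hc⟩ := hcy.exists_generator
    have hne : (⟨π x, x, hxl, rfl⟩ : (lineG hω).map π) ≠ 1 := fun h => by
      have h1 : x⁻¹ ∈ Subgroup.center (M9 F)ˣ :=
        inv_mem ((QuotientGroup.eq_one_iff x).1 (congrArg Subtype.val h))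
      exact hxX (Subgroup.mem_center_iff.1 (by simpa using inv_mem h1) X)
    have h3 : orderOf (⟨π x, x, hxl, rfl⟩ : (lineG hω).map π) = 3 := orderOf_eq_prime (hA3 _) hne
    have hc3 : orderOf c ∣ 3 := orderOf_dvd_of_pow_eq_one (hA3 c)
    have e : Subgroup.zpowers (⟨π x, x, hxl, rfl⟩ : (lineG hω).map π) = Subgroup.zpowers c := by
      refine Subgroup.eq_of_le_of_card_ge (Subgroup.zpowers_le.2 (hc _)) ?_
      rw [Nat.card_zpowers, Nat.card_zpowers, h3]
      exact Nat.le_of_dvd (by norm_num) hc3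
    have hXm : (⟨π X, X, hXl, rfl⟩ : (lineG hω).map π) ∈ Subgroup.zpowers c := hc _
    rw [← e] at hXm
    obtain ⟨m, hm⟩ := Subgroup.mem_zpowers_iff.1 hXm
    have h2 : π (x ^ m) = π X := by rw [map_zpow]; exact congrArg Subtype.val hm
    have h4 := Subgroup.mem_center_iff.1 (hπ h2) x
    apply hxX
    have h5 : Commute x X := by
      have : Commute x ((x ^ m) * ((x ^ m)⁻¹ * X)) := ((Commute.refl x).zpow_right m).mul_right h4
      rwa [mul_inv_cancel_left] at this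
    exact h5.symm.eq
  have hnorm : (lineG hω).map π ≤ Subgroup.normalizer ((K0.map π : Subgroup _) : Set _) := by
    have key : ∀ a ∈ lineG hω, ∀ k ∈ K0, a * k * a⁻¹ ∈ K0 := by
      rintro a ⟨c, i, j, ha⟩ k hk
      obtain ⟨hk2, hk3⟩ := (hmemK0 k).1 hk
      have haH : a ∈ H := by
        obtain ⟨s, hs, es⟩ := hH.in_Rm c (i, 0) (j, 0)
        rwa [show a = s from Units.ext (ha.trans es.symm)]
      have haz : (a : M9 F) * Zp = Zp * (a : M9 F) := by rw [ha]; exact line_comm_Zp hω c i j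
      have hap : (a : M9 F) * (1 + Zp) = (1 + Zp) * (a : M9 F) := by
        rw [mul_add, add_mul, mul_one, one_mul, haz]
      refine (hmemK0 _).2 ⟨⟨mul_mem (mul_mem haH hk2.1) (inv_mem haH), ?_, ?_⟩, ?_⟩
      · simp only [Units.val_mul]
        exact ((Commute.mul_left haz hk2.2.1).mul_left (Commute.units_inv_left haz) : _)
      · simp only [Units.val_mul, mul_assoc]
        rw [show ((a⁻¹ : (M9 F)ˣ) : M9 F) * (1 + Zp) = (1 + Zp) * ((a⁻¹ : (M9 F)ˣ) : M9 F) from (Commute.units_inv_left hap : _),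
          ← mul_assoc (k : M9 F), hk2.2.2, ← mul_assoc (a : M9 F), hap, mul_assoc, Units.mul_inv, mul_one]
      · rwa [← SemiconjBy.orderOf_eq a (show SemiconjBy a k (a * k * a⁻¹) from by
          show a * k = a * k * a⁻¹ * a; group)]
    refine Subgroup.le_normalizer_iff.2 ?_
    rintro _ ⟨a, ha, rfl⟩ _ ⟨k, hk, rfl⟩
    exact ⟨a * k * a⁻¹, key a ha k hk, by simp⟩
  have hcop : (Nat.card ((lineG hω).map π)).Coprime (Nat.card (K0.map π)) := by
    have hpg : IsPGroup 3 ((lineG hω).map π) := fun a => ⟨1, by rw [pow_one]; exact hA3 a⟩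
    obtain ⟨n, hn⟩ := hpg.exists_card_eq
    rw [hn]
    refine (Nat.prime_three.coprime_iff_not_dvd.2 fun h3 => hndvd ?_).pow_left n
    refine h3.trans ((Subgroup.card_map_dvd _ π).trans ?_)
    rw [hK0]
    exact Subgroup.card_map_dvd _ _
  have hgen := CfsgLib.Coprime.iSup_centralizer_singleton hnc hnorm hcop
  have hle : K0.map π ≤ hH.norG.map π := by
    rw [← hgen]
    refine iSup₂_le ?_
    rintro _ ⟨⟨r, ⟨c, i, j, hr⟩, rfl⟩, hr1⟩ _ ⟨⟨k, hk, rfl⟩, hkr⟩
    refine ⟨k, ?_, rfl⟩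
    obtain ⟨hk2, hk3⟩ := (hmemK0 k).1 hk
    have hij : i ≠ 0 ∨ j ≠ 0 := by
      by_contra hc0
      simp only [not_or, not_not] at hc0
      apply hr1
      refine (QuotientGroup.eq_one_iff r).2 (Subgroup.mem_center_iff.2 fun u => Units.ext ?_)
      rw [Units.val_mul, Units.val_mul, hr, hc0.1, hc0.2, Prod.mk_zero_zero, inR_scalar_eq, Matrix.mul_smul,
        Matrix.smul_mul, mul_one, one_mul]
    have hcomm := Subgroup.mem_centralizer_iff.1 hkr (π r) rfl
    have hcen : k * r * k⁻¹ * r⁻¹ ∈ Subgroup.center (M9 F)ˣ := by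
      refine (QuotientGroup.eq_one_iff _).1 ?_
      show π (k * r * k⁻¹ * r⁻¹) = 1
      simp only [map_mul, map_inv]
      rw [← hcomm]; group
    have hr3 : r ^ 3 = 1 := Units.ext (by
      rw [Units.val_pow_eq_pow_val, hr, pow_succ, pow_two, Rm_line_mul hω, Rm_line_mul hω, Units.val_one]
      have key := line_cube_table
      rw [(key c i j).1, (key c i j).2, (key c j i).2, Prod.mk_zero_zero, Rm_zero])
    have hkr' := commute_of_central hcen (by group) hr3 (pow_orderOf_eq_one k)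
      (Nat.prime_three.coprime_iff_not_dvd.2 hk3).symm
    refine hH.mem_norG.2 (hH.nor_cent_line h2 hS hk2.1 hij (k := c) ?_)
    rw [← hr, ← Units.val_mul, ← Units.val_mul, hkr']
  have hK0N : K0 ≤ hH.norG := by
    intro k hk
    obtain ⟨m, hm, e⟩ := hle (Subgroup.mem_map_of_mem π hk)
    have hc := hπ e
    have : m⁻¹ * k ∈ hH.norG := fun r hr => by
      obtain ⟨ru, -, eru⟩ : ∃ ru, ru ∈ H ∧ ((ru : (M9 F)ˣ) : M9 F) = r := by
        obtain ⟨c', u, v, rfl⟩ := hr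
        obtain ⟨s, hs, es⟩ := hH.in_sh u
        obtain ⟨d, hd, ed⟩ := hH.in_dg (f := dot v) ⟨0, v.1, v.2, 0, 0, 0, funext fun w => by simp [dot]⟩
        obtain ⟨l, hl, el⟩ := hH.in_scalar c'
        exact ⟨l * (s * d), mul_mem hl (mul_mem hs hd), by
          rw [Units.val_mul, Units.val_mul, el, es, ed, Rm, Matrix.smul_mul, one_mul]⟩
      refine ⟨r, hr, ?_⟩
      rw [← eru, ← Units.val_mul, ← Units.val_mul, Subgroup.mem_center_iff.1 hc ru]
    have := mul_mem hm this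
    rwa [mul_inv_cancel_left] at this
  -- the whole group
  obtain ⟨⟨a, b⟩, hab⟩ := hcompl.2 ⟨g, hg⟩
  simp only at hab
  have hgab : g = ((a : K2 H) : (M9 F)ˣ) * ((b : K2 H) : (M9 F)ˣ) := by
    rw [← Subgroup.coe_mul, hab]
  rw [hgab]
  refine mul_mem (hK0N (hK0 ▸ ⟨(a : K2 H), a.2, rfl⟩)) ?_
  obtain ⟨m, hm⟩ := Subgroup.mem_zpowers_iff.1 (hSle _ b.2)
  rw [← hm, SubgroupClass.coe_zpow, htdef]
  refine zpow_mem (hH.mem_norG.2 ?_) m
  rw [eT']
  exact nor_dg hω ⟨1, 0, 0, 0, 0, -1, funext fun w => by simp only [ez]; ring⟩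

/-- A conjugate of the first generator inside the plus-fixing group is conjugate to it there. -/
theorem K2_conj (h2 : p ≠ 2) (hS : SM ω H) {T : (M9 F)ˣ} (hT : T ∈ K2 H) (eT : (T : M9 F) = tU ω (P2 0))
    (eT' : (T : M9 F) = dg ω (ez 1)) {g : (M9 F)ˣ} (h : g * T * g⁻¹ ∈ K2 H) :
    ∃ k ∈ K2 H, k⁻¹ * g * T = T * (k⁻¹ * g) := by
  have hω := hH.root
  haveI := hH.finite
  
  obtain ⟨t, htdef⟩ : ∃ t : K2 H, t = ⟨T, hT⟩ := ⟨_, rfl⟩
  have ht3 : t ^ 3 = 1 := Subtype.ext (by simp [htdef, hH.T_cube eT'])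
  have ht1 : t ≠ 1 := fun h => by
    have h' := congrArg (fun y : K2 H => (((y : (M9 F)ˣ) : M9 F) *ᵥ Pi.single ((0 : ZMod 3), (0 : ZMod 3)) 1) (0, 0)) h
    rw [htdef] at h'
    simp only [OneMemClass.coe_one, Units.val_one, one_mulVec] at h'
    rw [eT, tU_P2_single, Pi.smul_apply, Pi.single_eq_same, smul_eq_mul, mul_one] at h'
    exact hω.ne_one h'
  have hC : ∀ k : K2 H, k * t = t * k → (∃ i : ℕ, k ^ (3 ^ i) = 1) → k ∈ Subgroup.zpowers t := by
    rintro k hk ⟨i, hi⟩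
    have hk0 : Commute ((k : (M9 F)ˣ) : M9 F) (T : M9 F) := by
      have := congrArg (fun y : K2 H => ((y : (M9 F)ˣ) : M9 F)) hk
      simpa [htdef, Commute, SemiconjBy] using this
    rw [eT] at hk0
    obtain ⟨n, hn⟩ := hH.K2_cent_three h2 hS eT' k.2 ((tU_comm hω.cube).1 hk0).eq (i := i)
      (by rw [← Subgroup.coe_pow, hi, Subgroup.coe_one])
    exact Subgroup.mem_zpowers_iff.2 ⟨n, Subtype.ext (by simp [htdef, hn])⟩
  obtain ⟨k, hk⟩ := exists_conj_mem_zpowers ht3 ht1 hC (q := ⟨g * T * g⁻¹, h⟩) (Subtype.ext (by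
    simp only [SubmonoidClass.mk_pow, Subgroup.coe_one]
    rw [conj_pow, hH.T_cube eT', mul_one, mul_inv_cancel]))
  obtain ⟨m, hm⟩ := Subgroup.mem_zpowers_iff.1 hk
  obtain ⟨n, hn⟩ : ∃ n : ℕ, (k : (M9 F)ˣ)⁻¹ * (g * T * g⁻¹) * k = T ^ n := by
    refine ⟨(m % 3).toNat, ?_⟩
    have h' := congrArg (fun y : K2 H => (y : (M9 F)ˣ)) hm
    simp only [htdef, Subgroup.coe_mul, Subgroup.coe_inv, SubgroupClass.coe_zpow] at h'
    rw [← h', ← zpow_natCast, Int.toNat_of_nonneg (Int.emod_nonneg _ (by norm_num))]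
    conv_lhs => rw [show m = m % 3 + 3 * (m / 3) from (Int.emod_add_mul_ediv m 3).symm, _root_.zpow_add, _root_.zpow_mul,
      show T ^ (3 : ℤ) = 1 from hH.T_cube eT', _root_.one_zpow, mul_one]
  obtain ⟨v, hv⟩ : ∃ v, v = (k : (M9 F)ˣ)⁻¹ * g := ⟨_, rfl⟩
  have hvT : v * T * v⁻¹ = T ^ n := by rw [← hn, hv]; group
  have hTn : ((T ^ n : (M9 F)ˣ) : M9 F) = dg ω (ez (n : ZMod 3)) := by
    rw [Units.val_pow_eq_pow_val, eT', dg_pow hω]; congr 1; funext w; simp [ez]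
  rw [hH.trace_eq_one eT' (g := v) (j := (n : ZMod 3)) (by rw [hvT, hTn])] at hTn
  refine ⟨k, k.2, ?_⟩
  rw [← hv]
  exact mul_inv_eq_iff_eq_mul.1 (hvT.trans (Units.ext (hTn.trans eT'.symm)))

end Amb

end CfsgLib.Classical.QutritU
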