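import Cfsg.Agent.Lib.Classical.QutritU.Small.CentT

/-!
# Transport by the swap of the coordinates
-/

set_option autoImplicit false
set_option linter.unusedSectionVars false
set_option linter.unusedSimpArgs false
set_option linter.style.haveILetI false

namespace CfsgLib.Classical.QutritU

open Matrix hiding row row_apply
open CfsgLib.Classical.QutritMax
open scoped Kronecker

variable {F : Type*} [Field F] {σ : F →+* F} {ω : F} {p : ℕ} {H : Subgroup (M9 F)ˣ}

namespace Amb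

variable (hH : Amb σ ω p H) [Finite F]
include hH

theorem nor_cent_P2 (h2 : p ≠ 2) (hS : SM ω H) {g : (M9 F)ˣ} (hg : g ∈ H) (h0 : (g : M9 F) * P2 0 = (P2 0 : M9 F) * (g : M9 F)) :
    Nor ω (g : M9 F) := by
  obtain ⟨S, hSH, eS, hSi, hSN⟩ := hH.exists_Sw
  have h1 : Nor ω ((S * g * S : (M9 F)ˣ) : M9 F) := by
    refine hH.nor_cent_P1 h2 hS (mul_mem (mul_mem hSH hg) hSH) ?_
    simp only [Units.val_mul, eS]
    calc (Sw : M9 F) * (g : M9 F) * Sw * P1 0 = Sw * ((g : M9 F) * P2 0) * Sw := by simp only [mul_assoc, Sw_P1]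
      _ = (Sw * P2 0) * (g : M9 F) * Sw := by rw [h0]; simp only [mul_assoc]
      _ = P1 0 * (Sw * (g : M9 F) * Sw) := by rw [Sw_P2]; simp only [mul_assoc]
  have := mul_mem (mul_mem (hH.mem_norG.2 hSN) (hH.mem_norG.2 h1)) (hH.mem_norG.2 hSN)
  rwa [show S * (S * g * S) * S = (S * S) * g * (S * S) by group, show S * S = 1 from inv_eq_iff_mul_eq_one.1 hSi,
    one_mul, mul_one] at this

/-- A member commuting with the projection maps the central generator to a power of itself. -/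
theorem x_conj (h2 : p ≠ 2) (hS : SM ω H) {g : (M9 F)ˣ} (hg : g ∈ H) (h0 : (g : M9 F) * P1 0 = (P1 0 : M9 F) * (g : M9 F)) :
    ∃ i, i ≠ 0 ∧ ∀ j, (g : M9 F) * dg ω (dot (j, 0)) = dg ω (dot (i * j, 0)) * (g : M9 F) := by
  have hω := hH.root
  obtain ⟨s, ⟨k, u, w, rfl⟩, e⟩ := hH.nor_cent_P1 h2 hS hg h0 (dg ω (dot (1, 0))) (inR_dg _)
  have hxP : dg ω (dot (1, 0)) * P1 0 = (P1 0 : M9 F) := by
    rw [dg, P1, diagonal_mul_diagonal]
    congr 1; funext v
    by_cases hv : v.1 = 0 <;> simp [hv, dot, wp_zero]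
  have hrP : (Rm ω k u w : M9 F) * P1 0 = P1 0 := by
    refine g.isUnit.mul_right_cancel ?_
    calc (Rm ω k u w : M9 F) * P1 0 * (g : M9 F) = (Rm ω k u w * (g : M9 F)) * P1 0 := by rw [mul_assoc, ← h0, ← mul_assoc]
      _ = P1 0 * (g : M9 F) := by rw [← e, mul_assoc, hxP, h0]
  have ent : ∀ c : ZMod 3, wp ω k * wp ω (w.2 * c) = 1 ∧ u = 0 := by
    intro c
    have h' := congrFun (congrFun hrP (((0 : ZMod 3), c) + u)) (0, c)
    rw [P1, mul_diagonal, if_pos rfl, mul_one, Rm, Matrix.smul_apply, dg, mul_diagonal, sh_apply, if_pos rfl,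
      diagonal_apply, one_mul, smul_eq_mul] at h'
    by_cases hu : ((0 : ZMod 3), c) + u = (0, c)
    · rw [if_pos hu] at h'
      have hu0 : u = 0 := by simpa using hu
      refine ⟨?_, hu0⟩
      rw [hu0, add_zero] at h'
      simpa [dot] using h'
    · rw [if_neg hu] at h'
      exact absurd h' (mul_ne_zero (wp_ne_zero hω _) (wp_ne_zero hω _))
  obtain ⟨e1, hu⟩ := ent 0
  have hk : k = 0 := wp_injective hω (by simpa [wp_zero] using e1)
  subst hk hu
  have hw2 : w.2 = 0 := wp_injective hω (by simpa [wp_zero] using (ent 1).1)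
  obtain ⟨w1, w2⟩ := w
  obtain rfl : w2 = 0 := hw2
  have e' : (g : M9 F) * dg ω (dot (1, 0)) = dg ω (dot (w1, 0)) * (g : M9 F) := by
    rw [e, Rm, wp_zero, one_smul, sh_zero, one_mul]
  have hd0 : dg ω (dot ((0 : ZMod 3), (0 : ZMod 3))) = (1 : M9 F) := by
    rw [show dot ((0 : ZMod 3), (0 : ZMod 3)) = fun _ => (0 : ZMod 3) from funext fun v => by simp [dot], dg_zero]
  have hadd : ∀ a b : ZMod 3, dg ω (dot (a + b, 0)) = (dg ω (dot (a, 0)) * dg ω (dot (b, 0)) : M9 F) := fun a b => by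
    rw [dg_mul hω]; congr 1; funext v; simp [dot]; ring
  refine ⟨w1, fun hw => ?_, fun j => ?_⟩
  · rw [hw, hd0, one_mul] at e'
    replace e' : dg ω (dot (1, 0)) = (1 : M9 F) := g.isUnit.mul_left_cancel (by rw [e', mul_one])
    have e2 : (Rm ω 0 0 (1, 0) : M9 F) = Rm ω 0 0 0 := by
      rw [Rm_zero, Rm, wp_zero, one_smul, sh_zero, one_mul]; exact e'
    exact absurd (Prod.ext_iff.1 (Rm_injective hω e2).2.2).1 (by decide)
  · rcases three_cases w1 j with hj | ⟨hj, hij⟩ | ⟨hj, hij⟩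
    · rw [hj, mul_zero, hd0, mul_one, one_mul]
    · rw [hij, hj]; exact e'
    · rw [hij, hadd, hj, show (2 : ZMod 3) = 1 + 1 by decide, hadd, ← mul_assoc, e', mul_assoc, e', mul_assoc]

/-- A member commuting with the swapped projection maps the second phase to a power of itself. -/
theorem Z_conj (h2 : p ≠ 2) (hS : SM ω H) {g : (M9 F)ˣ} (hg : g ∈ H) (h0 : (g : M9 F) * P2 0 = (P2 0 : M9 F) * (g : M9 F)) :
    ∃ i, i ≠ 0 ∧ (g : M9 F) * dg ω (dot (0, 1)) = dg ω (dot (0, i)) * (g : M9 F) := by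
  obtain ⟨S, hSH, eS, hSi, hSN⟩ := hH.exists_Sw
  obtain ⟨i, hi, h⟩ := hH.x_conj h2 hS (g := S * g * S) (mul_mem (mul_mem hSH hg) hSH) (by
    simp only [Units.val_mul, eS]
    calc (Sw : M9 F) * (g : M9 F) * Sw * P1 0 = Sw * ((g : M9 F) * P2 0) * Sw := by simp only [mul_assoc, Sw_P1]
      _ = (Sw * P2 0) * (g : M9 F) * Sw := by rw [h0]; simp only [mul_assoc]
      _ = P1 0 * (Sw * (g : M9 F) * Sw) := by rw [Sw_P2]; simp only [mul_assoc])
  refine ⟨i, hi, ?_⟩
  have h1 := congrArg (fun A => (Sw : M9 F) * A * Sw) (h 1)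
  simp only [Units.val_mul, eS, mul_one, mul_assoc] at h1
  rw [show dg ω (dot (1, 0)) * (Sw : M9 F) = Sw * dg ω (dot (0, 1)) from (Sw_dot 0 1).symm] at h1
  simp only [← mul_assoc, Sw_mul_self, one_mul] at h1
  simp only [mul_assoc, Sw_mul_self, mul_one] at h1
  simp only [← mul_assoc] at h1
  rw [Sw_dot, mul_assoc (dg ω (dot (0, i))), Sw_mul_self, mul_one] at h1
  exact h1

end Amb

end CfsgLib.Classical.QutritU
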