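import Cfsg.Agent.Lib.Classical.QutritU.Small.Base

/-!
# The four possibilities inside a unitary group, and one-sided members
-/

set_option autoImplicit false
set_option linter.unusedSectionVars false
set_option linter.unusedSimpArgs false
set_option linter.style.haveILetI false

namespace CfsgLib.Classical.QutritU

open Matrix CfsgLib.Classical.QutritMax

variable {F : Type*} [Field F] {σ : F →+* F} {ω : F} {p : ℕ} {H : Subgroup (M9 F)ˣ}

theorem adj9_P1 (i : ZMod 3) : adj9 σ (P1 i : M9 F) = P1 i := by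
  ext s t
  simp only [adj9, P1, transpose_apply, map_apply, diagonal_apply]
  by_cases e : s = t
  · subst e; simp [apply_ite σ]
  · simp [e, Ne.symm e]

theorem P1_bd (R : ZMod 3 → M3' F) {i : ZMod 3} (hi : R i = 1) :
    bd R * (P1 i : M9 F) = P1 i ∧ (P1 i : M9 F) * bd R = P1 i := by
  constructor <;> ext ⟨a, y⟩ ⟨a', z⟩
  · rw [P1, mul_diagonal, bd_apply, diagonal_apply]
    by_cases e : a' = i
    · subst e
      by_cases e' : a = a'
      · subst e'; simp [hi, Matrix.one_apply]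
      · simp [e']
    · by_cases e' : (a, y) = (a', z)
      · obtain ⟨rfl, rfl⟩ := Prod.ext_iff.1 e'; simp [e]
      · simp [e, e']
  · rw [P1, diagonal_mul, bd_apply, diagonal_apply]
    by_cases e : a = i
    · subst e
      by_cases e' : a = a'
      · subst e'; simp [hi, Matrix.one_apply]
      · simp [e']
    · by_cases e' : (a, y) = (a', z)
      · obtain ⟨rfl, rfl⟩ := Prod.ext_iff.1 e'; simp [e]
      · simp [e, e']

/-- A block of a row of blocks. -/
def blkAt (b : M9 F) (i a : ZMod 3) : M3' F := of fun y s => b (i, y) (a, s)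

theorem row_bd_adj (b : M9 F) (R : ZMod 3 → M3' F) (i y z : ZMod 3) :
    (b * bd R * adj9 σ b) (i, y) (i, z) = ∑ a, (blkAt b i a * R a * adj3 σ (blkAt b i a)) y z := by
  simp only [Matrix.mul_apply, Fintype.sum_prod_type, bd_apply, adj9, adj3, blkAt, transpose_apply, map_apply,
    of_apply, Finset.sum_mul, Finset.mul_sum, mul_ite, ite_mul, mul_zero, zero_mul]
  refine Finset.sum_congr rfl fun a _ => Finset.sum_congr rfl fun t _ => ?_
  rw [Finset.sum_eq_single a]
  · simp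
  · intro c _ hc; simp [hc]
  · simp

namespace Amb

variable (hH : Amb σ ω p H) [Finite F]
include hH

theorem adj9_adj9 (M : M9 F) : adj9 σ (adj9 σ M) = M := by
  ext i j; simp [adj9, hH.quad.invol]

/-- The four possibilities for a member and a conjugate of it. -/
theorem conj_cases (h2 : p ≠ 2) {T g : (M9 F)ˣ} {P : M9 F} (hP : P * P = P) (hT : (T : M9 F) = tU ω P) (hTH : T ∈ H)
    (hg : g ∈ H) :
    P * ((g : M9 F) * P * ((g⁻¹ : (M9 F)ˣ) : M9 F)) = ((g : M9 F) * P * ((g⁻¹ : (M9 F)ˣ) : M9 F)) * P ∨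
      (∃ z ∈ DGrp T (g * T * g⁻¹), z ∈ H ∧ z ≠ 1 ∧ (z : M9 F) * z = 1 ∧ (z : M9 F) * P = P * z ∧
        (z : M9 F) * ((g : M9 F) * P * ((g⁻¹ : (M9 F)ˣ) : M9 F)) =
          ((g : M9 F) * P * ((g⁻¹ : (M9 F)ˣ) : M9 F)) * z) ∨
      (∃ u ∈ DGrp T (g * T * g⁻¹), u ∈ H ∧ u ≠ 1 ∧ (u : M9 F) ^ p = 1 ∧ (u : M9 F) * P = P * u) ∨
      ∃ u ∈ DGrp T (g * T * g⁻¹), u ∈ H ∧ u ≠ 1 ∧ ∃ b c : M9 F, (u : M9 F) = 1 + (b + c) ∧ P * b = b ∧ b * P = 0 ∧
        P * c = 0 ∧ c * P = c ∧ b * c = 0 ∧ c * b = 0 ∧ b * b = 0 ∧ c * c = 0 := by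
  haveI := hH.char
  haveI : Fact p.Prime := ⟨hH.prime⟩
  haveI := hH.finite
  set Q := (g : M9 F) * P * ((g⁻¹ : (M9 F)ˣ) : M9 F) with hQ
  have hQQ : Q * Q = Q := by
    rw [hQ]; simp only [mul_assoc]; rw [← mul_assoc ((g⁻¹ : (M9 F)ˣ) : M9 F) (g : M9 F), Units.inv_mul, one_mul,
      ← mul_assoc P P, hP]
  have hTQ : ((g * T * g⁻¹ : (M9 F)ˣ) : M9 F) = tU ω Q := by
    rw [Units.val_mul, Units.val_mul, hT, tU, tU, hQ, mul_add, add_mul, mul_one, Units.mul_inv, mul_smul_comm,
      smul_mul_assoc]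
  have hpr : Pr ω P Q T (g * T * g⁻¹) := ⟨hH.root.cube, hP, hQQ, hT, hTQ⟩
  have hle : DGrp T (g * T * g⁻¹) ≤ H := DGrp.le hTH (mul_mem (mul_mem hg hTH) (inv_mem hg))
  rcases hpr.cases_orbit (p := p) (hH.five_le h2) with h | ⟨z, hz, h1, h2', h3, h4⟩ | ⟨u, hu, h1, h2', h3⟩ |
    ⟨u, hu, h1, h2'⟩
  · exact Or.inl h
  · exact Or.inr (Or.inl ⟨z, hz, hle hz, h1, by rw [← Units.val_mul, h2', Units.val_one], h3.eq, h4.eq⟩)
  · exact Or.inr (Or.inr (Or.inl ⟨u, hu, hle hu, h1, by rw [← Units.val_pow_eq_pow_val, h2', Units.val_one], h3.eq⟩))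
  · exact Or.inr (Or.inr (Or.inr ⟨u, hu, hle hu, h1, h2'⟩))

theorem in_blocks (i x y : ZMod 3) (k : ZMod 3 → ZMod 3) :
    In H (bd fun a => r2 ω (k a) ((a - i) * x) ((a - i) * y)) := by
  obtain ⟨n, hn, en⟩ := hH.in_affine x y
  obtain ⟨f, hf⟩ : ∃ f : ZMod 3 → ZMod 3, f = fun a => k a - a * y * (-i * x) := ⟨_, rfl⟩
  have h := ((show In H (bd fun a => r2 ω 0 (a * x) (a * y)) from ⟨n, hn.1, en⟩).mul
    (hH.in_R (inR_blk hH.root 0 (-i * x) (-i * y)))).mul (hH.in_fst f)
  convert h using 1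
  rw [blk_eq_bd, bd_mul, bd_mul]
  refine congrArg bd (funext fun a => ?_)
  rw [r2_mul hH.root, Matrix.mul_smul, mul_one, r2_eq_smul hH.root (_ + _), smul_smul, ← wp_add hH.root,
    r2_eq_smul hH.root (k a), hf]
  congr 2 <;> ring

/-- Members `1 + b + c` with one-sided parts of opposite sides are trivial. -/
theorem one_sided_trivial (h2 : p ≠ 2) (hS : SM ω H) {i : ZMod 3} {u : (M9 F)ˣ} (hu : u ∈ H) {b c : M9 F}
    (e : (u : M9 F) = 1 + (b + c)) (hPb : (P1 i : M9 F) * b = b) (hbP : b * (P1 i : M9 F) = 0)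
    (hPc : (P1 i : M9 F) * c = 0) (hcP : c * (P1 i : M9 F) = c) (hbc : b * c = 0) (hcb : c * b = 0)
    (hbb : b * b = 0) (hcc : c * c = 0) : u = 1 := by
  have hω := hH.root
  haveI := hH.char
  haveI : Fact p.Prime := ⟨hH.prime⟩
  have hX2 : (b + c) * (b + c) = 0 := by simp only [add_mul, mul_add, hbb, hbc, hcb, hcc, add_zero]
  have hinv : ((u⁻¹ : (M9 F)ˣ) : M9 F) = 1 - (b + c) := by
    refine Units.inv_eq_of_mul_eq_one_right ?_
    rw [e, mul_sub, mul_one, add_mul, one_mul, hX2, add_zero, add_sub_cancel_right]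
  have hadj : adj9 σ b + adj9 σ c = -(b + c) := by
    have h := (hH.u9_of hu).inv
    rw [hinv, e, adj9_add, adj9_add, adj9_one, sub_eq_add_neg] at h
    exact (add_left_cancel h).symm
  have hc : c = -adj9 σ b := by
    have h1 := congrArg ((P1 i : M9 F) * ·) hadj
    simp only [mul_add, mul_neg, hPb, hPc, add_zero] at h1
    rw [show (P1 i : M9 F) * adj9 σ b = 0 by
        rw [← adj9_P1 (σ := σ) i, ← adj9_mul, hbP]; ext; simp [adj9],
      show (P1 i : M9 F) * adj9 σ c = adj9 σ c by rw [← adj9_P1 (σ := σ) i, ← adj9_mul, hcP], zero_add] at h1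
    have h3 := congrArg (adj9 σ) h1
    rw [hH.adj9_adj9] at h3
    rw [h3]
    ext s t; simp [adj9]
  have key : ∀ R : ZMod 3 → M3' F, R i = 1 → In H (bd R) → b * (bd R - adj9 σ (bd R)) * adj9 σ b = 0 := by
    intro R hR hin
    obtain ⟨nh, hnh, en⟩ := hin
    obtain ⟨n, hn⟩ : ∃ n, n = (nh : M9 F) := ⟨_, rfl⟩
    obtain ⟨n', hn'⟩ : ∃ n', n' = adj9 σ (nh : M9 F) := ⟨_, rfl⟩
    have hni : ((nh⁻¹ : (M9 F)ˣ) : M9 F) = n' := hn' ▸ (hH.u9_of hnh).inv
    obtain ⟨nP, Pn⟩ := P1_bd (F := F) R hR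
    rw [← en, ← hn] at nP Pn
    have Pn' : (P1 i : M9 F) * n' = P1 i := by
      rw [hn', ← hn, ← adj9_P1 (σ := σ) i, ← adj9_mul, nP]
    have n'P : n' * (P1 i : M9 F) = P1 i := by
      rw [hn', ← hn, ← adj9_P1 (σ := σ) i, ← adj9_mul, Pn]
    have nb : n * b = b := by rw [← hPb, ← mul_assoc, nP]
    have cn' : c * n' = c := by rw [← hcP, mul_assoc, Pn']
    have n'b : n' * b = b := by rw [← hPb, ← mul_assoc, n'P]
    have cn : c * n = c := by rw [← hcP, mul_assoc, Pn]
    obtain ⟨u', hu'⟩ : ∃ u', u' = nh * u * nh⁻¹ := ⟨_, rfl⟩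
    obtain ⟨X, hX⟩ : ∃ X, X = b + c := ⟨_, rfl⟩
    obtain ⟨X', hX'⟩ : ∃ X', X' = b * n' + n * c := ⟨_, rfl⟩
    have eu' : (u' : M9 F) = 1 + X' := by
      rw [hu', Units.val_mul, Units.val_mul, hni, ← hn, e, mul_add, mul_one, mul_add, add_mul, add_mul, nb,
        mul_assoc n c, cn', hX']
      congr 1
      rw [← hni, hn, Units.mul_inv]
    have bb : ∀ r, b * (b * r) = 0 ∧ b * (c * r) = 0 ∧ c * (b * r) = 0 ∧ c * (c * r) = 0 := fun r => by
      simp only [← mul_assoc, hbb, hbc, hcb, hcc, zero_mul, and_self]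
    have nb' : ∀ r, n * (b * r) = b * r ∧ n' * (b * r) = b * r ∧ c * (n * r) = c * r ∧ c * (n' * r) = c * r :=
      fun r => by simp only [← mul_assoc, nb, n'b, cn, cn', and_self]
    have hX'2 : X' * X' = 0 := by
      rw [hX']
      simp only [add_mul, mul_add, mul_assoc, nb, n'b, cn, cn', (nb' _).1, (nb' _).2.1, (nb' _).2.2.1, (nb' _).2.2.2,
        (bb _).1, (bb _).2.1, (bb _).2.2.1, (bb _).2.2.2, hbb, hbc, hcb, hcc, mul_zero, add_zero]
      simp [← mul_assoc, mul_assoc b n' n, show n' * n = 1 by rw [← hni, hn, Units.inv_mul], hbc]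
    have hu'i : ((u'⁻¹ : (M9 F)ˣ) : M9 F) = 1 - X' := by
      refine Units.inv_eq_of_mul_eq_one_right ?_
      rw [eu', mul_sub, mul_one, add_mul, one_mul, hX'2, add_zero, add_sub_cancel_right]
    obtain ⟨v, hv⟩ : ∃ v, v = u * u' * u⁻¹ * u'⁻¹ := ⟨_, rfl⟩
    obtain ⟨A, hA⟩ : ∃ A, A = b * n * c := ⟨_, rfl⟩
    obtain ⟨B, hB⟩ : ∃ B, B = b * n' * c := ⟨_, rfl⟩
    have hXX' : X * X' = A := by
      rw [hX, hX', hA]
      simp only [add_mul, mul_add, mul_assoc, nb, n'b, cn, cn', (nb' _).1, (nb' _).2.1, (nb' _).2.2.1, (nb' _).2.2.2,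
        (bb _).1, (bb _).2.1, (bb _).2.2.1, (bb _).2.2.2, hbb, hbc, hcb, hcc, mul_zero, add_zero, zero_add]
    have hX'X : X' * X = B := by
      rw [hX, hX', hB]
      simp only [add_mul, mul_add, mul_assoc, nb, n'b, cn, cn', (nb' _).1, (nb' _).2.1, (nb' _).2.2.1, (nb' _).2.2.2,
        (bb _).1, (bb _).2.1, (bb _).2.2.1, (bb _).2.2.2, hbb, hbc, hcb, hcc, mul_zero, add_zero, zero_add]
    have cubic : X * A = 0 ∧ A * X = 0 ∧ X' * A = 0 ∧ A * X' = 0 ∧ A * A = 0 := by
      rw [hX, hX', hA]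
      simp only [add_mul, mul_add, mul_assoc, nb, n'b, cn, cn', (nb' _).1, (nb' _).2.1, (nb' _).2.2.1, (nb' _).2.2.2,
        (bb _).1, (bb _).2.1, (bb _).2.2.1, (bb _).2.2.2, hbb, hbc, hcb, hcc, mul_zero, add_zero, zero_add, and_self]
    have ev : (v : M9 F) = 1 + (A - B) := by
      obtain ⟨c1, c2, c3, c4, c5⟩ := cubic
      rw [hv, Units.val_mul, Units.val_mul, Units.val_mul, hinv, hu'i, eu', e, ← hX,
        mul_assoc ((1 + X) * (1 + X')) (1 - X) (1 - X')]
      have l1 : (1 + X) * (1 + X') = 1 + X + X' + A := by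
        rw [mul_add, mul_one, add_mul, one_mul, hXX']; abel
      have l2 : (1 - X) * (1 - X') = 1 - X - X' + A := by
        rw [mul_sub, mul_one, sub_mul, one_mul, hXX']; abel
      rw [l1, l2]
      simp only [add_mul, mul_add, mul_sub, mul_one, one_mul, c1, c2, c3, c4, c5, hXX', hX'X, hX'2,
        show X * X = 0 by rw [hX]; exact hX2]
      abel
    obtain ⟨D, hD⟩ : ∃ D, D = A - B := ⟨_, rfl⟩
    rw [← hD] at ev
    have hDD : D * D = 0 := by
      rw [hD, hA, hB]
      simp only [sub_mul, mul_sub, mul_assoc, (bb _).2.2.1, mul_zero, sub_zero]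
    have hPD : (P1 i : M9 F) * D = D ∧ D * (P1 i : M9 F) = D := by
      rw [hD, hA, hB]
      constructor
      · rw [mul_sub, ← mul_assoc, ← mul_assoc, ← mul_assoc, ← mul_assoc, hPb]
      · rw [sub_mul, mul_assoc _ c, mul_assoc _ c, hcP]
    have supp : ∀ s t, D s t ≠ 0 → s.1 = i ∧ t.1 = i := fun s t h0 => by
      constructor <;> by_contra q <;> refine h0 ?_
      · rw [← hPD.1, P1, diagonal_mul, if_neg q, zero_mul]
      · rw [← hPD.2, P1, mul_diagonal, if_neg q, mul_zero]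
    have hvx : (v : M9 F) * xM ω = xM ω * (v : M9 F) := by
      rw [ev, add_mul, mul_add, one_mul, mul_one]
      congr 1
      ext s t
      rw [xM, dg, mul_diagonal, diagonal_mul]
      by_cases h0 : D s t = 0
      · simp [h0]
      · obtain ⟨a1, a2⟩ := supp s t h0
        simp [dot, a1, a2, mul_comm]
    have hvp : (v : M9 F) ^ p = 1 := by
      rw [ev, one_add_pow_of_sq hDD, CharP.cast_eq_zero F p, zero_smul, add_zero]
    have hv1 := hH.cent_x_pow_p h2 hS (g := v)
      (hv ▸ mul_mem (mul_mem (mul_mem hu (hu' ▸ mul_mem (mul_mem hnh hu) (inv_mem hnh))) (inv_mem hu))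
        (inv_mem (hu' ▸ mul_mem (mul_mem hnh hu) (inv_mem hnh)))) hvx hvp
    have hD0 : D = 0 := by
      rw [hv1, Units.val_one] at ev
      exact (add_eq_left.1 ev.symm)
    rw [hD, hA, hB, hc, ← sub_mul, ← mul_sub, mul_neg, neg_eq_zero] at hD0
    rw [← en, ← hn, show adj9 σ n = n' by rw [hn', hn]]
    exact hD0
  -- every block of the part vanishes
  have zero : ∀ a, a ≠ i → blkAt b i a = 0 := by
    intro a ha
    obtain ⟨l, hl⟩ : ∃ l, l = i + i - a := ⟨_, rfl⟩
    have sq : (a - i) * (a - i) = 1 := by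
      rcases zmod3_cases (a - i) with q | q | q
      · exact absurd (sub_eq_zero.1 q) ha
      all_goals rw [q]; decide
    have hall : ∀ x y, blkAt b i a * r2 ω 0 x y * adj3 σ (blkAt b i a) = 0 := by
      intro x y
      have eq : ∀ k : ZMod 3, wp ω k • (blkAt b i a * r2 ω 0 x y * adj3 σ (blkAt b i a)) -
          wp ω (-k) • (blkAt b i a * adj3 σ (r2 ω 0 x y) * adj3 σ (blkAt b i a)) +
          blkAt b i l * (r2 ω 0 (-x) (-y) - adj3 σ (r2 ω 0 (-x) (-y))) * adj3 σ (blkAt b i l) = 0 := by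
        intro k
        obtain ⟨R, hR⟩ : ∃ R : ZMod 3 → M3' F, R = fun t =>
          r2 ω (if t = a then k else 0) ((t - i) * ((a - i) * x)) ((t - i) * ((a - i) * y)) := ⟨_, rfl⟩
        have hRi : R i = 1 := by simp [hR, Ne.symm ha, r2_one]
        have h0 := key R hRi (hR ▸ hH.in_blocks i ((a - i) * x) ((a - i) * y) _)
        have hl' : l ≠ a ∧ l ≠ i ∧ (l - i) * (a - i) = -1 ∧ ∀ t, t = i ∨ t = a ∨ t = l := by
          have tab : ∀ a i : ZMod 3, a ≠ i → (i + i - a) ≠ a ∧ (i + i - a) ≠ i ∧ ((i + i - a) - i) * (a - i) = -1 ∧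
              ∀ t, t = i ∨ t = a ∨ t = i + i - a := by decide
          exact hl ▸ tab a i ha
        have hadjk : ∀ (k x y : ZMod 3), adj3 σ (r2 ω k x y) = wp ω (-k) • adj3 σ (r2 ω 0 x y) := fun k x y => by
          ext s t
          simp only [adj3, transpose_apply, map_apply, r2_apply, Matrix.smul_apply, smul_eq_mul, apply_ite σ,
            map_zero, zero_add]
          split_ifs
          · rw [hH.conj_wp, hH.conj_wp, neg_add, wp_add hω]
          · rw [mul_zero]
        have hRa : R a = r2 ω k x y := by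
          rw [hR]; simp only [if_true, ← mul_assoc, sq, one_mul]
        have hRl : R l = r2 ω 0 (-x) (-y) := by
          rw [hR]; simp only [if_neg hl'.1, ← mul_assoc, hl'.2.2.1, neg_one_mul]
        ext y' z'
        have h3 := congrFun (congrFun h0 (i, y')) (i, z')
        rw [mul_sub, sub_mul, Matrix.sub_apply, adj9_bd, row_bd_adj, row_bd_adj, ← Finset.sum_sub_distrib,
          Matrix.zero_apply] at h3
        rw [show (Finset.univ : Finset (ZMod 3)) = {i, a, l} from (Finset.eq_univ_of_forall fun t => by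
          rcases hl'.2.2.2 t with q | q | q <;> simp [q]).symm, Finset.sum_insert (by simp [Ne.symm ha, Ne.symm hl'.2.1]),
          Finset.sum_insert (by simp [Ne.symm hl'.1]), Finset.sum_singleton, hRi, hRa, hRl, u3_one_adj, sub_self,
          zero_add, hadjk k, r2_eq_smul hω k] at h3
        simp only [Matrix.mul_smul, Matrix.smul_mul, Matrix.smul_apply, Matrix.add_apply, Matrix.sub_apply,
          Matrix.mul_sub, Matrix.sub_mul, Matrix.zero_apply] at h3 ⊢
        exact h3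
      ext y' z'
      have e0 := congrFun (congrFun (eq 0) y') z'
      have e1 := congrFun (congrFun (eq 1) y') z'
      have e2 := congrFun (congrFun (eq 2) y') z'
      simp only [Matrix.smul_apply, Matrix.add_apply, Matrix.sub_apply, Matrix.zero_apply, smul_eq_mul,
        neg_zero, wp_zero, wp_one, wp_two, one_mul, show (-1 : ZMod 3) = 2 by decide,
        show (-2 : ZMod 3) = 1 by decide] at e0 e1 e2
      rw [Matrix.zero_apply]
      refine (mul_eq_zero.1 ?_).resolve_left (mul_ne_zero hω.three (s_ne hω))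
      linear_combination -((ω - 1) * (e1 - e0) - (ω * ω - 1) * (e2 - e0)) -
        ω * (blkAt b i a * r2 ω 0 x y * adj3 σ (blkAt b i a)) y' z' * hω.pow_three
    ext y s
    have hM : (of fun t s => σ (blkAt b i a y t) * blkAt b i a y s : M3' F) = 0 := by
      refine eq_zero_of_trace hω fun x z => ?_
      have := congrFun (congrFun (hall x z) y) y
      rw [Matrix.zero_apply, Matrix.mul_apply] at this
      rw [Matrix.trace, ← this]
      simp only [diag_apply, Matrix.mul_apply, adj3, transpose_apply, map_apply, of_apply, Finset.sum_mul]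
      rw [Finset.sum_comm]
      exact Finset.sum_congr rfl fun t _ => Finset.sum_congr rfl fun s _ => by ring
    have := congrFun (congrFun hM s) s
    rw [of_apply, Matrix.zero_apply] at this
    rcases mul_eq_zero.1 this with q | q
    · rw [Matrix.zero_apply]; exact (map_eq_zero σ).1 q
    · rw [Matrix.zero_apply]; exact q
  have hb0 : b = 0 := by
    ext ⟨s, y⟩ ⟨t, z⟩
    rw [Matrix.zero_apply]
    by_cases hs : s = i
    · subst hs
      by_cases ht : t = s
      · subst ht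
        have := congrFun (congrFun hbP (t, y)) (t, z)
        rwa [P1, mul_diagonal, if_pos rfl, mul_one] at this
      · exact congrFun (congrFun (zero t ht) y) z
    · rw [← hPb, P1, diagonal_mul, if_neg hs, zero_mul]
  refine Units.ext ?_
  rw [e, hc, hb0, Units.val_one]
  ext s t; simp [adj9]
where
  u3_one_adj : adj3 σ (1 : M3' F) = 1 := by
    ext i j; simp [adj3, Matrix.one_apply, apply_ite σ, eq_comm]

end Amb

end CfsgLib.Classical.QutritU
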