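import Cfsg.Agent.Lib.Classical.QutritU.Small.TwoInvol

/-!
# The centraliser of the reflection normalises over the field with four elements
-/

set_option autoImplicit false
set_option linter.unusedSectionVars false
set_option linter.unusedSimpArgs false
set_option linter.style.haveILetI false

namespace CfsgLib.Classical.QutritU

open Matrix CfsgLib.Classical.QutritMax

variable {K : Type*} [Field K] {σ : K →+* K} {ω : K} {p : ℕ} {H : Subgroup (M9 K)ˣ}

/-- The fixed points of the reflection, as a projection. -/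
def D0 : M9 K := diagonal fun v : Pt => if v.2 = 0 then 1 else 0

theorem flA_fix : ∀ v : Pt, flA v = v ↔ v.2 = 0 := by decide +kernel

/-- The action on the fixed points of the reflection. -/
def midM (g : M9 K) : M3' K := of fun x a => g (x, 0) (a, 0)

/-- A matrix acting on the first coordinate. -/
def fstB (B : M3' K) : M9 K := of fun i j => if i.2 = j.2 then B i.1 j.1 else 0

theorem midM_one : midM (1 : M9 K) = 1 := by
  ext x a; simp [midM, Matrix.one_apply]

theorem midM_mul (h2 : (2 : K) = 0) {g k : M9 K} (hg : Commute g (pm flA)) (hk : Commute k (pm flA)) :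
    midM (g * k) = midM g * midM k := by
  ext x a
  rw [midM, of_apply, mid_mul h2 flA_sq hg hk (by simp [flA_apply]) (by simp [flA_apply]), Finset.sum_filter,
    Fintype.sum_prod_type, Matrix.mul_apply]
  simp +decide [sum3, flA_apply, midM]

theorem midM_adj (g : M9 K) : midM (adj9 σ g) = adj3 σ (midM g) := by
  ext x a; simp [midM, adj9, adj3]

theorem tr_of_res (h2 : (2 : K) = 0) {g : M9 K} (hc : Commute g (pm flA)) (hr : res g = 1) : Tr flA (g - 1) := by
  have hres : ∀ x a, g (x, 1) (a, 1) - g (x, 1) (a, 2) = if x = a then 1 else 0 := fun x a => by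
    have := congrFun (congrFun hr x) a
    simpa [res, Matrix.one_apply] using this
  have sym : ∀ a b c d, g (a, b) (c, d) = g (a, -b) (c, -d) := cS_symm hc
  have main : ∀ i a, (g - 1) i (a, 2) = (g - 1) i (a, 1) := by
    rintro ⟨x, y⟩ a
    rcases zmod3_cases y with rfl | rfl | rfl
    · rw [Matrix.sub_apply, Matrix.sub_apply, sym x 0 a 2, neg_zero, show (-2 : ZMod 3) = 1 by decide]
      simp +decide [Matrix.one_apply]
    · have h := hres x a
      simp +decide [Matrix.sub_apply, Matrix.one_apply]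
      split_ifs at h ⊢ with e <;> first | linear_combination -h + h2 - h2 | linear_combination -h - h2 | linear_combination -h + h2 | linear_combination -h
    · have h := hres x a
      rw [Matrix.sub_apply, Matrix.sub_apply, sym x 2 a 2, sym x 2 a 1, show (-2 : ZMod 3) = 1 by decide,
        show (-1 : ZMod 3) = 2 by decide]
      simp +decide [Matrix.one_apply]
      split_ifs at h ⊢ with e <;> first | linear_combination h | linear_combination h - h2 | linear_combination h + h2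
  rintro i ⟨a, b⟩
  rcases zmod3_cases b with rfl | rfl | rfl
  · simp [flA_apply]
  · rw [flA_apply, show (-1 : ZMod 3) = 2 by decide]; exact main i a
  · rw [flA_apply, show (-2 : ZMod 3) = 1 by decide]; exact (main i a).symm

theorem D0_mul_apply (A : M9 K) (i j : Pt) : (D0 * A : M9 K) i j = if i.2 = 0 then A i j else 0 := by
  rw [D0, diagonal_mul]; split_ifs <;> simp

theorem mul_D0_apply (A : M9 K) (i j : Pt) : (A * D0 : M9 K) i j = if j.2 = 0 then A i j else 0 := by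
  rw [D0, mul_diagonal]; split_ifs <;> simp

theorem mid_iff {g : M9 K} :
    (∀ i j, flA i = i → flA j = j → (g - 1) i j = 0) ↔ D0 * (g - 1) * D0 = (0 : M9 K) := by
  refine ⟨fun h => ?_, fun h i j hi hj => ?_⟩
  · ext i j
    rw [mul_D0_apply, D0_mul_apply, Matrix.zero_apply]
    split_ifs with e1 e2
    · exact h i j ((flA_fix i).2 e2) ((flA_fix j).2 e1)
    all_goals rfl
  · have := congrFun (congrFun h i) j
    rwa [mul_D0_apply, D0_mul_apply, Matrix.zero_apply, if_pos ((flA_fix j).1 hj), if_pos ((flA_fix i).1 hi)] at this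

theorem col_iff {g : M9 K} : (∀ i j, flA j = j → (g - 1) i j = 0) ↔ (g - 1) * D0 = (0 : M9 K) := by
  refine ⟨fun h => ?_, fun h i j hj => ?_⟩
  · ext i j
    rw [mul_D0_apply, Matrix.zero_apply]
    split_ifs with e1
    · exact h i j ((flA_fix j).2 e1)
    · rfl
  · have := congrFun (congrFun h i) j
    rwa [mul_D0_apply, Matrix.zero_apply, if_pos ((flA_fix j).1 hj)] at this

/-- The members of the flag kernel fixing the columns of the fixed points. -/
def colKer (h2 : (2 : K) = 0) (H : Subgroup (M9 K)ˣ) : Subgroup (M9 K)ˣ where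
  carrier := {g | g ∈ flatKer h2 flA_sq H ∧ ((g : M9 K) - 1) * D0 = 0}
  one_mem' := ⟨one_mem _, by simp⟩
  mul_mem' := fun {g k} hg hk => by
    refine ⟨mul_mem hg.1 hk.1, ?_⟩
    rw [Units.val_mul, show (g : M9 K) * k - 1 = ((g : M9 K) - 1) + (g : M9 K) * ((k : M9 K) - 1) by noncomm_ring,
      add_mul, hg.2, mul_assoc, hk.2, mul_zero, add_zero]
  inv_mem' := fun {g} hg => by
    refine ⟨inv_mem hg.1, ?_⟩
    rw [show ((g⁻¹ : (M9 K)ˣ) : M9 K) - 1 = -(((g⁻¹ : (M9 K)ˣ) : M9 K) * ((g : M9 K) - 1)) by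
      rw [mul_sub, Units.inv_mul, mul_one, neg_sub], Matrix.neg_mul, mul_assoc, hg.2, mul_zero, neg_zero]

theorem flat_conj (h2 : (2 : K) = 0) {g r r' : M9 K} (hg : Flat flA g) (hr : Commute r (pm flA))
    (hr' : Commute r' (pm flA)) (hd : Commute r D0) (hd' : Commute r' D0) (e : r * r' = 1) :
    Flat flA (r * g * r') := by
  refine ⟨(hr.mul_left hg.comm).mul_left hr', (tr_iff h2 flA_sq).2 ?_, mid_iff.2 ?_⟩
  · have c : Commute r' (1 + pm flA) := (Commute.one_right _).add_right hr'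
    rw [mul_assoc, c.eq, ← mul_assoc, mul_assoc r, (tr_iff h2 flA_sq).1 hg.tr,
      ((Commute.one_right r).add_right hr).eq, mul_assoc, e, mul_one]
  · rw [show r * g * r' - 1 = r * (g - 1) * r' by rw [mul_sub, mul_one, sub_mul, e],
      ← mul_assoc, ← mul_assoc, ← hd.eq, mul_assoc _ r' D0, hd'.eq, ← mul_assoc, mul_assoc r D0, mul_assoc r,
      mid_iff.1 hg.mid, mul_zero, zero_mul]

/-- The members of the standard group acting on the first coordinate. -/
def rA (ω : K) (q : Pt) : M9 K := Rm ω 0 (q.1, 0) (q.2, 0)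

theorem rA_flA (h : Root ω) (q : Pt) : Commute (rA ω q : M9 K) (pm flA) := by
  show rA ω q * pm flA = pm flA * rA ω q
  rw [rA, Rm, Matrix.mul_smul, ← mul_assoc, pm_sh flA_add, mul_assoc (sh _) (pm flA), pm_mul_dg, ← mul_assoc,
    Matrix.smul_mul]
  congr 4
  · simp [flA_apply]
  · funext w; simp [dot, flA_symm_apply]

theorem rA_D0 (q : Pt) : Commute (rA ω q : M9 K) D0 := by
  ext i j
  rw [mul_D0_apply, D0_mul_apply, rA, Rm, Matrix.smul_apply, dg, mul_diagonal, sh_apply]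
  by_cases e : i = j + (q.1, 0)
  · subst e; simp
  · simp [e]

theorem res_rA (h2 : (2 : K) = 0) (h : Root ω) (l : ZMod 3) (q : Pt) :
    res (Rm ω l (q.1, 0) (q.2, 0)) = r2 ω l q.1 q.2 ∧ midM (Rm ω l (q.1, 0) (q.2, 0)) = r2 ω l q.1 q.2 := by
  constructor <;> ext x a
  · rw [res, of_apply, Rm, Matrix.smul_apply, Matrix.smul_apply, dg, mul_diagonal, mul_diagonal, sh_apply, sh_apply,
      r2_apply]
    by_cases e : x = a + q.1 <;> simp +decide [e, dot, wp_add h]
  · rw [midM, of_apply, Rm, Matrix.smul_apply, dg, mul_diagonal, sh_apply, r2_apply]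
    by_cases e : x = a + q.1 <;> simp +decide [e, dot, wp_add h]

namespace Amb

variable (hH : Amb σ ω p H) [Finite K]
include hH

theorem exists_rA (q : Pt) : ∃ r ∈ H, ((r : (M9 K)ˣ) : M9 K) = rA ω q ∧ r ^ 3 = 1 := by
  obtain ⟨r, hr, er⟩ := hH.in_Rm 0 (q.1, 0) (q.2, 0)
  exact ⟨r, hr, er, Units.ext (by rw [Units.val_pow_eq_pow_val, er, Rm_pow_three hH.root, Units.val_one])⟩

theorem rA_units {r : (M9 K)ˣ} {q : Pt} (er : (r : M9 K) = rA ω q) :
    Commute (r : M9 K) (pm flA) ∧ Commute ((r⁻¹ : (M9 K)ˣ) : M9 K) (pm flA) ∧ Commute (r : M9 K) D0 ∧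
      Commute ((r⁻¹ : (M9 K)ˣ) : M9 K) D0 := by
  have h1 : Commute (r : M9 K) (pm flA) := er ▸ rA_flA hH.root q
  have h2 : Commute (r : M9 K) D0 := er ▸ rA_D0 q
  exact ⟨h1, h1.units_inv_left, h2, h2.units_inv_left⟩

/-- The flag kernel of the reflection normalises. -/
theorem flat_le (hp : p = 2) (hS : SM ω H) : flatKer (hH.two_eq hp) flA_sq H ≤ hH.norH := by
  have h2 := hH.two_eq hp
  have hω := hH.root
  haveI := hH.finite
  obtain ⟨a, ha, ea, a3⟩ := hH.exists_rA (0, 1)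
  obtain ⟨b, hb, eb, b3⟩ := hH.exists_rA (1, 0)
  obtain ⟨_, _, ca', _⟩ := hH.rA_units ea
  have conjF : ∀ {r : (M9 K)ˣ} {q : Pt}, r ∈ H → (r : M9 K) = rA ω q → ∀ x ∈ flatKer h2 flA_sq H,
      r * x * r⁻¹ ∈ flatKer h2 flA_sq H := fun {r q} hr er x hx => by
    obtain ⟨c1, c2, c3, c4⟩ := hH.rA_units er
    refine ⟨mul_mem (mul_mem hr hx.1) (inv_mem hr), ?_⟩
    rw [Units.val_mul, Units.val_mul]
    exact flat_conj h2 hx.2 c1 c2 c3 c4 (Units.mul_inv r)
  have conjL : ∀ {r : (M9 K)ˣ} {q : Pt}, r ∈ H → (r : M9 K) = rA ω q → ∀ x ∈ colKer h2 H,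
      r * x * r⁻¹ ∈ colKer h2 H := fun {r q} hr er x hx => by
    obtain ⟨c1, c2, c3, c4⟩ := hH.rA_units er
    refine ⟨conjF hr er x hx.1, ?_⟩
    rw [Units.val_mul, Units.val_mul, show (r : M9 K) * (x : M9 K) * ((r⁻¹ : (M9 K)ˣ) : M9 K) - 1 =
      (r : M9 K) * ((x : M9 K) - 1) * ((r⁻¹ : (M9 K)ˣ) : M9 K) by rw [mul_sub, mul_one, sub_mul, Units.mul_inv],
      mul_assoc, c4.eq, ← mul_assoc, mul_assoc (r : M9 K), hx.2, mul_zero, zero_mul]
  have hd : ∀ m : M9 K, m + m = 0 := fun m => by rw [← two_smul K m, h2, zero_smul]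
  have ek : (a : M9 K) * b = Rm ω 1 (1, 0) (1, 0) := by
    rw [ea, eb, rA, rA, Rm_mul hω]; congr 1
  have ek' : (a : M9 K) * a * b = Rm ω 2 (1, 0) (2, 0) := by
    rw [ea, eb, rA, rA, Rm_mul hω, Rm_mul hω]; congr 1
  have hab : ∀ x : (M9 K)ˣ, a * (b * x * b⁻¹) * a⁻¹ = b * (a * x * a⁻¹) * b⁻¹ := by
    intro x
    obtain ⟨c, e⟩ : ∃ c : K, (a : M9 K) * b = c • ((b : M9 K) * a) :=
      ⟨_, by rw [ea, eb, rA, rA]; exact Rm_comm hω ..⟩
    obtain ⟨z, hz⟩ : ∃ z, z = a * b * (b * a)⁻¹ := ⟨_, rfl⟩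
    obtain ⟨w, hw⟩ : ∃ w, w = b * a * x * (b * a)⁻¹ := ⟨_, rfl⟩
    have zc : (z : M9 K) = c • (1 : M9 K) := by
      rw [hz, Units.val_mul, Units.val_mul a b, e, Matrix.smul_mul, ← Units.val_mul b a, Units.mul_inv]
    have com : z * w = w * z := Units.ext (by
      rw [Units.val_mul, Units.val_mul, zc, Matrix.smul_mul, Matrix.mul_smul, one_mul, mul_one])
    calc a * (b * x * b⁻¹) * a⁻¹ = z * w * z⁻¹ := by rw [hz, hw]; group
      _ = w := by rw [com, mul_inv_cancel_right]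
      _ = b * (a * x * a⁻¹) * b⁻¹ := by rw [hw]; group
  have hab3 : (a * b) ^ 3 = 1 := Units.ext (by
    rw [Units.val_pow_eq_pow_val, Units.val_mul, ek, Rm_pow_three hω, Units.val_one])
  have haab3 : (a * a * b) ^ 3 = 1 := Units.ext (by
    rw [Units.val_pow_eq_pow_val, Units.val_mul, Units.val_mul, ek', Rm_pow_three hω, Units.val_one])
  have hc : ∀ r, r = a ∨ r = b ∨ r = a * b ∨ r = a * a * b → ∀ x ∈ flatKer h2 flA_sq H, r * x = x * r →
      x ∈ hH.norH := by
    intro r hr x hx e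
    have e' : (x : M9 K) * (r : M9 K) = (r : M9 K) * x := by rw [← Units.val_mul, ← e, Units.val_mul]
    rcases hr with rfl | rfl | rfl | rfl
    · rw [ea, rA] at e'; exact hS.cent hH hx.1 (by decide) e'
    · rw [eb, rA] at e'; exact hS.cent hH hx.1 (by decide) e'
    · rw [Units.val_mul a b, ek] at e'; exact hS.cent hH hx.1 (by decide) e'
    · rw [Units.val_mul (a * a) b, Units.val_mul a a, ek'] at e'; exact hS.cent hH hx.1 (by decide) e'
  have hK := flatKer_pGroup h2 flA_sq H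
  have hLK : colKer h2 H ≤ flatKer h2 flA_sq H := fun x hx => hx.1
  have colN : colKer h2 H ≤ hH.norH := by
    refine le_of_lines (fun x : (M9 K)ˣ => (x : M9 K) - 1) hd (L := ⊥) (hK.to_le hLK) bot_le bot_le ?_ ?_ a3 b3 hab3
      haab3 (fun x _ => hab x) (fun x hx => ⟨conjL ha ea x hx, conjL hb eb x hx⟩)
      (fun x hx => by rw [Subgroup.mem_bot] at hx; subst hx; simp) fun r hr x hx => hc r hr x (hLK hx)
    · intro x hx y hy
      have e : ((x : M9 K) - 1) * ((y : M9 K) - 1) = 0 := by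
        ext i j
        rw [flat_mul_apply h2 flA_sq hx.1.2 hy.1.2, Matrix.zero_apply]
        refine Finset.sum_eq_zero fun l hl => ?_
        rw [col_iff.2 hx.2 i l (Finset.mem_filter.1 hl).2, zero_mul]
      show ((x * y : (M9 K)ˣ) : M9 K) - 1 = _
      rw [Units.val_mul, show (x : M9 K) * y - 1 = ((x : M9 K) - 1) + ((y : M9 K) - 1) +
        ((x : M9 K) - 1) * ((y : M9 K) - 1) by noncomm_ring, e, add_zero]
    · intro x _ e
      exact Subgroup.mem_bot.2 (Units.ext (sub_eq_zero.1 e))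
  refine le_of_lines (fun x : (M9 K)ˣ => ((x : M9 K) - 1) * D0) hd hK hLK colN ?_ (fun x hx e => ⟨hx, e⟩) a3 b3 hab3
    haab3 (fun x _ => hab x) (fun x hx => ⟨conjF ha ea x hx, conjF hb eb x hx⟩)
    (fun x hx => ⟨conjL ha ea x hx, conjL hb eb x hx⟩) hc
  intro x hx y hy
  have e : ((x : M9 K) - 1) * ((y : M9 K) - 1) * D0 = 0 := by
    ext i j
    rw [mul_D0_apply, flat_mul_apply h2 flA_sq hx.2 hy.2, Matrix.zero_apply]
    split_ifs with ej
    · refine Finset.sum_eq_zero fun l hl => ?_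
      rw [hy.2.mid l j (Finset.mem_filter.1 hl).2 ((flA_fix j).2 ej), mul_zero]
    · rfl
  show (((x * y : (M9 K)ˣ) : M9 K) - 1) * D0 = _
  rw [Units.val_mul, show (x : M9 K) * y - 1 = ((x : M9 K) - 1) + ((y : M9 K) - 1) +
    ((x : M9 K) - 1) * ((y : M9 K) - 1) by noncomm_ring, add_mul, add_mul, e, add_zero]

theorem in_fstB (hp : p = 2) {B : M3' K} (hu : U3 σ B) :
    ∃ n ∈ hH.norH, ((n : (M9 K)ˣ) : M9 K) = fstB B := by
  have hω := hH.root
  have hd3 : B.det ^ 3 = 1 := by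
    obtain ⟨k, hk⟩ := hH.eq_wp_of_ne hp hu.det_ne
    rw [hk, wp_pow_three hω]
  have hn := hH.nor3_of_two hp hu
  obtain ⟨S, hS, eS, -, hSN⟩ := hH.exists_Sw
  have e : fstB B = (Sw : M9 K) * blk B * Sw := by
    have h1 : (-1 : K) * -1 = 1 := by ring
    ext ⟨a, b⟩ ⟨c, d⟩
    rw [Sw, show (Equiv.Perm.sign (Equiv.prodComm (ZMod 3) (ZMod 3)) : ℤ) = -1 by decide]
    simp only [Int.cast_neg, Int.cast_one, Matrix.smul_mul, Matrix.mul_smul, smul_smul, h1, one_smul]
    rw [mul_pm_apply, pm_mul_apply]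
    simp [blk_apply, fstB, Matrix.one_apply]
  refine hH.exists_norH ?_ ?_
  · rw [e]
    exact In.mul (In.mul (⟨S, hS, eS⟩ : In H (Sw : M9 K)) (hH.in_blk hu hd3 hn)) ⟨S, hS, eS⟩
  · rw [e]
    exact ((nor_Sw hω).mul (nor_blk hω hn)).mul (nor_Sw hω)

/-- A member of the kernel of the restriction whose action commutes with a member of the Heisenberg group. -/
theorem nor_of_mid (hp : p = 2) (hS : SM ω H) {k : (M9 K)ˣ} (hk : k ∈ H) (hc : Commute (k : M9 K) (pm flA))
    (hr : res (k : M9 K) = 1) {q : Pt} (hq : q ≠ 0)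
    (hm : midM (k : M9 K) * r2 ω 0 q.1 q.2 = r2 ω 0 q.1 q.2 * midM (k : M9 K)) : k ∈ hH.norH := by
  have h2 := hH.two_eq hp
  have hω := hH.root
  haveI := hH.finite
  obtain ⟨r, hrH, er, r3⟩ := hH.exists_rA q
  obtain ⟨c1, c2, c3, c4⟩ := hH.rA_units er
  have cki : Commute ((k⁻¹ : (M9 K)ˣ) : M9 K) (pm flA) := hc.units_inv_left
  obtain ⟨R1, R2⟩ := res_rA h2 hω 0 q
  rw [show Rm ω 0 (q.1, 0) (q.2, 0) = (r : M9 K) from er.symm] at R1 R2
  have hL : k⁻¹ * (r * k * r⁻¹) ∈ flatKer h2 flA_sq H := by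
    refine ⟨mul_mem (inv_mem hk) (mul_mem (mul_mem hrH hk) (inv_mem hrH)), ?_⟩
    simp only [Units.val_mul]
    have cc := (c1.mul_left hc).mul_left c2
    refine ⟨cki.mul_left cc, tr_of_res h2 (cki.mul_left cc) ?_, fun i j hi hj => ?_⟩
    · have e1 : res ((k⁻¹ : (M9 K)ˣ) : M9 K) = 1 := by
        have := congrArg res (Units.inv_mul k)
        rwa [res_mul hc, hr, mul_one, res_one] at this
      rw [res_mul cc, e1, one_mul, res_mul c2, res_mul hc, hr, mul_one, ← res_mul c2, Units.mul_inv, res_one]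
    · have em : midM (((k⁻¹ : (M9 K)ˣ) : M9 K) * ((r : M9 K) * (k : M9 K) * ((r⁻¹ : (M9 K)ˣ) : M9 K))) = 1 := by
        rw [midM_mul h2 cki cc, midM_mul h2 (c1.mul_left hc) c2, midM_mul h2 c1 hc, R2, ← hm, mul_assoc (midM _),
          ← R2, ← midM_mul h2 c1 c2, Units.mul_inv, midM_one, mul_one, ← midM_mul h2 cki hc, Units.inv_mul,
          midM_one]
      obtain ⟨x, y⟩ := i
      obtain ⟨x', y'⟩ := j
      obtain rfl : y = 0 := (flA_fix _).1 hi
      obtain rfl : y' = 0 := (flA_fix _).1 hj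
      have := congrFun (congrFun em x) x'
      rw [midM, of_apply] at this
      rw [Matrix.sub_apply, this]
      simp [Matrix.one_apply]
  have hconj : ∀ x ∈ flatKer h2 flA_sq H, r * x * r⁻¹ ∈ flatKer h2 flA_sq H := fun x hx => by
    refine ⟨mul_mem (mul_mem hrH hx.1) (inv_mem hrH), ?_⟩
    rw [Units.val_mul, Units.val_mul]
    exact flat_conj h2 hx.2 c1 c2 c3 c4 (Units.mul_inv r)
  obtain ⟨x, hx, e⟩ := exists_fixed_coset (flatKer_pGroup h2 flA_sq H) r3 hconj hL
  have e' : ((k * x : (M9 K)ˣ) : M9 K) * rA ω q = rA ω q * ((k * x : (M9 K)ˣ) : M9 K) := by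
    rw [← er, ← Units.val_mul (k * x) r, ← e, Units.val_mul]
  have hne : ¬(((q.1, 0) : Pt) = 0 ∧ ((q.2, 0) : Pt) = 0) := fun h =>
    hq (Prod.ext (Prod.ext_iff.1 h.1).1 (Prod.ext_iff.1 h.2).1)
  have := mul_mem (hS.cent hH (mul_mem hk hx.1) hne e') (inv_mem (hH.flat_le hp hS hx))
  simpa using this

/-- A normalising member of the kernel of the restriction acts trivially on the Heisenberg group. -/
theorem mid_comm_of_nor (hp : p = 2) {k : (M9 K)ˣ} (hk : k ∈ hH.norH) (hc : Commute (k : M9 K) (pm flA))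
    (hr : res (k : M9 K) = 1) (q : Pt) :
    midM (k : M9 K) * r2 ω 0 q.1 q.2 = r2 ω 0 q.1 q.2 * midM (k : M9 K) := by
  have h2 := hH.two_eq hp
  have hω := hH.root
  obtain ⟨R1, R2⟩ := res_rA h2 hω 0 q
  obtain ⟨_, ⟨l, ⟨u₁, u₂⟩, ⟨v₁, v₂⟩, rfl⟩, e⟩ := hk.2 (rA ω q) ⟨_, _, _, rfl⟩
  have cr := rA_flA (K := K) hω q
  have hcR : Commute (Rm ω l (u₁, u₂) (v₁, v₂) : M9 K) (pm flA) := by
    refine (Units.mul_left_inj k).1 ?_
    rw [mul_assoc, ← hc.eq, ← mul_assoc, ← e, mul_assoc, cr.eq, ← mul_assoc, hc.eq, mul_assoc, e, ← mul_assoc]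
  have hfl : (pm flA : M9 K) * Rm ω l (u₁, u₂) (v₁, v₂) = Rm ω l (u₁, -u₂) (v₁, -v₂) * pm flA := by
    rw [Rm, Rm, Matrix.mul_smul, ← mul_assoc, pm_sh flA_add, mul_assoc, pm_mul_dg, ← mul_assoc, Matrix.smul_mul]
    congr 4
    funext w
    simp [dot, flA_symm_apply]
  have e' : (Rm ω l (u₁, u₂) (v₁, v₂) : M9 K) = Rm ω l (u₁, -u₂) (v₁, -v₂) := by
    have h := hcR.eq.trans hfl
    have := congrArg (· * (pm flA : M9 K)) h
    simpa only [mul_assoc, pm_mul, show flA * flA = 1 from Equiv.ext flA_sq, pm_one, mul_one] using this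
  obtain ⟨-, hu, hv⟩ := Rm_injective hω e'
  have t : ∀ x : ZMod 3, x = -x → x = 0 := by decide
  obtain rfl : u₂ = 0 := t _ (Prod.ext_iff.1 hu).2
  obtain rfl : v₂ = 0 := t _ (Prod.ext_iff.1 hv).2
  obtain ⟨S1, S2⟩ := res_rA h2 hω l (u₁, v₁)
  simp only at S1 S2
  have e1 := congrArg res e
  rw [res_mul cr, res_mul hc, hr, one_mul, mul_one, S1, show res (rA ω q) = r2 ω 0 q.1 q.2 from R1] at e1
  have e2 := congrArg midM e
  rw [midM_mul h2 hc cr, midM_mul h2 hcR hc, S2, ← e1, show midM (rA ω q) = r2 ω 0 q.1 q.2 from R2] at e2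
  exact e2

/-- The centraliser of the reflection normalises. -/
theorem cent_s (hp : p = 2) (hS : SM ω H) {g : (M9 K)ˣ} (hg : g ∈ H) (hc : Commute (g : M9 K) (pm flA)) :
    g ∈ hH.norH := by
  have h2 := hH.two_eq hp
  have hω := hH.root
  obtain ⟨B, hB⟩ : ∃ B, B = res (g : M9 K) := ⟨_, rfl⟩
  have hu : U3 σ B := hB ▸ hH.u3_res ⟨g, hg, hc⟩
  obtain ⟨n, hn, en⟩ := hH.in_fstB hp hu
  have hnc : Commute (n : M9 K) (pm flA) := by
    rw [en]
    ext ⟨a, b⟩ ⟨c, d⟩
    rw [mul_pm_apply, pm_mul_apply, flA_apply, flA_symm_apply]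
    simp only [fstB, of_apply]
    exact if_congr (by rw [neg_eq_iff_eq_neg, eq_comm (a := b)]) rfl rfl
  have hnr : res (n : M9 K) = B := by
    rw [en]; ext x a; simp +decide [res, fstB]
  obtain ⟨k, hk⟩ : ∃ k, k = n⁻¹ * g := ⟨_, rfl⟩
  have hkH : k ∈ H := hk ▸ mul_mem (inv_mem hn.1) hg
  have hkc : Commute (k : M9 K) (pm flA) := by
    rw [hk, Units.val_mul]; exact hnc.units_inv_left.mul_left hc
  have hkr : res (k : M9 K) = 1 := by
    rw [hk, Units.val_mul, res_mul hc, ← hB, ← hnr, ← res_mul hnc, Units.inv_mul, res_one]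
  suffices k ∈ hH.norH by
    have := mul_mem hn this
    rwa [hk, mul_inv_cancel_left] at this
  have kic : Commute ((k⁻¹ : (M9 K)ˣ) : M9 K) (pm flA) := hkc.units_inv_left
  obtain ⟨y, hy⟩ : ∃ y, y = midM (k : M9 K) := ⟨_, rfl⟩
  have yinv : y * midM ((k⁻¹ : (M9 K)ˣ) : M9 K) = 1 := by
    rw [hy, ← midM_mul h2 hkc kic, Units.mul_inv, midM_one]
  have yu : U3 σ y := by
    rw [U3, hy, ← midM_adj, ← (hH.u9_of hkH).inv, ← midM_mul h2 kic hkc, Units.inv_mul, midM_one]
  have triv : ∀ i j, ∃ c : K, y * r2 ω 0 i j = c • (r2 ω 0 i j * y) := by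
    intro i j
    obtain ⟨l, i', j', e⟩ := hH.nor3_of_two hp yu i j
    obtain ⟨r, hr, er, -⟩ := hH.exists_rA (i, j)
    obtain ⟨R1, R2⟩ := res_rA h2 hω 0 (i, j)
    rw [show Rm ω 0 (((i, j) : Pt).1, 0) (((i, j) : Pt).2, 0) = (r : M9 K) from er.symm] at R1 R2
    simp only at R1 R2
    obtain ⟨c1, c2, -, -⟩ := hH.rA_units er
    obtain ⟨c, hc'⟩ : ∃ c, c = k * r * k⁻¹ * r⁻¹ := ⟨_, rfl⟩
    have hcH : c ∈ H := hc' ▸ mul_mem (mul_mem (mul_mem hkH hr) (inv_mem hkH)) (inv_mem hr)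
    have ec : (c : M9 K) = (k : M9 K) * r * ((k⁻¹ : (M9 K)ˣ) : M9 K) * ((r⁻¹ : (M9 K)ˣ) : M9 K) := by
      simp only [hc', Units.val_mul]
    have cc : Commute (c : M9 K) (pm flA) := ec ▸ ((hkc.mul_left c1).mul_left kic).mul_left c2
    have hki : res ((k⁻¹ : (M9 K)ˣ) : M9 K) = 1 := by
      have := congrArg res (Units.inv_mul k)
      rwa [res_mul hkc, hkr, mul_one, res_one] at this
    have rc : res (c : M9 K) = 1 := by
      rw [ec, res_mul c2, res_mul kic, res_mul c1, hkr, hki, one_mul, mul_one, ← res_mul c2, Units.mul_inv, res_one]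
    have mc : midM (c : M9 K) = r2 ω l i' j' * r2 ω (j * i) (-i) (-j) := by
      have hri : midM ((r⁻¹ : (M9 K)ˣ) : M9 K) = r2 ω (j * i) (-i) (-j) := by
        have h1 : r2 ω 0 i j * midM ((r⁻¹ : (M9 K)ˣ) : M9 K) = 1 := by
          rw [← R2, ← midM_mul h2 c1 c2, Units.mul_inv, midM_one]
        have h3 := r2_inv_mul hω 0 i j
        rw [sub_zero] at h3
        rw [← one_mul (midM _), ← h3, mul_assoc, h1, mul_one]
      rw [ec, midM_mul h2 ((hkc.mul_left c1).mul_left kic) c2, midM_mul h2 (hkc.mul_left c1) kic, midM_mul h2 hkc c1,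
        R2, ← hy, e, mul_assoc (r2 ω l i' j') y, yinv, mul_one, hri]
    rw [r2_mul hω] at mc
    by_cases hd : i' = i ∧ j' = j
    · refine ⟨wp ω l, ?_⟩
      rw [e, hd.1, hd.2, r2_eq_smul hω l, Matrix.smul_mul]
    · exfalso
      have hq : ((i' + -i, j' + -j) : Pt) ≠ 0 := fun h => hd
        ⟨add_neg_eq_zero.1 (Prod.ext_iff.1 h).1, add_neg_eq_zero.1 (Prod.ext_iff.1 h).2⟩
      have cn := hH.nor_of_mid hp hS hcH cc rc hq (by
        rw [mc, r2_eq_smul hω (_ + _ + _), Matrix.smul_mul, Matrix.mul_smul])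
      obtain ⟨x, z, hxz⟩ : ∃ x z : ZMod 3, (j' + -j) * x - z * (i' + -i) ≠ 0 := by
        have : ∀ q : Pt, q ≠ 0 → ∃ x z : ZMod 3, q.2 * x - z * q.1 ≠ 0 := by decide +kernel
        exact this _ hq
      have h5 := hH.mid_comm_of_nor hp cn cc rc (x, z)
      rw [mc, r2_comm hω] at h5
      simp only [zero_add] at h5
      have hne : r2 ω 0 x z * r2 ω (l + j * i + j' * -i) (i' + -i) (j' + -j) ≠ (0 : M3' K) := by
        rw [r2_mul hω]
        intro h0
        have := congrFun (congrFun h0 (x + (i' + -i))) 0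
        rw [r2_apply, if_pos (zero_add _).symm] at this
        exact wp_ne_zero hω _ this
      have h6 := h5.trans (one_smul K _).symm
      exact hxz (wp_injective hω ((smul_left_injective K hne h6).trans wp_zero.symm))
  obtain ⟨c, i, j, ec⟩ := eq_smul_r2 hω triv
  by_cases h0 : i = 0 ∧ j = 0
  · refine hH.nor_of_mid hp hS hkH hkc hkr (q := (1, 0)) (by decide) ?_
    rw [← hy, ec, h0.1, h0.2, r2_one, Matrix.smul_mul, Matrix.mul_smul, one_mul, mul_one]
  · refine hH.nor_of_mid hp hS hkH hkc hkr (q := (i, j)) (fun h => h0 (Prod.ext_iff.1 h)) ?_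
    rw [← hy, ec, Matrix.smul_mul, Matrix.mul_smul]

end Amb

end CfsgLib.Classical.QutritU
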