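import Cfsg.Agent.Lib.Classical.QutritU.Small.TwoCentS
import Mathlib.LinearAlgebra.Matrix.Rank

/-!
# The centraliser of the negation normalises over the field with four elements
-/

set_option autoImplicit false
set_option linter.unusedSectionVars false
set_option linter.unusedSimpArgs false
set_option linter.style.haveILetI false

namespace CfsgLib.Classical.QutritU

open Matrix CfsgLib.Classical.QutritMax

variable {K : Type*} [Field K] {σ : K →+* K} {ω : K} {p : ℕ} {H : Subgroup (M9 K)ˣ}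

/-- Representatives of the points up to sign. -/
def repPt : Fin 4 → Pt := ![(0, 1), (1, 0), (1, 1), (1, 2)]

/-- The class of a point up to sign. -/
def idxPt (i : Pt) : Fin 4 := if i.1 = 0 then 0 else if i.2 = 0 then 1 else if i.1 = i.2 then 2 else 3

theorem idx_table : ∀ i : Pt, i ≠ 0 → i = repPt (idxPt i) ∨ i = -repPt (idxPt i) := by decide +kernel

theorem negPt_fix : ∀ v : Pt, Equiv.neg Pt v = v ↔ v = 0 := by decide +kernel

/-- The support of the centre of the reflection on the moved space. -/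
def wSet (i : Pt) : Bool := decide (i.1 ≠ 0 ∧ i.2 ≠ 0)

/-- The centre of the reflection on the moved space. -/
def wVec : Pt → K := fun i => if wSet i then 1 else 0

/-- A symmetric vector with a given pattern. -/
def patSet (P : Fin 4 → Bool) (i : Pt) : Bool := decide (i ≠ 0) && P (idxPt i)

set_option synthInstance.maxSize 2000 in
set_option maxRecDepth 4000 in
theorem pair_table : ∀ P : Fin 4 → Bool, P ≠ (fun _ => false) → P ≠ (fun _ => true) →
    ((if P 0 then 1 else 0) + (if P 1 then 1 else 0) + (if P 2 then 1 else 0) + (if P 3 then 1 else 0) : ℕ) % 2 = 0 →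
    ∃ a b c d : ZMod 3, a * d - b * c ≠ 0 ∧ ∀ i, patSet P (linFun a b c d i) = wSet i := by
  decide +kernel

theorem phase_table : ∀ e : Fin 4 → ZMod 3, ∃ c₃ c₄ c₅ k : ZMod 3,
    ∀ i : Pt, i ≠ 0 → c₃ * (i.1 * i.1) + c₄ * (i.1 * i.2) + c₅ * (i.2 * i.2) = e (idxPt i) + k := by
  decide +kernel

/-- The number of the four translates of a point meeting another one. -/
def cnt (i j : Pt) : ℕ :=
  (if i = flA j then 1 else 0) + (if i = flA (-j) then 1 else 0) + (if i = j then 1 else 0) +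
    (if i = -j then 1 else 0)

theorem cnt_table : ∀ i j : Pt, cnt i j % 2 = if wSet i && wSet j then 1 else 0 := by decide +kernel

theorem mid_zero (h2 : (2 : K) = 0) {g k : M9 K} (hg : Commute g (pm (Equiv.neg Pt)))
    (hk : Commute k (pm (Equiv.neg Pt))) : (g * k) 0 0 = g 0 0 * k 0 0 := by
  rw [mid_mul h2 negPt_sq hg hk (by simp) (by simp), Finset.sum_eq_single 0]
  · intro b hb hb0
    exact absurd ((negPt_fix b).1 (Finset.mem_filter.1 hb).2) hb0
  · intro h; exact absurd (Finset.mem_filter.2 ⟨Finset.mem_univ _, by simp⟩) h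

theorem refl_sub (h2 : (2 : K) = 0) :
    ((pm flA - 1) * (1 + pm (Equiv.neg Pt)) : M9 K) = vecMulVec wVec wVec := by
  ext i j
  have hneg : ∀ x : K, -x = x := fun x => by linear_combination -x * h2
  have e : ((pm flA - 1) * (1 + pm (Equiv.neg Pt)) : M9 K) i j = (cnt i j : K) := by
    rw [mul_add, mul_one, Matrix.add_apply, mul_pm_apply, Matrix.sub_apply, Matrix.sub_apply, pm_apply, pm_apply,
      Matrix.one_apply, Matrix.one_apply, cnt]
    simp only [sub_eq_add_neg, hneg, Nat.cast_add, Nat.cast_ite, Nat.cast_one, Nat.cast_zero, Equiv.neg_apply]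
    ring
  rw [e, ← Nat.mod_add_div (cnt i j) 2, Nat.cast_add, Nat.cast_mul, Nat.cast_ofNat, h2, zero_mul, add_zero,
    cnt_table, vecMulVec_apply]
  simp only [wVec]
  cases wSet i <;> cases wSet j <;> simp

theorem rank_refl_le (h2 : (2 : K) = 0) : ((pm flA : M9 K) - 1).rank ≤ 3 := by
  have hneg : ∀ x : K, -x = x := fun x => by linear_combination -x * h2
  have e : (pm flA : M9 K) - 1 = (of fun (i : Pt) (a : ZMod 3) => if i.1 = a ∧ i.2 ≠ 0 then (1 : K) else 0) *
      (of fun (a : ZMod 3) (j : Pt) => if j.1 = a ∧ j.2 ≠ 0 then (1 : K) else 0) := by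
    ext ⟨a, b⟩ ⟨c, d⟩
    rw [Matrix.sub_apply, pm_apply, Matrix.one_apply, flA_apply, Matrix.mul_apply, Finset.sum_eq_single a]
    · simp only [of_apply, Prod.mk.injEq]
      by_cases e : a = c
      · subst e
        rcases zmod3_cases b with rfl | rfl | rfl <;> rcases zmod3_cases d with rfl | rfl | rfl <;>
          simp +decide [sub_eq_add_neg, hneg]
      · simp [e, Ne.symm e]
    · intro y _ hy; simp [Ne.symm hy]
    · simp
  rw [e]
  refine (rank_mul_le_left _ _).trans ((rank_le_card_width _).trans ?_)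
  rw [ZMod.card]

theorem four_le_rank_neg (h2 : (2 : K) = 0) : 4 ≤ ((pm (Equiv.neg Pt) : M9 K) - 1).rank := by
  have hneg : ∀ x : K, -x = x := fun x => by linear_combination -x * h2
  obtain ⟨L, hL⟩ : ∃ L : Matrix (Fin 4) Pt K, L = of fun a i => if i = repPt a then 1 else 0 := ⟨_, rfl⟩
  obtain ⟨R, hR⟩ : ∃ R : Matrix Pt (Fin 4) K, R = of fun i a => if i = repPt a then 1 else 0 := ⟨_, rfl⟩
  have e : L * ((pm (Equiv.neg Pt) : M9 K) - 1) * R = 1 := by
    ext a b
    simp only [hL, hR, Matrix.mul_apply, of_apply, ite_mul, one_mul, zero_mul, mul_ite, mul_one, mul_zero,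
      Finset.sum_ite_eq', Finset.mem_univ, if_true, Matrix.sub_apply, pm_apply, Matrix.one_apply, Equiv.neg_apply]
    have t : ∀ a b : Fin 4, ¬(repPt a = -repPt b) ∧ (repPt a = repPt b ↔ a = b) := by decide +kernel
    rw [if_neg (t a b).1, zero_sub, hneg]
    exact if_congr (t a b).2 rfl rfl
  calc 4 = (1 : Matrix (Fin 4) (Fin 4) K).rank := by simp
    _ ≤ (L * ((pm (Equiv.neg Pt) : M9 K) - 1)).rank := e ▸ rank_mul_le_left _ _
    _ ≤ _ := rank_mul_le_right _ _

namespace Amb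

variable (hH : Amb σ ω p H) [Finite K]
include hH

theorem not_conj (hp : p = 2) {g s z : (M9 K)ˣ} (es : (s : M9 K) = pm flA)
    (ez : (z : M9 K) = pm (Equiv.neg Pt)) : g * s * g⁻¹ ≠ z := by
  intro e
  have e' : (z : M9 K) - 1 = (g : M9 K) * ((s : M9 K) - 1) * ((g⁻¹ : (M9 K)ˣ) : M9 K) := by
    rw [mul_sub, sub_mul, mul_one, Units.mul_inv, ← Units.val_mul g s, ← Units.val_mul, e]
  have h4 := four_le_rank_neg (hH.two_eq hp)
  rw [← ez, e'] at h4
  have h3 := rank_refl_le (hH.two_eq hp)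
  rw [← es] at h3
  have := (rank_mul_le_left ((g : M9 K) * ((s : M9 K) - 1)) ((g⁻¹ : (M9 K)ˣ) : M9 K)).trans (rank_mul_le_right _ _)
  omega

/-- The two standard involutions. -/
theorem exists_pair (hp : p = 2) : ∃ s ∈ hH.norH, ∃ z ∈ hH.norH, s * s = 1 ∧ ((s : (M9 K)ˣ) : M9 K) = pm flA ∧
    z * z = 1 ∧ ((z : (M9 K)ˣ) : M9 K) = pm (Equiv.neg Pt) ∧ s * z = z * s ∧ s ≠ 1 := by
  obtain ⟨s, hs, hss, es⟩ := hH.exists_invol hp flA_add flA_sq
  obtain ⟨z, hz, hzz, ez⟩ := hH.exists_invol hp negPt_add negPt_sq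
  refine ⟨s, hs, z, hz, hss, es, hzz, ez, Units.ext ?_, fun h => ?_⟩
  · rw [Units.val_mul, Units.val_mul, es, ez, pm_mul, pm_mul]
    congr 1
  · rw [h, Units.val_one] at es
    have := congrFun (congrFun es (0, 1)) (0, 2)
    simp +decide [pm_apply, flA_apply, Matrix.one_apply] at this

/-- Members moving the reflection into the normaliser normalise. -/
theorem conj_s (hp : p = 2) (hS : SM ω H) {s x : (M9 K)ˣ} (hs : s ∈ hH.norH) (hss : s * s = 1)
    (es : (s : M9 K) = pm flA) (hx : x ∈ H) (h : x * s * x⁻¹ ∈ hH.norH) : x ∈ hH.norH := by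
  obtain ⟨s', -, z, hz, -, es', hzz, ez, -, hs1⟩ := hH.exists_pair hp
  obtain rfl : s' = s := Units.ext (es'.trans es.symm)
  obtain ⟨n, hn, e | e⟩ := hH.invol_cases hp h (by rw [conj_mul, hss]; group) (fun e => hs1 (conj_eq_one_iff.1 e))
    hs hss es hz hzz ez
  · have e1 : (n⁻¹ * x) * s' = s' * (n⁻¹ * x) := by
      calc n⁻¹ * x * s' = n⁻¹ * (x * s' * x⁻¹) * x := by group
        _ = s' * (n⁻¹ * x) := by rw [← e]; group
    have := hH.cent_s hp hS (mul_mem (inv_mem hn.1) hx) (by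
      rw [Commute, SemiconjBy, ← es, ← Units.val_mul, e1, Units.val_mul])
    have := mul_mem hn this
    rwa [mul_inv_cancel_left] at this
  · refine absurd ?_ (hH.not_conj hp (g := n⁻¹ * x) es ez)
    calc n⁻¹ * x * s' * (n⁻¹ * x)⁻¹ = n⁻¹ * (x * s' * x⁻¹) * n := by group
      _ = z := by rw [← e]; group

/-- The flag kernel of the negation normalises. -/
theorem flat_le_neg (hp : p = 2) (hS : SM ω H) : flatKer (hH.two_eq hp) negPt_sq H ≤ hH.norH := by
  have h2 := hH.two_eq hp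
  haveI := hH.finite
  obtain ⟨s, hs, z, -, hss, es, -, ez, hsz, -⟩ := hH.exists_pair hp
  by_contra hne
  have hsi : s⁻¹ = s := inv_eq_of_mul_eq_one_right hss
  have cs : Commute (s : M9 K) (pm (Equiv.neg Pt)) := by
    rw [← ez, Commute, SemiconjBy, ← Units.val_mul, hsz, Units.val_mul]
  have hn : ∀ x ∈ flatKer h2 negPt_sq H, s * x * s⁻¹ ∈ flatKer h2 negPt_sq H := fun x hx => by
    refine ⟨mul_mem (mul_mem hs.1 hx.1) (inv_mem hs.1), ?_⟩
    rw [hsi, Units.val_mul, Units.val_mul]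
    refine ⟨(cs.mul_left hx.2.comm).mul_left cs, (tr_iff h2 negPt_sq).2 ?_, fun i j hi hj => ?_⟩
    · rw [mul_assoc, ((Commute.one_right _).add_right cs).eq, ← mul_assoc, mul_assoc (s : M9 K),
        (tr_iff h2 negPt_sq).1 hx.2.tr, ((Commute.one_right _).add_right cs).eq, mul_assoc, ← Units.val_mul, hss,
        Units.val_one, mul_one]
    · obtain rfl := (negPt_fix i).1 hi
      obtain rfl := (negPt_fix j).1 hj
      have h0 := hx.2.mid 0 0 (by simp) (by simp)
      rw [Matrix.sub_apply] at h0 ⊢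
      rw [mid_zero h2 (cs.mul_left hx.2.comm) cs, mid_zero h2 cs hx.2.comm, es]
      rw [pm_apply, if_pos (by decide), one_mul, mul_one]; exact h0
  obtain ⟨k, hk, hkN, hw⟩ := exists_coset_invol (flatKer_pGroup h2 negPt_sq H) hss hs hn hne
  refine hkN ?_
  have := hH.conj_s hp hS hs hss es (inv_mem hk.1) (by rwa [inv_inv])
  simpa using inv_mem this

/-- The vectors to which the centre of the reflection moves. -/
def Reach (hH : Amb σ ω p H) (v : Pt → K) : Prop :=
  ∃ m ∈ hH.norH, Commute ((m : (M9 K)ˣ) : M9 K) (pm (Equiv.neg Pt)) ∧ ∃ c : K, c ≠ 0 ∧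
    ((m : (M9 K)ˣ) : M9 K) *ᵥ wVec = c • v

theorem reach_step {v v' : Pt → K} (h : hH.Reach v) {M : M9 K} (hM : In H M) (hn : Nor ω M)
    (hc : Commute M (pm (Equiv.neg Pt))) {d : K} (hd : d ≠ 0) (e : M *ᵥ v = d • v') : hH.Reach v' := by
  obtain ⟨m, hm, hmc, c, hc0, em⟩ := h
  obtain ⟨n, hn', rfl⟩ := hH.exists_norH hM hn
  exact ⟨n * m, mul_mem hn' hm, by rw [Units.val_mul]; exact hc.mul_left hmc, c * d, mul_ne_zero hc0 hd, by
    rw [Units.val_mul, ← mulVec_mulVec, em, mulVec_smul, e, smul_smul]⟩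

theorem reach_lin (hp : p = 2) {a b c d : ZMod 3} (hd : a * d - b * c ≠ 0) {v v' : Pt → K} (h : hH.Reach v)
    (e : ∀ i, v' (linFun a b c d i) = v i) : hH.Reach v' := by
  have hπ := linEquiv_add a b c d hd
  refine hH.reach_step h (hH.in_perm hp hπ) (nor_pm hH.root hπ) ?_ one_ne_zero ?_
  · rw [Commute, SemiconjBy, pm_mul, pm_mul]
    congr 1
    ext i <;> simp [linEquiv, linFun, add_comm]
  · funext i
    obtain ⟨j, rfl⟩ := (linEquiv a b c d hd).surjective i
    rw [mulVec, dotProduct, Finset.sum_eq_single j]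
    · simpa [pm_apply, linEquiv] using (e j).symm
    · intro y _ hy
      rw [pm_apply, if_neg fun q => hy ((linEquiv a b c d hd).injective q).symm, zero_mul]
    · simp

theorem reach_full (hp : p = 2) : hH.Reach fun i : Pt => if i ≠ 0 then (1 : K) else 0 := by
  have hω := hH.root
  have h2 := hH.two_eq hp
  have h0 : hH.Reach wVec := ⟨1, one_mem _, by simp, 1, one_ne_zero, by simp⟩
  have h1 : hH.Reach fun i : Pt => if patSet ![true, true, false, false] i then (1 : K) else 0 := by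
    obtain ⟨a, b, c, d, hd, e⟩ := pair_table ![true, true, false, false] (by decide) (by decide) (by decide)
    exact hH.reach_lin hp hd h0 fun i => by simp only [wVec, e i]
  refine hH.reach_step h1 hH.in_F3 (nor_blk hω (nor3_F3 hω)) ?_ (inv_ne_zero (s_ne hω)) ?_
  · ext ⟨a, b⟩ ⟨c, d⟩
    rw [mul_pm_apply, pm_mul_apply]
    simp [blk_apply, F3, neg_eq_iff_eq_neg, Matrix.one_apply]
  · funext ⟨x, y⟩
    rw [mulVec, dotProduct, Fintype.sum_prod_type]
    rcases zmod3_cases x with rfl | rfl | rfl <;> rcases zmod3_cases y with rfl | rfl | rfl <;>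
      simp +decide [sum3, blk_apply, F3, patSet, idxPt, wp_zero, wp_one, wp_two, show (2 : ZMod 3) * 2 = 1 by decide] <;>
      first
      | linear_combination (ω - ω * ω)⁻¹ * h2
      | linear_combination (ω - ω * ω)⁻¹ * (hω.eq - h2)
      | linear_combination (ω - ω * ω)⁻¹ * hω.eq
      | linear_combination (ω - ω * ω)⁻¹ * (hω.eq + ω * h2)

/-- Isotropic symmetric vectors are reached. -/
theorem reach_of_iso (hp : p = 2) {v : Pt → K} (hv : ∀ i, v (-i) = v i) (h0 : v 0 = 0) (hne : v ≠ 0)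
    (hiso : ∑ a, σ (v (repPt a)) * v (repPt a) = 0) : hH.Reach v := by
  classical
  have hω := hH.root
  have h2 := hH.two_eq hp
  have hrep : ∀ i, i ≠ 0 → v i = v (repPt (idxPt i)) := fun i hi => by
    rcases idx_table i hi with e | e
    · rw [← e]
    · conv_lhs => rw [e, hv]
  obtain ⟨P, hP⟩ : ∃ P : Fin 4 → Bool, ∀ a, P a = decide (v (repPt a) ≠ 0) := ⟨_, fun _ => rfl⟩
  have he : ∀ a, ∃ e : ZMod 3, v (repPt a) ≠ 0 → v (repPt a) = wp ω e := fun a => by
    by_cases h : v (repPt a) = 0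
    · exact ⟨0, fun q => absurd h q⟩
    · obtain ⟨k, hk⟩ := hH.eq_wp_of_ne hp h
      exact ⟨k, fun _ => hk⟩
  choose e he using he
  have hs : ∀ a, σ (v (repPt a)) * v (repPt a) = ((if P a then 1 else 0 : ℕ) : K) := fun a => by
    rw [hP]
    by_cases h : v (repPt a) = 0
    · simp [h]
    · rw [hH.norm_of_ne hp h]; simp [h]
  have hev : ((if P 0 then 1 else 0) + (if P 1 then 1 else 0) + (if P 2 then 1 else 0) + (if P 3 then 1 else 0) : ℕ)
      % 2 = 0 := by
    simp only [Fin.sum_univ_four, hs, ← Nat.cast_add] at hiso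
    haveI := hH.char
    have := (CharP.cast_eq_zero_iff K p _).1 hiso
    rw [hp] at this
    exact Nat.mod_eq_zero_of_dvd this
  have hu : hH.Reach fun i => if patSet P i then (1 : K) else 0 := by
    have h0' : hH.Reach wVec := ⟨1, one_mem _, by simp, 1, one_ne_zero, by simp⟩
    by_cases hfull : P = fun _ => true
    · simpa [hfull, patSet] using hH.reach_full hp
    · obtain ⟨a, b, c, d, hd, et⟩ := pair_table P (fun hf => hne (funext fun i => by
        by_cases hi : i = 0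
        · rw [hi, h0]; rfl
        · have := hP (idxPt i)
          rw [hf, eq_comm, decide_eq_false_iff_not, not_not] at this
          rw [hrep i hi, this]; rfl)) hfull hev
      exact hH.reach_lin hp hd h0' fun i => by simp only [wVec, et i]
  obtain ⟨c₃, c₄, c₅, k, hf⟩ := phase_table e
  obtain ⟨f, hfd⟩ : ∃ f : Pt → ZMod 3,
      f = fun w : Pt => c₃ * (w.1 * w.1) + c₄ * (w.1 * w.2) + c₅ * (w.2 * w.2) := ⟨_, rfl⟩
  have hq : Quadr f := ⟨0, 0, 0, c₃, c₄, c₅, by rw [hfd]; funext w; ring⟩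
  refine hH.reach_step hu (hH.in_dg hq) (nor_dg hω hq) ?_ (wp_ne_zero hω k) ?_
  · rw [Commute, SemiconjBy, pm_mul_dg]
    congr 2
    funext w
    simp [hfd]
  · funext i
    rw [dg, mulVec_diagonal, Pi.smul_apply, smul_eq_mul]
    by_cases hi : i = 0
    · simp [hi, h0, patSet]
    · have hval : patSet P i = decide (v (repPt (idxPt i)) ≠ 0) := by simp [patSet, hi, hP]
      rw [hrep i hi, hval]
      by_cases hz : v (repPt (idxPt i)) = 0
      · simp [hz]
      · rw [show f i = e (idxPt i) + k by rw [hfd]; exact hf i hi, wp_add hω, he _ hz]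
        simp [wp_ne_zero hω]
        ring

theorem conj_refl_vec (hp : p = 2) {g s : (M9 K)ˣ} (hg : g ∈ H) (hc : Commute (g : M9 K) (pm (Equiv.neg Pt)))
    (es : (s : M9 K) = pm flA) :
    ((g * s * g⁻¹ : (M9 K)ˣ) : M9 K) * (1 + pm (Equiv.neg Pt)) =
      1 + pm (Equiv.neg Pt) + vecMulVec ((g : M9 K) *ᵥ wVec) (σ ∘ ((g : M9 K) *ᵥ wVec)) := by
  have h2 := hH.two_eq hp
  have cQ : Commute ((g⁻¹ : (M9 K)ˣ) : M9 K) (1 + pm (Equiv.neg Pt)) :=
    (Commute.one_right _).add_right hc.units_inv_left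
  have cg : Commute (g : M9 K) (1 + pm (Equiv.neg Pt)) := (Commute.one_right _).add_right hc
  have e1 : (s : M9 K) * (1 + pm (Equiv.neg Pt)) = 1 + pm (Equiv.neg Pt) + vecMulVec wVec wVec := by
    rw [← refl_sub h2, es, sub_mul, one_mul, add_sub_cancel]
  rw [Units.val_mul, Units.val_mul, mul_assoc, cQ.eq, ← mul_assoc, mul_assoc (g : M9 K), e1, mul_add, add_mul,
    cg.eq, mul_assoc (1 + pm (Equiv.neg Pt)), Units.mul_inv, mul_one, mul_vecMulVec, vecMulVec_mul,
    (hH.u9_of hg).inv]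
  congr 2
  funext j
  simp only [vecMul, dotProduct, Function.comp_apply, mulVec, adj9, transpose_apply, map_apply, map_sum, map_mul,
    wVec, apply_ite σ, map_one, map_zero]
  exact Finset.sum_congr rfl fun i _ => mul_comm _ _

/-- The centraliser of the negation normalises. -/
theorem cent_z (hp : p = 2) (hS : SM ω H) {g : (M9 K)ˣ} (hg : g ∈ H)
    (hc : Commute (g : M9 K) (pm (Equiv.neg Pt))) : g ∈ hH.norH := by
  classical
  have hω := hH.root
  have h2 := hH.two_eq hp
  obtain ⟨s, hs, z, hz, hss, es, hzz, ez, hsz, -⟩ := hH.exists_pair hp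
  obtain ⟨v, hv⟩ : ∃ v, v = (g : M9 K) *ᵥ wVec := ⟨_, rfl⟩
  obtain ⟨e, he⟩ : ∃ e : Pt → K, e = fun i => if i = (1, 1) ∨ i = (1, 2) then 1 else 0 := ⟨_, rfl⟩
  obtain ⟨u, hu⟩ : ∃ u, u = (g : M9 K) *ᵥ e := ⟨_, rfl⟩
  have hQ : ∀ (x : Pt → K) i, ((1 + pm (Equiv.neg Pt) : M9 K) *ᵥ x) i = x i + x (-i) := fun x i => by
    rw [add_mulVec, one_mulVec, Pi.add_apply, mulVec, dotProduct, Finset.sum_eq_single (-i)]
    · simp [pm_apply]
    · intro y _ hy
      rw [pm_apply, if_neg fun q => hy (by rw [q]; simp), zero_mul]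
    · simp
  have hwe : wVec = (1 + pm (Equiv.neg Pt) : M9 K) *ᵥ e := by
    funext i
    rw [hQ, he]
    have t : ∀ i : Pt, (wSet i = true ↔ (i = (1, 1) ∨ i = (1, 2)) ∨ (-i = (1, 1) ∨ -i = (1, 2))) ∧
        ¬((i = (1, 1) ∨ i = (1, 2)) ∧ (-i = (1, 1) ∨ -i = (1, 2))) := by decide +kernel
    obtain ⟨t1, t2⟩ := t i
    simp only [wVec]
    by_cases a : i = (1, 1) ∨ i = (1, 2)
    · rw [if_pos (t1.2 (.inl a)), if_pos a, if_neg fun b => t2 ⟨a, b⟩, add_zero]
    · by_cases b : -i = (1, 1) ∨ -i = (1, 2)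
      · rw [if_pos (t1.2 (.inr b)), if_neg a, if_pos b, zero_add]
      · rw [if_neg fun q => (t1.1 q).elim a b, if_neg a, if_neg b, add_zero]
  have hvu : ∀ i, v i = u i + u (-i) := fun i => by
    rw [hv, hwe, mulVec_mulVec, ((Commute.one_right _).add_right hc).eq, ← mulVec_mulVec, ← hu, hQ]
  have hiso : ∑ a, σ (v (repPt a)) * v (repPt a) = 0 := by
    have h1 : (σ ∘ v) ⬝ᵥ u = 0 := by
      have e1 : σ ∘ v = wVec ᵥ* adj9 σ (g : M9 K) := by
        funext j
        simp only [hv, vecMul, dotProduct, Function.comp_apply, mulVec, adj9, transpose_apply, map_apply, map_sum,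
          map_mul, wVec, apply_ite σ, map_one, map_zero]
        exact Finset.sum_congr rfl fun i _ => mul_comm _ _
      rw [e1, hu, ← dotProduct_mulVec, mulVec_mulVec, hH.u9_of hg, one_mulVec, he, dotProduct,
        Fintype.sum_prod_type]
      simp +decide [sum3, wVec, wSet]
      linear_combination h2
    rw [dotProduct, Fintype.sum_prod_type] at h1
    simp only [sum3, Function.comp_apply] at h1
    have v0 : v (0, 0) = 0 := by
      rw [hvu]; simp only [Prod.neg_mk, neg_zero]; linear_combination u (0, 0) * h2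
    have n1 : -((0 : ZMod 3), (1 : ZMod 3)) = (0, 2) := by decide
    have n2 : -((1 : ZMod 3), (0 : ZMod 3)) = (2, 0) := by decide
    have n3 : -((1 : ZMod 3), (1 : ZMod 3)) = (2, 2) := by decide
    have n4 : -((1 : ZMod 3), (2 : ZMod 3)) = (2, 1) := by decide
    have s1 : v (0, 2) = v (0, 1) := by rw [hvu, hvu, ← n1, neg_neg, add_comm]
    have s2 : v (2, 0) = v (1, 0) := by rw [hvu, hvu, ← n2, neg_neg, add_comm]
    have s3 : v (2, 2) = v (1, 1) := by rw [hvu, hvu, ← n3, neg_neg, add_comm]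
    have s4 : v (2, 1) = v (1, 2) := by rw [hvu, hvu, ← n4, neg_neg, add_comm]
    have a1 := hvu (0, 1)
    have a2 := hvu (1, 0)
    have a3 := hvu (1, 1)
    have a4 := hvu (1, 2)
    rw [n1] at a1
    rw [n2] at a2
    rw [n3] at a3
    rw [n4] at a4
    rw [v0, map_zero, s1, s2, s3, s4] at h1
    simp only [Fin.sum_univ_four, repPt, Matrix.cons_val]
    linear_combination h1 + σ (v (0, 1)) * a1 + σ (v (1, 0)) * a2 + σ (v (1, 1)) * a3 + σ (v (1, 2)) * a4
  have hne : v ≠ 0 := fun h0 => by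
    have h1 : ((g⁻¹ : (M9 K)ˣ) : M9 K) *ᵥ v = wVec := by rw [hv, mulVec_mulVec, Units.inv_mul, one_mulVec]
    have := congrFun h1 (1, 1)
    rw [h0, mulVec_zero] at this
    simp +decide [wVec, wSet] at this
  obtain ⟨m, hm, hmc, c, hc0, em⟩ := hH.reach_of_iso hp
    (fun i => by rw [hvu, hvu, neg_neg, add_comm]) (by rw [hvu, neg_zero]; linear_combination u 0 * h2) hne hiso
  obtain ⟨a, ha⟩ : ∃ a, a = m * s * m⁻¹ := ⟨_, rfl⟩
  obtain ⟨b, hb⟩ : ∃ b, b = g * s * g⁻¹ := ⟨_, rfl⟩
  have haN : a ∈ hH.norH := ha ▸ mul_mem (mul_mem hm hs) (inv_mem hm)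
  have hbH : b ∈ H := hb ▸ mul_mem (mul_mem hg hs.1) (inv_mem hg)
  have eab : (a : M9 K) * (1 + pm (Equiv.neg Pt)) = (b : M9 K) * (1 + pm (Equiv.neg Pt)) := by
    rw [ha, hb, hH.conj_refl_vec hp hm.1 hmc es, hH.conj_refl_vec hp hg hc es, em, ← hv]
    congr 1
    ext i j
    simp only [vecMulVec_apply, Function.comp_apply, Pi.smul_apply, smul_eq_mul, map_mul]
    linear_combination v i * σ (v j) * hH.norm_of_ne hp hc0
  have cs : Commute (s : M9 K) (pm (Equiv.neg Pt)) := by
    rw [← ez, Commute, SemiconjBy, ← Units.val_mul, hsz, Units.val_mul]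
  have cconj : ∀ {x : (M9 K)ˣ}, Commute (x : M9 K) (pm (Equiv.neg Pt)) →
      Commute ((x * s * x⁻¹ : (M9 K)ˣ) : M9 K) (pm (Equiv.neg Pt)) ∧
        ((x * s * x⁻¹ : (M9 K)ˣ) : M9 K) 0 0 = 1 := fun {x} hx => by
    rw [Units.val_mul, Units.val_mul]
    refine ⟨(hx.mul_left cs).mul_left hx.units_inv_left, ?_⟩
    rw [mid_zero h2 (hx.mul_left cs) hx.units_inv_left, mid_zero h2 hx cs, es, pm_apply, if_pos (by decide),
      mul_one, ← mid_zero h2 hx hx.units_inv_left, Units.mul_inv, Matrix.one_apply_eq]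
  have haa : a * a = 1 := by rw [ha, conj_mul, hss]; group
  have hy : a * b ∈ flatKer h2 negPt_sq H := by
    obtain ⟨ca, a0⟩ := cconj hmc
    obtain ⟨cb, b0⟩ := cconj hc
    rw [← ha] at ca a0
    rw [← hb] at cb b0
    refine ⟨mul_mem haN.1 hbH, ?_⟩
    rw [Units.val_mul]
    refine ⟨ca.mul_left cb, (tr_iff h2 negPt_sq).2 ?_, fun i j hi hj => ?_⟩
    · rw [mul_assoc, ← eab, ← mul_assoc, ← Units.val_mul, haa, Units.val_one, one_mul]
    · obtain rfl := (negPt_fix i).1 hi
      obtain rfl := (negPt_fix j).1 hj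
      rw [Matrix.sub_apply, mid_zero h2 ca cb, a0, b0, one_mul, Matrix.one_apply_eq, sub_self]
  have := mul_mem haN (hH.flat_le_neg hp hS hy)
  rw [← mul_assoc, haa, one_mul, hb] at this
  exact hH.conj_s hp hS hs hss es hg this

end Amb

end CfsgLib.Classical.QutritU
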