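import Cfsg.Agent.Lib.Classical.QutritU.Small.Base
import Cfsg.Agent.Lib.Classical.QutritU.TwoCols

/-!
# The flag of an involutive permutation over a field of two power order, and two lemmas on two-groups
-/

set_option autoImplicit false
set_option linter.unusedSectionVars false
set_option linter.unusedSimpArgs false

namespace CfsgLib.Classical.QutritU

open Matrix CfsgLib.Classical.QutritMax

/-! ## Groups -/

section Groups

variable {G : Type*} [Group G]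

/-- A coset of a two-group that is mapped to itself by an element of order three contains a fixed element. -/
theorem exists_fixed_coset {L : Subgroup G} [Finite L] (hL : IsPGroup 2 L) {v r : G} (hr : r ^ 3 = 1)
    (hn : ∀ x ∈ L, r * x * r⁻¹ ∈ L) (hv : v⁻¹ * (r * v * r⁻¹) ∈ L) :
    ∃ x ∈ L, r * (v * x) = (v * x) * r := by
  classical
  haveI : Fact (Nat.Prime 2) := ⟨Nat.prime_two⟩
  haveI : Fact (Nat.Prime 3) := ⟨Nat.prime_three⟩
  letI := Fintype.ofFinite L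
  have hmem : ∀ x : L, v⁻¹ * (r * (v * x) * r⁻¹) ∈ L := fun x => by
    have := mul_mem hv (hn _ x.2)
    convert this using 1
    group
  obtain ⟨f, hf⟩ : ∃ f : L → L, ∀ x, (f x : G) = v⁻¹ * (r * (v * x) * r⁻¹) :=
    ⟨fun x => ⟨_, hmem x⟩, fun _ => rfl⟩
  have h3 : ∀ x, f (f (f x)) = x := fun x => Subtype.ext (by
    rw [hf, hf, hf]
    calc v⁻¹ * (r * (v * (v⁻¹ * (r * (v * (v⁻¹ * (r * (v * (x : G)) * r⁻¹))) * r⁻¹))) * r⁻¹)
        = v⁻¹ * (r ^ 3 * (v * x) * (r ^ 3)⁻¹) := by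
              simp only [pow_succ, pow_zero, one_mul, _root_.mul_inv_rev, mul_assoc, mul_inv_cancel_left]
      _ = x := by rw [hr]; group)
  let e : Equiv.Perm L := ⟨f, fun x => f (f x), fun x => h3 x, fun x => h3 x⟩
  have he : e ^ (3 ^ 1) = 1 := Equiv.ext fun x => h3 x
  have hm := Equiv.Perm.card_compl_support_modEq he
  obtain ⟨n, hn'⟩ := IsPGroup.iff_card.1 hL
  rw [← Nat.card_eq_fintype_card, hn'] at hm
  obtain ⟨x, hx⟩ : e.supportᶜ.Nonempty := by
    rw [Finset.nonempty_iff_ne_empty]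
    intro h0
    rw [h0, Finset.card_empty] at hm
    have := Nat.prime_three.dvd_of_dvd_pow (Nat.modEq_zero_iff_dvd.1 hm.symm)
    omega
  have hx' : f x = x := by simpa [e] using hx
  refine ⟨x, x.2, ?_⟩
  have := congrArg Subtype.val hx'
  rw [hf, inv_mul_eq_iff_eq_mul, mul_inv_eq_iff_eq_mul] at this
  exact this

/-- An involution of `N` normalising a two-group outside `N` is moved into `N` by a member outside `N`. -/
theorem exists_coset_invol {K N : Subgroup G} [Finite K] (hK : IsPGroup 2 K) {s : G} (hs : s * s = 1) (hsN : s ∈ N)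
    (hn : ∀ x ∈ K, s * x * s⁻¹ ∈ K) (hne : ¬K ≤ N) : ∃ k ∈ K, k ∉ N ∧ k⁻¹ * s * k ∈ N := by
  classical
  haveI : Fact (Nat.Prime 2) := ⟨Nat.prime_two⟩
  letI := Fintype.ofFinite (K ⧸ N.subgroupOf K)
  obtain ⟨c, hc⟩ : ∃ c : K → K, ∀ x, (c x : G) = s * x * s⁻¹ := ⟨fun x => ⟨_, hn _ x.2⟩, fun _ => rfl⟩
  let f : K ⧸ N.subgroupOf K → K ⧸ N.subgroupOf K := Quotient.map' c fun x y hxy => by
    rw [QuotientGroup.leftRel_apply, Subgroup.mem_subgroupOf] at hxy ⊢
    have := mul_mem (mul_mem hsN hxy) (inv_mem hsN)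
    convert this using 1
    simp only [Subgroup.coe_mul, InvMemClass.coe_inv, hc]
    group
  have hf : ∀ q, f (f q) = q := fun q => QuotientGroup.induction_on q fun x => by
    show ((c (c x) : K) : K ⧸ N.subgroupOf K) = x
    congr 1
    refine Subtype.ext ?_
    rw [hc, hc, inv_eq_of_mul_eq_one_right hs, ← mul_assoc, ← mul_assoc, hs, mul_assoc, hs, one_mul, mul_one]
  let e : Equiv.Perm (K ⧸ N.subgroupOf K) := ⟨f, f, hf, hf⟩
  have he : e ^ (2 ^ 1) = 1 := Equiv.ext fun x => hf x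
  have hm := Equiv.Perm.card_compl_support_modEq he
  obtain ⟨n, hn'⟩ := IsPGroup.iff_card.1 hK
  obtain ⟨j, -, hj⟩ := (Nat.dvd_prime_pow Nat.prime_two).1 (hn' ▸ Subgroup.card_quotient_dvd_card (N.subgroupOf K))
  have h1 : ((1 : K) : K ⧸ N.subgroupOf K) ∈ e.supportᶜ := by
    rw [Finset.mem_compl, Equiv.Perm.notMem_support]
    show ((c 1 : K) : K ⧸ N.subgroupOf K) = _
    congr 1
    exact Subtype.ext (by rw [hc, Subgroup.coe_one, mul_one, mul_inv_cancel])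
  have hj0 : j ≠ 0 := fun h0 => hne fun x hx => by
    rw [h0, pow_zero] at hj
    haveI := (Nat.card_eq_one_iff_unique.1 hj).1
    have := QuotientGroup.eq.1 (Subsingleton.elim ((1 : K) : K ⧸ N.subgroupOf K) ((⟨x, hx⟩ : K) : K ⧸ N.subgroupOf K))
    rw [Subgroup.mem_subgroupOf, inv_one, one_mul] at this
    exact this
  rw [← Nat.card_eq_fintype_card, hj] at hm
  have h2 : 1 < e.supportᶜ.card := by
    have hpos := Finset.card_pos.2 ⟨_, h1⟩
    rcases Nat.lt_or_ge 1 e.supportᶜ.card with h | h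
    · exact h
    · rw [show e.supportᶜ.card = 1 by omega] at hm
      have h2 : (2 : ℕ) ∣ 2 ^ j := dvd_pow_self 2 hj0
      rw [Nat.ModEq, Nat.mod_eq_zero_of_dvd h2] at hm
      omega
  obtain ⟨q, hq, hq1⟩ := Finset.exists_mem_ne h2 ((1 : K) : K ⧸ N.subgroupOf K)
  obtain ⟨x, rfl⟩ := QuotientGroup.mk_surjective q
  rw [Finset.mem_compl, Equiv.Perm.notMem_support] at hq
  have hx : ((c x : K) : K ⧸ N.subgroupOf K) = x := hq
  rw [QuotientGroup.eq, Subgroup.mem_subgroupOf] at hx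
  refine ⟨x, x.2, fun hxN => hq1 (QuotientGroup.eq.2 ?_), ?_⟩
  · rw [Subgroup.mem_subgroupOf]; simpa using inv_mem hxN
  · have hs' := inv_eq_of_mul_eq_one_right hs
    simp only [Subgroup.coe_mul, InvMemClass.coe_inv, hc] at hx
    have := mul_mem hsN hx
    convert this using 1
    simp only [_root_.mul_inv_rev, inv_inv, hs', ← mul_assoc, hs, one_mul]

/-- A two-group acted on by two commuting automorphisms of order three, whose fixed members on the four lines lie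
in a subgroup, lies in this subgroup, when this is known for the kernel of a map to an elementary group. -/
theorem le_of_lines {M : Type*} [AddCommGroup M] (φ : G → M) (h2 : ∀ m : M, m + m = 0) {K L N : Subgroup G}
    [Finite G] (hK : IsPGroup 2 K) (hLK : L ≤ K) (hLN : L ≤ N) (hadd : ∀ x ∈ K, ∀ y ∈ K, φ (x * y) = φ x + φ y)
    (hker : ∀ x ∈ K, φ x = 0 → x ∈ L) {a b : G} (ha : a ^ 3 = 1) (hb : b ^ 3 = 1) (hab3 : (a * b) ^ 3 = 1)
    (haab3 : (a * a * b) ^ 3 = 1) (hab : ∀ x ∈ K, a * (b * x * b⁻¹) * a⁻¹ = b * (a * x * a⁻¹) * b⁻¹)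
    (hrK : ∀ x ∈ K, a * x * a⁻¹ ∈ K ∧ b * x * b⁻¹ ∈ K) (hrL : ∀ x ∈ L, a * x * a⁻¹ ∈ L ∧ b * x * b⁻¹ ∈ L)
    (hc : ∀ r, r = a ∨ r = b ∨ r = a * b ∨ r = a * a * b → ∀ x ∈ K, r * x = x * r → x ∈ N) : K ≤ N := by
  have h0 : φ (1 : G) = 0 := by simpa using hadd 1 (one_mem K) 1 (one_mem K)
  have hneg : ∀ w ∈ K, φ w⁻¹ = φ w := fun w hw => by
    have := hadd _ (inv_mem hw) _ hw
    rw [inv_mul_cancel, h0] at this
    exact add_right_cancel (this.symm.trans (h2 (φ w)).symm)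
  -- the average over one line
  have line : ∀ r, r = a ∨ r = b ∨ r = a * b ∨ r = a * a * b → r ^ 3 = 1 → (∀ x ∈ K, r * x * r⁻¹ ∈ K) →
      (∀ x ∈ L, r * x * r⁻¹ ∈ L) → ∀ v ∈ K,
      ∃ u ∈ K, u ∈ N ∧ φ u = φ v + φ (r * v * r⁻¹) + φ (r * (r * v * r⁻¹) * r⁻¹) := by
    intro r hmem hr3 hr hrL' v hv
    have c3 : r * (r * (r * v * r⁻¹) * r⁻¹) * r⁻¹ = v := by
      calc r * (r * (r * v * r⁻¹) * r⁻¹) * r⁻¹ = r ^ 3 * v * (r ^ 3)⁻¹ := by
              simp only [pow_succ, pow_zero, one_mul, _root_.mul_inv_rev, mul_assoc]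
        _ = v := by rw [hr3]; group
    have v1 := hr _ hv
    have v2 := hr _ v1
    have hwK : v * (r * v * r⁻¹) * (r * (r * v * r⁻¹) * r⁻¹) ∈ K := mul_mem (mul_mem hv v1) v2
    have e : φ (v * (r * v * r⁻¹) * (r * (r * v * r⁻¹) * r⁻¹)) =
        φ v + φ (r * v * r⁻¹) + φ (r * (r * v * r⁻¹) * r⁻¹) := by
      rw [hadd _ (mul_mem hv v1) _ v2, hadd _ hv _ v1]
    obtain ⟨w, hw⟩ : ∃ w, w = v * (r * v * r⁻¹) * (r * (r * v * r⁻¹) * r⁻¹) := ⟨_, rfl⟩
    rw [← hw] at hwK e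
    have ec : r * w * r⁻¹ = (r * v * r⁻¹) * (r * (r * v * r⁻¹) * r⁻¹) * v := by
      rw [hw, ← conj_mul, ← conj_mul, c3]
    have hfix : w⁻¹ * (r * w * r⁻¹) ∈ L := by
      refine hker _ (mul_mem (inv_mem hwK) (hr _ hwK)) ?_
      rw [hadd _ (inv_mem hwK) _ (hr _ hwK), hneg _ hwK, ec, hadd _ (mul_mem v1 v2) _ hv, hadd _ v1 _ v2, e,
        show φ (r * v * r⁻¹) + φ (r * (r * v * r⁻¹) * r⁻¹) + φ v =
          φ v + φ (r * v * r⁻¹) + φ (r * (r * v * r⁻¹) * r⁻¹) by abel, h2]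
    obtain ⟨x, hx, ex⟩ := exists_fixed_coset (hK.to_le hLK) hr3 hrL' hfix
    exact ⟨w, hwK, by simpa using mul_mem (hc r hmem _ (mul_mem hwK (hLK hx)) ex) (inv_mem (hLN hx)), e⟩
  obtain ⟨A, hA⟩ : ∃ A : G → G, ∀ x, A x = a * x * a⁻¹ := ⟨_, fun _ => rfl⟩
  obtain ⟨B, hB⟩ : ∃ B : G → G, ∀ x, B x = b * x * b⁻¹ := ⟨_, fun _ => rfl⟩
  have AK : ∀ x ∈ K, A x ∈ K := fun x hx => hA x ▸ (hrK x hx).1
  have BK : ∀ x ∈ K, B x ∈ K := fun x hx => hB x ▸ (hrK x hx).2
  have AB : ∀ x ∈ K, A (B x) = B (A x) := fun x hx => by rw [hA, hA, hB, hB]; exact hab x hx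
  have A3 : ∀ x, A (A (A x)) = x := fun x => by
    simp only [hA]
    calc a * (a * (a * x * a⁻¹) * a⁻¹) * a⁻¹ = a ^ 3 * x * (a ^ 3)⁻¹ := by
              simp only [pow_succ, pow_zero, one_mul, _root_.mul_inv_rev, mul_assoc]
      _ = x := by rw [ha]; group
  have C1 : ∀ x, (a * b) * x * (a * b)⁻¹ = A (B x) := fun x => by rw [hA, hB]; group
  have C2 : ∀ x, (a * a * b) * x * (a * a * b)⁻¹ = A (A (B x)) := fun x => by rw [hA, hA, hB]; group
  have na : ∀ x ∈ K, a * x * a⁻¹ ∈ K := fun x hx => (hrK x hx).1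
  have nb : ∀ x ∈ K, b * x * b⁻¹ ∈ K := fun x hx => (hrK x hx).2
  intro v hv
  obtain ⟨u₁, k₁, n₁, e₁⟩ := line a (.inl rfl) ha na (fun x hx => (hrL x hx).1) v hv
  obtain ⟨u₂, k₂, n₂, e₂⟩ := line b (.inr (.inl rfl)) hb nb (fun x hx => (hrL x hx).2) v hv
  obtain ⟨u₃, k₃, n₃, e₃⟩ := line (a * b) (.inr (.inr (.inl rfl))) hab3 (fun x hx => C1 x ▸ AK _ (BK _ hx))
    (fun x hx => by rw [C1, hA, hB]; exact (hrL _ (hrL x hx).2).1) v hv
  obtain ⟨u₄, k₄, n₄, e₄⟩ := line (a * a * b) (.inr (.inr (.inr rfl))) haab3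
    (fun x hx => C2 x ▸ AK _ (AK _ (BK _ hx)))
    (fun x hx => by rw [C2, hA, hA, hB]; exact (hrL _ (hrL _ (hrL x hx).2).1).1) v hv
  have v1 := BK _ hv
  have v2 := BK _ v1
  obtain ⟨u₅, hu₅⟩ : ∃ u₅, u₅ = v * B v * B (B v) := ⟨_, rfl⟩
  have k5 : u₅ ∈ K := hu₅ ▸ mul_mem (mul_mem hv v1) v2
  obtain ⟨u₆, k₆, n₆, e₆⟩ := line a (.inl rfl) ha na (fun x hx => (hrL x hx).1) u₅ k5
  simp only [C1, C2, ← hA, ← hB] at e₁ e₂ e₃ e₄ e₆
  have A_mul : ∀ x y, A (x * y) = A x * A y := fun x y => by simp only [hA]; group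
  have three : ∀ x ∈ K, ∀ y ∈ K, ∀ w ∈ K, φ (x * y * w) = φ x + φ y + φ w := fun x hx y hy w hw => by
    rw [hadd _ (mul_mem hx hy) _ hw, hadd _ hx _ hy]
  have z : φ (v⁻¹ * (u₁ * u₂ * u₃ * u₄ * u₆)) = 0 := by
    rw [hadd _ (inv_mem hv) _ (mul_mem (mul_mem (mul_mem (mul_mem k₁ k₂) k₃) k₄) k₆), hneg _ hv,
      hadd _ (mul_mem (mul_mem (mul_mem k₁ k₂) k₃) k₄) _ k₆, hadd _ (mul_mem (mul_mem k₁ k₂) k₃) _ k₄,
      three _ k₁ _ k₂ _ k₃, e₁, e₂, e₃, e₄, e₆, hu₅, A_mul, A_mul, A_mul, A_mul,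
      three _ hv _ v1 _ v2, three _ (AK _ hv) _ (AK _ v1) _ (AK _ v2),
      three _ (AK _ (AK _ hv)) _ (AK _ (AK _ v1)) _ (AK _ (AK _ v2)),
      ← AB _ (BK _ hv), ← AB _ (AK _ (BK _ hv)), ← AB _ (BK _ hv), A3]
    abel_nf
    simp only [show (6 : ℤ) = 3 * 2 from rfl, mul_smul, two_zsmul, h2, smul_zero, add_zero]
  have hP : u₁ * u₂ * u₃ * u₄ * u₆ ∈ N := mul_mem (mul_mem (mul_mem (mul_mem n₁ n₂) n₃) n₄) n₆
  have := hLN (hker _ (mul_mem (inv_mem hv) (mul_mem (mul_mem (mul_mem (mul_mem k₁ k₂) k₃) k₄) k₆)) z)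
  convert mul_mem hP (inv_mem this) using 1
  group

end Groups

/-! ## The flag -/

section Flag

variable {K : Type*} [Field K] {π : Equiv.Perm Pt}

theorem comm_apply {g : M9 K} (hg : Commute g (pm π)) (i j : Pt) : g (π i) (π j) = g i j := by
  have := congrFun (congrFun hg.eq (π i)) j
  rwa [mul_pm_apply, pm_mul_apply, Equiv.symm_apply_apply] at this

/-- Constant along the orbits of the permutation in each line. -/
def Tr (π : Equiv.Perm Pt) (U : M9 K) : Prop := ∀ i l, U i (π l) = U i l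

variable (h2 : (2 : K) = 0) (hπ : ∀ v, π (π v) = v)
include h2 hπ

theorem sum_fix (φ : Pt → K) (hφ : ∀ l, φ (π l) = φ l) : ∑ l, φ l = ∑ l with π l = l, φ l := by
  classical
  rw [← Finset.sum_filter_add_sum_filter_not Finset.univ (fun l => π l = l)]
  simp only [add_eq_left]
  refine Finset.sum_involution (fun l _ => π l) (fun l _ => ?_) (fun l hl _ => ?_) (fun l hl => ?_) fun l _ => hπ l
  · rw [hφ]; linear_combination φ l * h2
  · simpa using hl
  · simp only [Finset.mem_filter, Finset.mem_univ, true_and] at hl ⊢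
    rw [hπ]; exact fun e => hl e.symm

theorem tr_mul_apply {U V : M9 K} (hU : Tr π U) (i : Pt) {j : Pt} (hV : ∀ l, V (π l) j = V l j) :
    (U * V) i j = ∑ l with π l = l, U i l * V l j := by
  rw [Matrix.mul_apply]
  exact sum_fix h2 hπ _ fun l => by rw [hU, hV]

theorem mid_mul {g k : M9 K} (hg : Commute g (pm π)) (hk : Commute k (pm π)) {i j : Pt} (hi : π i = i)
    (hj : π j = j) : (g * k) i j = ∑ l with π l = l, g i l * k l j := by
  rw [Matrix.mul_apply]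
  refine sum_fix h2 hπ _ fun l => ?_
  have e1 := comm_apply hg i l
  have e2 := comm_apply hk l j
  rw [hi] at e1
  rw [hj] at e2
  rw [e1, e2]

theorem tr_iff {g : M9 K} : Tr π (g - 1) ↔ g * (1 + pm π) = 1 + pm π := by
  have key : ∀ i l, ((g - 1) * (1 + pm π) : M9 K) i l = (g - 1) i l + (g - 1) i (π l) := fun i l => by
    rw [mul_add, mul_one, Matrix.add_apply, mul_pm_apply]
  have e : (g - 1) * (1 + pm π) = g * (1 + pm π) - (1 + pm π) := by rw [sub_mul, one_mul]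
  rw [← sub_eq_zero, ← e]
  refine ⟨fun h => ?_, fun h i l => ?_⟩
  · ext i l
    rw [key, h i l, Matrix.zero_apply]
    linear_combination (g - 1) i l * h2
  · have := key i l
    rw [h, Matrix.zero_apply] at this
    linear_combination -(g - 1) i l * h2 - this

theorem tr_sub_apply {g : M9 K} (hg : Commute g (pm π)) {j : Pt} (hj : π j = j) (l : Pt) :
    (g - 1) (π l) j = (g - 1) l j := by
  have e := comm_apply hg l j
  rw [hj] at e
  rw [Matrix.sub_apply, Matrix.sub_apply, e, Matrix.one_apply, Matrix.one_apply]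
  congr 1
  exact if_congr ⟨fun h => π.injective (h.trans hj.symm), fun h => by rw [h, hj]⟩ rfl rfl

/-- Members of the kernel of the action on the flag. -/
structure Flat (π : Equiv.Perm Pt) (g : M9 K) : Prop where
  comm : Commute g (pm π)
  tr : Tr π (g - 1)
  mid : ∀ i j, π i = i → π j = j → (g - 1) i j = 0

theorem flat_col {g : M9 K} (hg : Commute g (pm π)) (ht : Tr π (g - 1)) (l j : Pt) :
    (g - 1) (π l) j = (g - 1) l j := by
  have h1 : ∀ l j, (1 : M9 K) (π l) (π j) = (1 : M9 K) l j := fun l j => by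
    rw [Matrix.one_apply, Matrix.one_apply]; exact if_congr π.injective.eq_iff rfl rfl
  have e : (g - 1) (π l) (π j) = (g - 1) l j := by
    rw [Matrix.sub_apply, Matrix.sub_apply, comm_apply hg, h1]
  rwa [ht] at e

theorem flat_mul_apply {g k : M9 K} (hg : Flat π g) (hk : Flat π k) (i j : Pt) :
    ((g - 1) * (k - 1)) i j = ∑ l with π l = l, (g - 1) i l * (k - 1) l j :=
  tr_mul_apply h2 hπ hg.tr i fun l => flat_col h2 hπ hk.comm hk.tr l j

theorem Flat.mul {g k : M9 K} (hg : Flat π g) (hk : Flat π k) : Flat π (g * k) := by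
  have e : g * k - 1 = (g - 1) + (k - 1) + (g - 1) * (k - 1) := by noncomm_ring
  refine ⟨hg.comm.mul_left hk.comm, fun i l => ?_, fun i j hi hj => ?_⟩
  · rw [e]
    simp only [Matrix.add_apply, flat_mul_apply h2 hπ hg hk]
    rw [hg.tr, hk.tr]
    congr 1
    exact Finset.sum_congr rfl fun l _ => by rw [hk.tr]
  · rw [e]
    simp only [Matrix.add_apply, flat_mul_apply h2 hπ hg hk, hg.mid i j hi hj, hk.mid i j hi hj, zero_add]
    exact Finset.sum_eq_zero fun l hl => by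
      rw [hg.mid i l hi (Finset.mem_filter.1 hl).2, zero_mul]

theorem flat_one : Flat π (1 : M9 K) :=
  ⟨Commute.one_left _, fun i l => by simp, fun i j _ _ => by simp⟩

theorem Flat.pow {g : M9 K} (hg : Flat π g) (n : ℕ) : Flat π (g ^ n) := by
  induction n with
  | zero => rw [pow_zero]; exact flat_one h2 hπ
  | succ n ih => rw [pow_succ]; exact ih.mul h2 hπ hg

theorem Flat.pow_four {g : M9 K} (hg : Flat π g) : g ^ 4 = 1 := by
  obtain ⟨U, hU⟩ : ∃ U, U = g - 1 := ⟨_, rfl⟩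
  have hUU := fun i j => flat_mul_apply h2 hπ hg hg i j
  have e3 : U * (U * U) = 0 := by
    ext i j
    rw [hU, tr_mul_apply h2 hπ hg.tr i (fun l => ?_), Matrix.zero_apply]
    · refine Finset.sum_eq_zero fun l hl => ?_
      rw [hUU, Finset.sum_eq_zero fun m hm => ?_, mul_zero]
      rw [hg.mid l m (Finset.mem_filter.1 hl).2 (Finset.mem_filter.1 hm).2, zero_mul]
    · rw [hUU, hUU]
      exact Finset.sum_congr rfl fun m _ => by rw [flat_col h2 hπ hg.comm hg.tr l m]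
  have hd : ∀ X : M9 K, X + X = 0 := fun X => by
    rw [← two_smul K X, h2, zero_smul]
  have hg' : g = 1 + U := by rw [hU]; abel
  have e2 : ∀ X : M9 K, (1 + X) * (1 + X) = 1 + X * X := fun X => by
    rw [mul_add, add_mul, add_mul, one_mul, mul_one, one_mul, add_assoc, ← add_assoc X, hd, zero_add]
  rw [show (4 : ℕ) = 2 * 2 from rfl, pow_mul, pow_two, pow_two, hg', e2, e2, mul_assoc, e3, mul_zero, add_zero]

end Flag

/-- The kernel of the action on the flag, as a subgroup. -/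
def flatKer {K : Type*} [Field K] (h2 : (2 : K) = 0) {π : Equiv.Perm Pt} (hπ : ∀ v, π (π v) = v)
    (H : Subgroup (M9 K)ˣ) : Subgroup (M9 K)ˣ where
  carrier := {g | g ∈ H ∧ Flat π (g : M9 K)}
  one_mem' := ⟨one_mem H, by rw [Units.val_one]; exact flat_one h2 hπ⟩
  mul_mem' := fun {g k} hg hk => ⟨mul_mem hg.1 hk.1, by rw [Units.val_mul]; exact hg.2.mul h2 hπ hk.2⟩
  inv_mem' := fun {g} hg => by
    refine ⟨inv_mem hg.1, ?_⟩
    have e : g⁻¹ = g ^ 3 := inv_eq_of_mul_eq_one_right (Units.ext (by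
      rw [← pow_succ', Units.val_pow_eq_pow_val, hg.2.pow_four h2 hπ, Units.val_one]))
    rw [e, Units.val_pow_eq_pow_val]
    exact hg.2.pow h2 hπ 3

theorem mem_flatKer {K : Type*} [Field K] {h2 : (2 : K) = 0} {π : Equiv.Perm Pt} {hπ : ∀ v, π (π v) = v}
    {H : Subgroup (M9 K)ˣ} {g : (M9 K)ˣ} : g ∈ flatKer h2 hπ H ↔ g ∈ H ∧ Flat π (g : M9 K) := Iff.rfl

theorem flatKer_pGroup {K : Type*} [Field K] (h2 : (2 : K) = 0) {π : Equiv.Perm Pt} (hπ : ∀ v, π (π v) = v)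
    (H : Subgroup (M9 K)ˣ) : IsPGroup 2 (flatKer h2 hπ H) := fun g =>
  ⟨2, Subtype.ext (Units.ext (by
    rw [SubgroupClass.coe_pow, Units.val_pow_eq_pow_val]
    exact g.2.2.pow_four h2 hπ))⟩

end CfsgLib.Classical.QutritU
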