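import Cfsg.Agent.Lib.Classical.QutritU.Small.TwoFlag
import Cfsg.Agent.Lib.Classical.QutritU.FlipSpace

/-!
# The involutions of the normaliser over the field with four elements
-/

set_option autoImplicit false
set_option linter.unusedSectionVars false
set_option linter.unusedSimpArgs false
set_option linter.style.haveILetI false

namespace CfsgLib.Classical.QutritU

open Matrix CfsgLib.Classical.QutritMax

theorem twist_conj {G : Type*} [Group G] {s w : G} (hs : s * s = 1) (hw : w * w = 1) (h : (s * w) ^ 3 = 1) :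
    (s * w) * s * (s * w)⁻¹ = w := by
  have hwi := inv_eq_of_mul_eq_one_right hw
  have hsi := inv_eq_of_mul_eq_one_right hs
  rw [_root_.mul_inv_rev, hwi, hsi]
  have e : s * w * s * (w * s) * w = 1 := by
    calc s * w * s * (w * s) * w = (s * w) ^ 3 := by simp only [pow_succ, pow_zero, one_mul, mul_assoc]
      _ = 1 := h
  rw [mul_eq_one_iff_eq_inv, hwi] at e
  exact e

theorem symp_table : ∀ a b c d : ZMod 3,
    (a * a + c * b = 1 ∧ b * a + d * b = 0 ∧ a * c + c * d = 0 ∧ b * c + d * d = 1 ∧ a * d - b * c = 1) →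
    ((a = 1 ∧ b = 0 ∧ c = 0 ∧ d = 1) ∨ (a = -1 ∧ b = 0 ∧ c = 0 ∧ d = -1)) := by
  decide +kernel

variable {K : Type*} [Field K] {σ : K →+* K} {ω : K} {p : ℕ} {H : Subgroup (M9 K)ˣ}

theorem flip3_r2 (i j : ZMod 3) : flip3 K * r2 ω 0 i j = r2 ω 0 (-i) (-j) * flip3 K := by
  ext x y
  rw [mul_r2_apply, r2_mul_apply]
  simp only [flip3, of_apply, zero_add]
  by_cases e : x = -(y + i)
  · subst e
    rw [if_pos rfl, if_pos (by ring), one_mul, mul_one]
    congr 1
    ring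
  · rw [if_neg e, if_neg (fun e' => e (by linear_combination e')), zero_mul, mul_zero]

theorem flip3_sq : flip3 K * flip3 K = 1 := by
  ext x y
  rcases zmod3_cases x with rfl | rfl | rfl <;> rcases zmod3_cases y with rfl | rfl | rfl <;>
    simp +decide [flip3, Matrix.mul_apply, sum3, Matrix.one_apply]

theorem pm_flA : (pm flA : M9 K) = blk (flip3 K) := by
  ext ⟨a, b⟩ ⟨c, d⟩
  rw [pm_apply, blk_apply]
  simp only [flA_apply, Prod.mk.injEq, flip3, of_apply]
  by_cases e : a = c <;> simp [e]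

theorem flA_add (a b : Pt) : flA (a + b) = flA a + flA b := by
  simp only [flA_apply, Prod.mk_add_mk, Prod.fst_add, Prod.snd_add, neg_add]

theorem flA_sq (v : Pt) : flA (flA v) = v := by simp [flA_apply]

theorem negPt_add (a b : Pt) : Equiv.neg Pt (a + b) = Equiv.neg Pt a + Equiv.neg Pt b := neg_add a b

theorem negPt_sq (v : Pt) : Equiv.neg Pt (Equiv.neg Pt v) = v := neg_neg v

theorem negPt_Rm (h : Root ω) (k : ZMod 3) (u v : Pt) :
    (pm (Equiv.neg Pt) : M9 K) * Rm ω k u v = Rm ω k (-u) (-v) * pm (Equiv.neg Pt) := by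
  rw [Rm, Rm, Matrix.mul_smul, ← mul_assoc, pm_sh negPt_add, mul_assoc, pm_mul_dg, ← mul_assoc, Matrix.smul_mul]
  congr 4
  funext w
  simp [dot]

theorem Rm_pow_three (h : Root ω) (k : ZMod 3) (u v : Pt) : (Rm ω k u v : M9 K) ^ 3 = 1 := by
  rw [pow_succ, pow_two, Rm_mul h, Rm_mul h, ← Rm_zero (ω := ω)]
  have h3 : ∀ x : ZMod 3, x + x + x = 0 := by decide
  have hd : ∀ v u : Pt, k + k + dot v u + k + dot (v + v) u = 0 := fun v u => by
    rw [add_dot]; linear_combination h3 k + h3 (dot v u)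
  have hP : ∀ x : Pt, x + x + x = 0 := fun x => Prod.ext (h3 x.1) (h3 x.2)
  rw [hd, hP, hP]

theorem Rm_comm (h : Root ω) (k k' : ZMod 3) (u v u' v' : Pt) :
    (Rm ω k u v : M9 K) * Rm ω k' u' v' = wp ω (dot v u' - dot v' u) • (Rm ω k' u' v' * Rm ω k u v) := by
  have e : ∀ (k : ZMod 3) (u v : Pt), (Rm ω k u v : M9 K) = wp ω k • Rm ω 0 u v := fun k u v => by
    simp [Rm, wp_zero]
  rw [Rm_mul h, Rm_mul h, e (k + k' + dot v u'), e (k' + k + dot v' u), smul_smul, ← wp_add h, add_comm u u',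
    add_comm v v']
  congr 2
  ring

namespace Amb

variable (hH : Amb σ ω p H) [Finite K]
include hH

theorem in_perm (hp : p = 2) {π : Equiv.Perm Pt} (hπ : ∀ a b, π (a + b) = π a + π b) : In H (pm π : M9 K) := by
  have h := hH.in_signed hπ
  have h1 : (-1 : K) = 1 := by linear_combination -hH.two_eq hp
  rcases Int.units_eq_one_or (Equiv.Perm.sign π) with e | e <;> rw [e] at h <;> simpa [h1] using h

theorem exists_invol (hp : p = 2) {π : Equiv.Perm Pt} (hπ : ∀ a b, π (a + b) = π a + π b) (h2 : ∀ v, π (π v) = v) :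
    ∃ s ∈ hH.norH, s * s = 1 ∧ ((s : (M9 K)ˣ) : M9 K) = pm π := by
  obtain ⟨s, hs, es⟩ := hH.exists_norH (hH.in_perm hp hπ) (nor_pm hH.root hπ)
  refine ⟨s, hs, Units.ext ?_, es⟩
  rw [Units.val_mul, es, pm_mul, Units.val_one, show π * π = 1 from Equiv.ext h2, pm_one]

/-- A non-central member commuting with a member is moved to the central generator. -/
theorem exists_to_x0 {w : (M9 K)ˣ} {k : ZMod 3} {u v : Pt} (hne : ¬(u = 0 ∧ v = 0))
    (hc : (w : M9 K) * Rm ω k u v = Rm ω k u v * w) :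
    ∃ n ∈ hH.norH, ((n * w * n⁻¹ : (M9 K)ˣ) : M9 K) * x0 ω = x0 ω * ((n * w * n⁻¹ : (M9 K)ˣ) : M9 K) := by
  obtain ⟨n, hn, c, hc0, e⟩ := hH.cj_x0 k hne
  refine ⟨n, hn, smul_right_injective (M9 K) hc0 ?_⟩
  show c • _ = c • _
  rw [← Matrix.mul_smul, ← Matrix.smul_mul]
  have e2 : (c • x0 ω : M9 K) = (n : M9 K) * Rm ω k u v * ((n⁻¹ : (M9 K)ˣ) : M9 K) := by
    rw [e, mul_assoc, Units.mul_inv, mul_one]
  rw [e2]
  simp only [Units.val_mul, mul_assoc]
  rw [← mul_assoc ((n⁻¹ : (M9 K)ˣ) : M9 K) (n : M9 K) (_ * _), Units.inv_mul, one_mul, ← mul_assoc (w : M9 K) (Rm ω k u v),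
    hc, ← mul_assoc ((n⁻¹ : (M9 K)ˣ) : M9 K) (n : M9 K) (_ * _), Units.inv_mul, one_mul]
  simp only [mul_assoc]

/-- A member commuting with the central generator that acts trivially on each block has order three. -/
theorem pow_three_of_triv (hp : p = 2) {g : M9 K} (hg : U9 σ g) (hx : g * x0 ω = x0 ω * g)
    (ht : ∀ a i j, ∃ c : K, rowM g a * r2 ω 0 i j = c • (r2 ω 0 i j * rowM g a)) : g ^ 3 = 1 := by
  have hω := hH.root
  have e := bd_rowM hω hx
  rw [e, u9_bd] at hg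
  have key : ∀ a, ∃ k i j, rowM g a = r2 ω k i j := fun a => by
    obtain ⟨c, i, j, ec⟩ := eq_smul_r2 hω (ht a)
    have hc : c ≠ 0 := fun h => (hg a).det_ne (by
      rw [ec, h, zero_smul]; exact Matrix.det_zero)
    obtain ⟨k, rfl⟩ := hH.eq_wp_of_ne hp hc
    exact ⟨k, i, j, by rw [r2_eq_smul hω k, ec]⟩
  choose k i j hk using key
  rw [e, pow_succ, pow_two, bd_mul, bd_mul, ← bd_one]
  refine congrArg bd (funext fun a => ?_)
  have h3 : ∀ x : ZMod 3, x + x + x = 0 := by decide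
  rw [hk, r2_mul hω, r2_mul hω, ← r2_one (ω := ω)]
  congr 1
  · linear_combination h3 (k a) + h3 (j a * i a)
  · exact h3 _
  · exact h3 _

/-- An involution commuting with the central generator is conjugate to the reflection. -/
theorem invol_x0 (hp : p = 2) {w : (M9 K)ˣ} (hw : w ∈ hH.norH) (hww : w * w = 1) (hw1 : w ≠ 1)
    (hx : (w : M9 K) * x0 ω = x0 ω * w) {s : (M9 K)ˣ} (hs : s ∈ hH.norH) (hss : s * s = 1)
    (es : (s : M9 K) = pm flA) : ∃ n ∈ hH.norH, n * s * n⁻¹ = w := by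
  have hω := hH.root
  -- the action on the classes of the blocks
  have img : ∀ q : Pt, ∃ q' : Pt, ∀ a, ∃ k, rowM (w : M9 K) a * r2 ω 0 q.1 q.2 =
      r2 ω k q'.1 q'.2 * rowM (w : M9 K) a := by
    intro q
    obtain ⟨r, ⟨k, ⟨u₁, u₂⟩, v, rfl⟩, e⟩ := hw.2 _ (inR_blk hω 0 q.1 q.2)
    have hu : u₁ = 0 := by
      have hr : (Rm ω k (u₁, u₂) v : M9 K) * x0 ω = x0 ω * Rm ω k (u₁, u₂) v := by
        refine (Units.mul_left_inj w).1 ?_
        rw [mul_assoc, ← hx, ← mul_assoc, ← e, mul_assoc, ← dg10_comm, ← mul_assoc, hx, mul_assoc, e, ← mul_assoc]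
      have e1 : (x0 ω : M9 K) = Rm ω 0 0 (1, 0) := by simp [Rm, wp_zero, sh_zero]
      rw [e1, Rm_mul hω, Rm_mul hω] at hr
      simpa [dot] using (Rm_injective hω hr).1
    subst hu
    refine ⟨(u₂, v.2), fun a => ⟨k + v.1 * a, ?_⟩⟩
    rw [Rm_zero_eq hω, blk_eq_bd, bd_rowM hω hx, bd_mul, bd_mul] at e
    exact bd_ext e a
  choose φ hφ using img
  have hu : ∀ a, U3 σ (rowM (w : M9 K) a) := fun a => by
    have := hH.u9_of hw.1
    rw [bd_rowM hω hx, u9_bd] at this
    exact this a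
  have canc : ∀ {a : ZMod 3} {A B : M3' K}, A * rowM (w : M9 K) a = B * rowM (w : M9 K) a → A = B :=
    fun {a A B} h => by
      have := congrArg (fun X => X * adj3 σ (rowM (w : M9 K) a)) h
      simpa only [mul_assoc, mul_eq_one_comm.1 (hu a), mul_one] using this
  have add : ∀ q q', φ (q + q') = φ q + φ q' := by
    intro q q'
    obtain ⟨k, hk⟩ := hφ q 0
    obtain ⟨k', hk'⟩ := hφ q' 0
    obtain ⟨k'', hk''⟩ := hφ (q + q') 0
    have e : rowM (w : M9 K) 0 * (r2 ω 0 q.1 q.2 * r2 ω 0 q'.1 q'.2) =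
        (r2 ω k (φ q).1 (φ q).2 * r2 ω k' (φ q').1 (φ q').2) * rowM (w : M9 K) 0 := by
      rw [← mul_assoc, hk, mul_assoc, hk', ← mul_assoc]
    rw [r2_mul hω, r2_eq_smul hω (0 + 0 + _), Matrix.mul_smul, ← Prod.fst_add, ← Prod.snd_add, hk'',
      ← Matrix.smul_mul] at e
    have := canc e
    rw [r2_eq_smul hω k'', smul_smul, ← wp_add hω, ← r2_eq_smul hω, r2_mul hω] at this
    obtain ⟨-, h1, h2⟩ := r2_injective hω this
    exact Prod.ext h1 h2
  have hB2 : ∀ a, rowM (w : M9 K) a * rowM (w : M9 K) a = 1 := fun a => by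
    rw [← rowM_mul hω hx hx, ← Units.val_mul, hww, Units.val_one, rowM_one]
  have idem : ∀ q, φ (φ q) = q := by
    intro q
    obtain ⟨k, hk⟩ := hφ q 0
    obtain ⟨k', hk'⟩ := hφ (φ q) 0
    have e : r2 ω 0 q.1 q.2 = (wp ω k * wp ω k') • (r2 ω 0 (φ (φ q)).1 (φ (φ q)).2 : M3' K) := by
      calc r2 ω 0 q.1 q.2 = rowM (w : M9 K) 0 * (rowM (w : M9 K) 0 * r2 ω 0 q.1 q.2) := by
            rw [← mul_assoc, hB2, one_mul]
        _ = _ := by
            rw [hk, r2_eq_smul hω k, Matrix.smul_mul, Matrix.mul_smul, ← mul_assoc, hk', r2_eq_smul hω k',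
              Matrix.smul_mul, Matrix.smul_mul, mul_assoc, hB2, mul_one, smul_smul]
    obtain ⟨h1, h2, -⟩ := r2_smul_eq hω e
    exact (Prod.ext h1 h2).symm
  have symp : ∀ q q', (φ q).2 * (φ q').1 - (φ q').2 * (φ q).1 = q.2 * q'.1 - q'.2 * q.1 := by
    intro q q'
    obtain ⟨k, hk⟩ := hφ q 0
    obtain ⟨k', hk'⟩ := hφ q' 0
    have e := congrArg (fun A => rowM (w : M9 K) 0 * A) (r2_comm hω 0 q.1 q.2 0 q'.1 q'.2)
    simp only [Matrix.mul_smul] at e
    rw [← mul_assoc, hk, mul_assoc, hk', ← mul_assoc, ← mul_assoc (rowM _ 0), hk', mul_assoc (r2 ω k' _ _), hk, ← mul_assoc,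
      ← Matrix.smul_mul] at e
    have e' := canc e
    rw [r2_comm hω k (φ q).1] at e'
    have hne : r2 ω k' (φ q').1 (φ q').2 * r2 ω k (φ q).1 (φ q).2 ≠ (0 : M3' K) := by
      rw [r2_mul hω]
      intro h0
      have := congrFun (congrFun h0 ((φ q').1 + (φ q).1)) 0
      rw [r2_apply, if_pos (zero_add _).symm] at this
      exact wp_ne_zero hω _ this
    exact wp_injective hω (smul_left_injective K hne e')
  have lin : ∀ q : Pt, φ q = (dot ((φ (1, 0)).1, (φ (0, 1)).1) q, dot ((φ (1, 0)).2, (φ (0, 1)).2) q) := fun q => by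
    have e1 := congrFun (additive_eq_dot (f := fun q => (φ q).1) fun a b => by rw [add]; rfl) q
    have e2 := congrFun (additive_eq_dot (f := fun q => (φ q).2) fun a b => by rw [add]; rfl) q
    exact Prod.ext e1 e2
  generalize hA : φ (1, 0) = P at lin
  generalize hB : φ (0, 1) = Q at lin
  obtain ⟨a, b⟩ := P
  obtain ⟨c, d⟩ := Q
  have c1 := idem (1, 0)
  have c2 := idem (0, 1)
  have c3 := symp (0, 1) (1, 0)
  rw [hA] at c1 c3
  rw [hB] at c2 c3
  rw [lin] at c1 c2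
  simp only [dot, Prod.ext_iff] at c1 c2
  simp only at c3
  rcases symp_table a b c d ⟨by linear_combination c1.1, by linear_combination c1.2, by linear_combination c2.1,
    by linear_combination c2.2, by linear_combination c3⟩ with ⟨rfl, rfl, rfl, rfl⟩ | ⟨rfl, rfl, rfl, rfl⟩
  · exfalso
    have h3 := hH.pow_three_of_triv hp (hH.u9_of hw.1) hx fun a i j => by
      obtain ⟨k, hk⟩ := hφ (i, j) a
      refine ⟨wp ω k, ?_⟩
      rw [lin] at hk
      simp only [dot, one_mul, zero_mul, add_zero, zero_add] at hk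
      rw [hk, r2_eq_smul hω k, Matrix.smul_mul]
    have : w ^ 3 = 1 := Units.ext (by rw [Units.val_pow_eq_pow_val, h3, Units.val_one])
    rw [pow_succ, pow_two, hww, one_mul] at this
    exact hw1 this
  · have hsx : (s : M9 K) * x0 ω = x0 ω * s := by rw [es, pm_flA, dg10_comm]
    have h3 := hH.pow_three_of_triv hp (g := ((s * w : (M9 K)ˣ) : M9 K)) (hH.u9_of (mul_mem hs.1 hw.1))
      (by rw [Units.val_mul]; exact (Commute.mul_left hsx hx : _)) fun a i j => by
      obtain ⟨k, hk⟩ := hφ (i, j) a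
      refine ⟨wp ω k, ?_⟩
      rw [lin] at hk
      simp only [dot, neg_mul, one_mul, zero_mul, add_zero, zero_add] at hk
      rw [Units.val_mul, rowM_mul hω hsx hx, es, pm_flA, row_blk hH, mul_assoc, hk, r2_eq_smul hω k, Matrix.smul_mul,
        Matrix.mul_smul, ← mul_assoc, flip3_r2, neg_neg, neg_neg, mul_assoc]
    exact ⟨s * w, mul_mem hs hw, twist_conj hss hww (Units.ext (by
      rw [Units.val_pow_eq_pow_val, h3, Units.val_one]))⟩

/-- A member acting trivially on the standard group modulo scalars belongs to it. -/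
theorem inR_of_triv (hp : p = 2) {g : (M9 K)ˣ}
    (ht : ∀ k u v, ∃ m, (g : M9 K) * Rm ω k u v = wp ω m • (Rm ω k u v * g)) : InR ω (g : M9 K) := by
  have hω := hH.root
  obtain ⟨m₁, e₁⟩ := ht 0 0 (1, 0)
  obtain ⟨m₂, e₂⟩ := ht 0 0 (0, 1)
  obtain ⟨m₃, e₃⟩ := ht 0 (1, 0) 0
  obtain ⟨m₄, e₄⟩ := ht 0 (0, 1) 0
  obtain ⟨ρ, hρ⟩ : ∃ ρ, ρ = Rm ω 0 (m₁, m₂) (-m₃, -m₄) := ⟨_, rfl⟩
  have com : ∀ {u v : Pt} {m : ZMod 3}, (g : M9 K) * Rm ω 0 u v = wp ω m • (Rm ω 0 u v * g) →
      dot (-m₃, -m₄) u - dot v (m₁, m₂) = -m → (ρ * (g : M9 K)) * Rm ω 0 u v = Rm ω 0 u v * (ρ * g) := by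
    intro u v m e hm
    rw [mul_assoc, e, Matrix.mul_smul, ← mul_assoc, hρ, Rm_comm hω, Matrix.smul_mul, smul_smul, hm,
      wp_mul_neg hω, one_smul, ← mul_assoc]
  have d₁ := com e₁ (by simp [dot])
  have d₂ := com e₂ (by simp [dot])
  have d₃ := com e₃ (by simp [dot])
  have d₄ := com e₄ (by simp [dot])
  have ex : (xM ω : M9 K) = Rm ω 0 0 (1, 0) := by simp [Rm, wp_zero, sh_zero, xM]
  obtain ⟨c, hc⟩ := comm_bd_of_gens hω (g := ρ * (g : M9 K)) (by rw [ex]; exact d₁) (by rw [Bv]; exact d₂)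
    (by rw [Bv]; exact d₄)
  have es : (Rm ω 0 (1, 0) 0 : M9 K) = sh ((1, 0) : Pt) := by simp [Rm, wp_zero, dg, zero_dot]
  have hcc : ∀ a, c a = c 0 := by
    rw [hc, es, sh10_bd] at d₃
    have h' := congrArg (fun A => A * sh ((2, 0) : Pt)) d₃
    simp only [mul_assoc, sh_mul, show ((1, 0) : Pt) + (2, 0) = 0 by decide, sh_zero, mul_one] at h'
    have step : ∀ a, c a = c (a - 1) := fun a => by
      have := congrFun (congrFun (bd_ext h' a) 0) 0
      simpa using this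
    intro a
    rcases zmod3_cases a with rfl | rfl | rfl
    · rfl
    · simpa using step 1
    · rw [step 2, show (2 : ZMod 3) - 1 = 1 by decide, step 1, sub_self]
  have hρg : ρ * (g : M9 K) = c 0 • 1 := by
    rw [hc, ← bd_one, bd_smul]
    exact congrArg bd (funext fun a => by rw [hcc a])
  have hρu : ρ ^ 3 = 1 := hρ ▸ Rm_pow_three hω _ _ _
  have hg : (g : M9 K) = c 0 • ρ ^ 2 := by
    calc (g : M9 K) = ρ ^ 3 * g := by rw [hρu, one_mul]
      _ = c 0 • ρ ^ 2 := by rw [pow_succ, mul_assoc, hρg, Matrix.mul_smul, mul_one]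
  have hc0 : c 0 ≠ 0 := fun e => by
    rw [e, zero_smul] at hg
    exact g.ne_zero hg
  obtain ⟨k, hk⟩ := hH.eq_wp_of_ne hp hc0
  rw [hg, hk, hρ, pow_two, ← one_mul (Rm ω 0 _ _ * _), ← Matrix.smul_mul]
  exact (inR_scalar k).mul hω (InR.mul hω ⟨_, _, _, rfl⟩ ⟨_, _, _, rfl⟩)

/-- The involutions of the normaliser, up to conjugation. -/
theorem invol_cases (hp : p = 2) {w : (M9 K)ˣ} (hw : w ∈ hH.norH) (hww : w * w = 1) (hw1 : w ≠ 1)
    {s z : (M9 K)ˣ} (hs : s ∈ hH.norH) (hss : s * s = 1) (es : (s : M9 K) = pm flA)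
    (hz : z ∈ hH.norH) (hzz : z * z = 1) (ez : (z : M9 K) = pm (Equiv.neg Pt)) :
    ∃ n ∈ hH.norH, n * s * n⁻¹ = w ∨ n * z * n⁻¹ = w := by
  have hω := hH.root
  by_cases hA : ∃ (k : ZMod 3) (u v : Pt), ¬(u = 0 ∧ v = 0) ∧ (w : M9 K) * Rm ω k u v = Rm ω k u v * w
  · obtain ⟨k, u, v, hne, hc⟩ := hA
    obtain ⟨n, hn, hx⟩ := hH.exists_to_x0 hne hc
    obtain ⟨m, hm, em⟩ := hH.invol_x0 hp (w := n * w * n⁻¹) (mul_mem (mul_mem hn hw) (inv_mem hn))
      (by rw [conj_mul, hww]; group) (fun e => hw1 (conj_eq_one_iff.1 e)) hx hs hss es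
    refine ⟨n⁻¹ * m, mul_mem (inv_mem hn) hm, Or.inl ?_⟩
    calc n⁻¹ * m * s * (n⁻¹ * m)⁻¹ = n⁻¹ * (m * s * m⁻¹) * n := by group
      _ = w := by rw [em]; group
  · push Not at hA
    have hww' : (w : M9 K) * w = 1 := by rw [← Units.val_mul, hww, Units.val_one]
    have key : ∀ k u v, ∃ m, ((z * w : (M9 K)ˣ) : M9 K) * Rm ω k u v =
        wp ω m • (Rm ω k u v * ((z * w : (M9 K)ˣ) : M9 K)) := by
      intro k u v
      obtain ⟨r, ⟨k', u', v', rfl⟩, e⟩ := hw.2 (Rm ω k u v) ⟨_, _, _, rfl⟩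
      have e' : (w : M9 K) * Rm ω k' u' v' = Rm ω k u v * w := by
        calc (w : M9 K) * Rm ω k' u' v' = (w : M9 K) * ((Rm ω k' u' v' * w) * w) := by
              rw [mul_assoc (Rm ω k' u' v'), hww', mul_one]
          _ = Rm ω k u v * w := by rw [← e, ← mul_assoc, ← mul_assoc, hww', one_mul]
      have e2 : (w : M9 K) * (Rm ω k u v * Rm ω k' u' v') =
          wp ω (dot v' u - dot v u') • ((Rm ω k u v * Rm ω k' u' v') * w) := by
        rw [← mul_assoc, e, mul_assoc, e', ← mul_assoc, Rm_comm hω k' k, Matrix.smul_mul]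
      have hd : dot v' u - dot v u' = 0 := by
        generalize dot v' u - dot v u' = d at e2
        have e3 := congrArg ((w : M9 K) * ·) e2
        simp only [← mul_assoc, hww', one_mul, Matrix.mul_smul] at e3
        rw [mul_assoc (w : M9 K) (Rm ω k u v), e2, Matrix.smul_mul, smul_smul, mul_assoc _ (w : M9 K),
          hww', mul_one, ← wp_add hω] at e3
        have hd2 : wp ω (d + d) = 1 := by
          rw [Rm_mul hω] at e3
          have := congrFun (congrFun e3 ((u + u') + 0)) 0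
          have h0 : (Rm ω (k + k' + dot v u') (u + u') (v + v') : M9 K) ((u + u') + 0) 0 ≠ 0 := by
            simp [Rm, dg, sh_apply, mul_diagonal, wp_ne_zero hω]
          rw [Matrix.smul_apply, smul_eq_mul] at this
          exact (mul_eq_right₀ h0).1 this.symm
        have h0 : d + d = 0 := wp_injective hω (hd2.trans wp_zero.symm)
        have : ∀ d : ZMod 3, d + d = 0 → d = 0 := by decide
        exact this d h0
      rw [hd, wp_zero, one_smul, Rm_mul hω] at e2
      have hcen : u + u' = 0 ∧ v + v' = 0 := by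
        by_contra hne
        exact hA _ _ _ (fun h1 h2 => hne ⟨h1, h2⟩) e2
      obtain ⟨rfl, rfl⟩ : u' = -u ∧ v' = -v :=
        ⟨eq_neg_of_add_eq_zero_right hcen.1, eq_neg_of_add_eq_zero_right hcen.2⟩
      refine ⟨k' - k, ?_⟩
      have er : ∀ k u v, (Rm ω k u v : M9 K) = wp ω k • Rm ω 0 u v := fun k u v => by simp [Rm, wp_zero]
      rw [Units.val_mul, ez, mul_assoc, e, ← mul_assoc, negPt_Rm hω, neg_neg, neg_neg, er k' u v, er k u v,
        Matrix.smul_mul, Matrix.smul_mul, Matrix.smul_mul, smul_smul, ← wp_add hω, sub_add_cancel, mul_assoc]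
    obtain ⟨k, u, v, ek⟩ := hH.inR_of_triv hp key
    refine ⟨z * w, mul_mem hz hw, Or.inr (twist_conj hzz hww (Units.ext ?_))⟩
    rw [Units.val_pow_eq_pow_val, ek, Rm_pow_three hω, Units.val_one]

end Amb

end CfsgLib.Classical.QutritU
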